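import Mathlib

/-!
# The arithmetic of the orbit bounds at a point of a symplectic space

`Q` stands for `q ^ k`, the space has dimension `2 * (k + 1)`, and `R` is below the number of points.
-/

set_option autoImplicit false

namespace Cfsg.Agent.Small.SpMinIndex

theorem pow_two_mul (q k : ℕ) : q ^ (2 * k) = q ^ k * q ^ k := by rw [two_mul, pow_add]

theorem pow_two_mul_add_two (q k : ℕ) : q ^ (2 * k + 2) = q ^ k * q ^ k * (q * q) := by
  rw [pow_add, pow_two_mul, pow_two q]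

theorem one_of_small {q Q R n α c : ℕ} (hq : 3 ≤ q) (hQ : q ≤ Q) (hn : 1 ≤ n) (hc : 1 ≤ c)
    (hR : (q - 1) * R + q ≤ Q * Q * (q * q)) (h : n * α = c * (Q * Q - 1) + n) (hX : q * (n * α) ≤ R) :
    c = 1 := by
  by_contra hne
  have h2 : 2 * (Q * Q - 1) + 1 ≤ n * α := by
    have := Nat.mul_le_mul_right (Q * Q - 1) (show 2 ≤ c by omega)
    omega
  obtain ⟨t, rfl⟩ : ∃ t, q = t + 3 := ⟨q - 3, by omega⟩
  obtain ⟨s, hs⟩ : ∃ s, Q * Q = s + 2 := ⟨Q * Q - 2, by have := Nat.le_mul_self Q; omega⟩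
  rw [hs] at h2 hR
  rw [show t + 3 - 1 = t + 2 from rfl] at hR
  rw [show s + 2 - 1 = s + 1 from rfl] at h2
  nlinarith [Nat.mul_le_mul_left (t + 3) h2, Nat.mul_le_mul_left (t + 2) hX]

/-- The possible orders of an annihilator in characteristic two. -/
theorem alpha_cases {e k j n R : ℕ} (he : 2 ≤ e) (hk : 1 ≤ k) (hn : n * (2 ^ j - 1) = 2 ^ (2 * (e * k)) - 1)
    (hdvd : 2 ^ (e * k - 1) ∣ n * 2 ^ j) (hj : j ≤ 2 * (e * k))
    (hR : (2 ^ e - 1) * R + 2 ^ e ≤ 2 ^ (e * k) * 2 ^ (e * k) * (2 ^ e * 2 ^ e)) (hX : 2 ^ e * (n * 2 ^ j) ≤ R) :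
    j = 2 * (e * k) ∨ j = e * k := by
  obtain ⟨K, hK⟩ : ∃ K, K = e * k := ⟨_, rfl⟩
  have hK2 : 2 ≤ K := by rw [hK]; exact le_trans he (Nat.le_mul_of_pos_right e hk)
  rw [← hK] at hn hdvd hj hR ⊢
  have hpos : 1 < 2 ^ (2 * K) := Nat.one_lt_two_pow (by omega)
  have hodd : Odd n := by
    have h : Odd (2 ^ (2 * K) - 1) := Nat.Even.sub_odd hpos.le (Nat.even_pow.2 ⟨even_two, by omega⟩) odd_one
    rw [← hn] at h
    exact (Nat.odd_mul.1 h).1
  have hj1 : K - 1 ≤ j := (Nat.pow_dvd_pow_iff_le_right (by norm_num)).1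
    (Nat.Coprime.dvd_of_dvd_mul_left ((Nat.coprime_two_left.2 hodd).pow_left _) hdvd)
  have hjd : j ∣ 2 * K := by
    have h1 : 2 ^ j - 1 ∣ 2 ^ (2 * K) - 1 := ⟨n, by rw [← hn, mul_comm]⟩
    have h2 := Nat.pow_sub_one_gcd_pow_sub_one 2 j (2 * K)
    rw [Nat.gcd_eq_left h1] at h2
    have h3 : 2 ^ j = 2 ^ Nat.gcd j (2 * K) := by
      have a := Nat.one_le_two_pow (n := j)
      have b := Nat.one_le_two_pow (n := Nat.gcd j (2 * K))
      omega
    rw [Nat.pow_right_injective le_rfl h3]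
    exact Nat.gcd_dvd_right _ _
  by_contra hne
  push Not at hne
  rcases Nat.lt_or_ge K j with hlt | hge
  · obtain ⟨c, hc⟩ := hjd
    rcases Nat.lt_or_ge c 2 with h | h
    · interval_cases c <;> omega
    · have := Nat.mul_le_mul_left j h; omega
  have hj' : j = K - 1 := by omega
  have h2 : j ∣ 2 := (Nat.dvd_add_iff_left (show j ∣ 2 * j from dvd_mul_left j 2)).2
    (by rw [show 2 + 2 * j = 2 * K by omega]; exact hjd)
  have h2' := Nat.le_of_dvd (by norm_num) h2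
  have he3 : e ≤ K := hK ▸ Nat.le_mul_of_pos_right e hk
  interval_cases j
  · omega
  · obtain rfl : K = 2 := by omega
    obtain rfl : e = 2 := by omega
    norm_num at hn hR hX
    omega
  · obtain rfl : K = 3 := by omega
    interval_cases e
    · omega
    · norm_num at hn hR hX
      omega

theorem no_pairs {q Q P : ℕ} (hq : 4 ≤ q) (hQ : q * q ≤ Q) (hP : P * q = Q * Q)
    (h : (Q * Q - 1) * (P - q) ≤ (Q + 1) * (Q * Q)) : False := by
  have h1 : Q * q ≤ P := by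
    refine le_of_mul_le_mul_right ?_ (show 0 < q by omega)
    calc Q * q * q = Q * (q * q) := by ring
      _ ≤ Q * Q := Nat.mul_le_mul_left Q hQ
      _ = P * q := hP.symm
  obtain ⟨s, rfl⟩ : ∃ s, Q = s + 2 := ⟨Q - 2, by have := Nat.le_mul_self q; omega⟩
  obtain ⟨u, rfl⟩ : ∃ u, q = u + 4 := ⟨q - 4, by omega⟩
  have h2 : (u + 4) * (s + 1) ≤ P - (u + 4) := by
    have h3 : (s + 2) * (u + 4) = (u + 4) * (s + 1) + (u + 4) := by ring
    omega
  have h4 : (s + 2) * (s + 2) - 1 = (s + 1) * (s + 3) := by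
    have : (s + 2) * (s + 2) = (s + 1) * (s + 3) + 1 := by ring
    omega
  rw [h4] at h
  have h5 : (s + 3) * ((u + 4) * (s + 1) * (s + 1)) ≤ (s + 3) * ((s + 2) * (s + 2)) :=
    calc _ = (s + 1) * (s + 3) * ((u + 4) * (s + 1)) := by ring
      _ ≤ (s + 1) * (s + 3) * (P - (u + 4)) := Nat.mul_le_mul_left _ h2
      _ ≤ _ := h
  have h6 := le_of_mul_le_mul_left h5 (by omega)
  have hs : 14 ≤ s := by have := Nat.mul_le_mul hq hq; omega
  nlinarith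

theorem odd_pairs {q Q P R z σ n r : ℕ} (hq : 3 ≤ q) (hQ : q * q ≤ Q) (hP : P * q = Q * Q)
    (hz : 3 ≤ z) (hσ : σ ≤ Q) (hr : r * σ = z * (Q * Q)) (hn : (Q * Q - 1) * (P - q) ≤ n * (σ * σ))
    (hX : r * n ≤ R) (hR : (q - 1) * R + q ≤ Q * Q * (q * q)) : False := by
  have h1 : Q * q ≤ P := by
    refine le_of_mul_le_mul_right ?_ (show 0 < q by omega)
    calc Q * q * q = Q * (q * q) := by ring
      _ ≤ Q * Q := Nat.mul_le_mul_left Q hQ
      _ = P * q := hP.symm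
  have hQ0 : 0 < Q * Q := by nlinarith
  have hA : 3 * (Q * Q) * ((Q * Q - 1) * (P - q)) ≤ R * (Q * (Q * Q)) :=
    calc 3 * (Q * Q) * ((Q * Q - 1) * (P - q)) ≤ z * (Q * Q) * (n * (σ * σ)) :=
          Nat.mul_le_mul (Nat.mul_le_mul_right _ hz) hn
      _ = r * n * (σ * (σ * σ)) := by rw [← hr]; ring
      _ ≤ R * (Q * (Q * Q)) := Nat.mul_le_mul hX (Nat.mul_le_mul hσ (Nat.mul_le_mul hσ hσ))
  have hB : 3 * ((Q * Q - 1) * (P - q)) ≤ R * Q := by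
    refine le_of_mul_le_mul_right ?_ hQ0
    calc _ = 3 * (Q * Q) * ((Q * Q - 1) * (P - q)) := by ring
      _ ≤ _ := hA
      _ = _ := by ring
  obtain ⟨s, rfl⟩ : ∃ s, Q = s + 9 := ⟨Q - 9, by have := Nat.mul_le_mul hq hq; omega⟩
  obtain ⟨u, rfl⟩ : ∃ u, q = u + 3 := ⟨q - 3, by omega⟩
  rw [show u + 3 - 1 = u + 2 from rfl] at hR
  have h2 : (u + 3) * (s + 8) ≤ P - (u + 3) := by
    have h3 : (s + 9) * (u + 3) = (u + 3) * (s + 8) + (u + 3) := by ring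
    omega
  have h4 : (s + 9) * (s + 9) - 1 = (s + 8) * (s + 10) := by
    have : (s + 9) * (s + 9) = (s + 8) * (s + 10) + 1 := by ring
    omega
  rw [h4] at hB
  have hC : (u + 3) * (3 * (u + 2) * ((s + 8) * (s + 10) * (s + 8))) ≤
      (u + 3) * ((u + 3) * ((s + 9) * (s + 9) * (s + 9))) :=
    calc _ = (u + 2) * (3 * ((s + 8) * (s + 10) * ((u + 3) * (s + 8)))) := by ring
      _ ≤ (u + 2) * (R * (s + 9)) := Nat.mul_le_mul_left _
          (le_trans (Nat.mul_le_mul_left 3 (Nat.mul_le_mul_left _ h2)) hB)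
      _ = (u + 2) * R * (s + 9) := by ring
      _ ≤ (s + 9) * (s + 9) * ((u + 3) * (u + 3)) * (s + 9) :=
          Nat.mul_le_mul_right _ (le_trans (Nat.le_add_right _ _) hR)
      _ = _ := by ring
  have hD := le_of_mul_le_mul_left hC (by omega)
  have hE : (u + 3) * (2 * ((s + 8) * (s + 10) * (s + 8))) ≤ (u + 3) * ((s + 9) * (s + 9) * (s + 9)) :=
    le_trans (le_of_eq_of_le (by ring) (Nat.mul_le_mul_right _ (show 2 * (u + 3) ≤ 3 * (u + 2) by omega))) hD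
  have hF := le_of_mul_le_mul_left hE (by omega)
  nlinarith

theorem odd_line {q Q R z σ n r : ℕ} (hq : 3 ≤ q) (hQ : q * q ≤ Q)
    (hz : 3 ≤ z) (hσ : σ ≤ q) (hr : r * σ = z * (Q * Q)) (hn : Q * Q - 1 ≤ n * (σ - 1))
    (hX : r * n ≤ R) (hR : (q - 1) * R + q ≤ Q * Q * (q * q)) : False := by
  have hQ0 : 0 < Q * Q := by nlinarith
  have hA : 3 * (Q * Q) * (Q * Q - 1) ≤ R * (q * (q - 1)) :=
    calc 3 * (Q * Q) * (Q * Q - 1) ≤ z * (Q * Q) * (n * (σ - 1)) := Nat.mul_le_mul (Nat.mul_le_mul_right _ hz) hn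
      _ = r * n * (σ * (σ - 1)) := by rw [← hr]; ring
      _ ≤ R * (q * (q - 1)) := Nat.mul_le_mul hX (Nat.mul_le_mul hσ (Nat.sub_le_sub_right hσ 1))
  have hB : 3 * (Q * Q - 1) * (Q * Q) ≤ q * (q * q) * (Q * Q) :=
    calc _ = 3 * (Q * Q) * (Q * Q - 1) := by ring
      _ ≤ q * ((q - 1) * R) := le_of_le_of_eq hA (by ring)
      _ ≤ q * (Q * Q * (q * q)) := Nat.mul_le_mul_left q (le_trans (Nat.le_add_right _ q) hR)
      _ = _ := by ring
  have hC := le_of_mul_le_mul_right hB hQ0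
  have hD := Nat.mul_le_mul hQ hQ
  obtain ⟨u, rfl⟩ : ∃ u, q = u + 3 := ⟨q - 3, by omega⟩
  obtain ⟨s, hs⟩ : ∃ s, Q * Q = s + 1 := ⟨Q * Q - 1, by omega⟩
  rw [hs, Nat.add_sub_cancel] at hC
  nlinarith

theorem odd_one_small {q R w σ n r : ℕ} (hq : 5 ≤ q) (hσ : 3 * σ ≤ q) (hw : q + 1 ≤ 2 * w)
    (hr : r * σ = w * (q * q)) (hn : q * q - 1 ≤ n * (σ - 1))
    (hX : r * n ≤ R) (hR : (q - 1) * R + q ≤ q * q * (q * q)) : False := by
  have h9 : 9 * (σ * (σ - 1)) ≤ q * (q - 1) := by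
    calc 9 * (σ * (σ - 1)) = 3 * σ * (3 * (σ - 1)) := by ring
      _ ≤ q * (q - 1) := Nat.mul_le_mul hσ (by omega)
  have hA : 9 * ((q + 1) * (q * q) * (q * q - 1)) ≤ 2 * R * (q * (q - 1)) :=
    calc 9 * ((q + 1) * (q * q) * (q * q - 1)) ≤ 9 * (2 * w * (q * q) * (n * (σ - 1))) :=
          Nat.mul_le_mul_left 9 (Nat.mul_le_mul (Nat.mul_le_mul_right _ hw) hn)
      _ = 2 * (r * n) * (9 * (σ * (σ - 1))) := by
          rw [show 9 * (2 * w * (q * q) * (n * (σ - 1))) = 18 * (w * (q * q)) * (n * (σ - 1)) by ring, ← hr]; ring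
      _ ≤ 2 * R * (q * (q - 1)) := Nat.mul_le_mul (Nat.mul_le_mul_left 2 hX) h9
  have hB : 9 * (q + 1) * (q * q - 1) * (q * q) ≤ 2 * q * (q * q) * (q * q) :=
    calc _ = 9 * ((q + 1) * (q * q) * (q * q - 1)) := by ring
      _ ≤ 2 * R * (q * (q - 1)) := hA
      _ = 2 * q * ((q - 1) * R) := by ring
      _ ≤ 2 * q * (q * q * (q * q)) := Nat.mul_le_mul_left _ (le_trans (Nat.le_add_right _ q) hR)
      _ = _ := by ring
  have hC := le_of_mul_le_mul_right hB (by nlinarith)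
  obtain ⟨u, rfl⟩ : ∃ u, q = u + 5 := ⟨q - 5, by omega⟩
  have h4 : (u + 5) * (u + 5) - 1 = (u + 4) * (u + 6) := by
    have : (u + 5) * (u + 5) = (u + 4) * (u + 6) + 1 := by ring
    omega
  rw [h4] at hC
  nlinarith

theorem one_c {q R w c : ℕ} (hq : 4 ≤ q) (hw : q + 1 ≤ 2 * w) (hc : 2 ≤ c)
    (hX : w * q * (c * (q + 1)) ≤ R) (hR : (q - 1) * R + q ≤ q * q * (q * q)) : False := by
  have h1 : (q + 1) * q * (q + 1) ≤ R :=
    calc (q + 1) * q * (q + 1) ≤ 2 * w * q * (q + 1) := by gcongr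
      _ = w * q * (2 * (q + 1)) := by ring
      _ ≤ w * q * (c * (q + 1)) := by gcongr
      _ ≤ R := hX
  obtain ⟨u, rfl⟩ : ∃ u, q = u + 4 := ⟨q - 4, by omega⟩
  rw [show u + 4 - 1 = u + 3 from rfl] at hR
  nlinarith [Nat.mul_le_mul_left (u + 3) h1]

theorem twice_lt {q Q R M : ℕ} (hq : 2 ≤ q) (hR : (q - 1) * R + q ≤ Q * Q * (q * q))
    (h : Q * Q * (q * q) ≤ (q - 1) * (2 * M) + q) : R ≤ 2 * M := by
  have h1 : (q - 1) * R ≤ (q - 1) * (2 * M) := by omega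
  exact Nat.le_of_mul_le_mul_left h1 (by omega)

theorem weight_odd {q z ζ : ℕ} (hodd : Odd q) (hz : 1 ≤ z) (h : q - 1 ≤ 2 * (ζ * (z - 1)))
    (hζ : 1 ≤ ζ) : q + 1 ≤ 2 * (z * ζ) := by
  obtain ⟨y, rfl⟩ : ∃ y, z = y + 1 := ⟨z - 1, by omega⟩
  rw [Nat.add_sub_cancel] at h
  rw [add_mul, one_mul, mul_comm y ζ]
  obtain ⟨l, rfl⟩ := hodd
  omega

theorem weight_even {q z ζ : ℕ} (hz : 1 ≤ z) (h : q - 1 ≤ ζ * (z - 1)) (hζ : 1 ≤ ζ) : q ≤ z * ζ := by
  obtain ⟨y, rfl⟩ : ∃ y, z = y + 1 := ⟨z - 1, by omega⟩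
  rw [Nat.add_sub_cancel] at h
  rw [add_mul, one_mul, mul_comm y ζ]
  omega

end Cfsg.Agent.Small.SpMinIndex
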