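import Cfsg.Agent.Lib.Small.SpMinIndex.Compat
import Cfsg.Agent.Lib.Small.SpMinIndex.Arith

/-!
# The possible traces of a large subgroup in the radical at the base point
-/

set_option autoImplicit false
set_option linter.unusedSectionVars false

namespace Cfsg.Agent.Small.SpMinIndex

open Matrix Module Cfsg.Agent.Small.PSpn

variable {F : Type*} [Field F] [Fintype F] {k : ℕ}

local notation "Vm" => Fin (k + 1) ⊕ Fin (k + 1) → F
local notation "Gm" => Matrix.symplecticGroup (Fin (k + 1)) F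
local notation "e₀" => (se (0 : Fin (k + 1)) : Fin (k + 1) ⊕ Fin (k + 1) → F)
local notation "f₀" => (sff (0 : Fin (k + 1)) : Fin (k + 1) ⊕ Fin (k + 1) → F)
local notation "W₀" => (Wsub (0 : Fin (k + 1)) : Submodule F (Fin (k + 1) ⊕ Fin (k + 1) → F))
local notation "qF" => Fintype.card F

/-- The numerical hypotheses. -/
structure Dims (F : Type*) [Fintype F] (k : ℕ) : Prop where
  one : 1 ≤ k
  four : k = 1 → 4 ≤ Fintype.card F

/-- The cosets of `H` in the stabiliser of the point are few. -/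
structure Few (H : Subgroup Gm) : Prop where
  pts : (qF - 1) * H.relIndex Pst + qF ≤ qF ^ k * qF ^ k * (qF * qF)
  two : qF = 2 → H.relIndex Pst < 2 ^ k * (2 ^ (k + 1) - 1)

theorem q_le_pow (hd : Dims F k) : qF ≤ qF ^ k := Nat.le_self_pow (by have := hd.one; omega) _

theorem sq_le_pow (hd : Dims F k) (hk : k ≠ 1) : qF * qF ≤ qF ^ k := by
  rw [← pow_two]; exact Nat.pow_le_pow_right Fintype.card_pos (by have := hd.one; omega)

theorem odd_card (h2 : (2 : F) ≠ 0) : Odd qF := by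
  have hp : ringChar F ≠ 2 := fun e => h2 (by
    have := ringChar.Nat.cast_ringChar (R := F)
    rw [e] at this; exact_mod_cast this)
  exact Nat.odd_iff.2 (FiniteField.odd_card_of_char_ne_two hp)

theorem bound_zc (H : Subgroup Gm) :
    zc H * al H * ((St0 H).relIndex Lev * (St1 H).relIndex Pst) ≤ H.relIndex Pst :=
  r_eq H ▸ bound (Rad_le_St0 H) (inf_le_St0 H) (St0_le_St1 H)

/-- In odd characteristic the projection is isotropic. -/
theorem sig_sq_le (h2 : (2 : F) ≠ 0) {H : Subgroup Gm} (hz : 1 < zc H) :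
    Nat.card (Sb H) ≤ qF ^ k := by
  haveI := prime_ringChar (F := F)
  letI : Module (ZMod (ringChar F)) W₀ := AddCommGroup.zmodModule fun x => by
    rw [← Nat.cast_smul_eq_nsmul F, ringChar.Nat.cast_ringChar, zero_smul]
  obtain ⟨x, hx, hx0⟩ := exists_Lam hz
  let f : W₀ →+ W₀ →+ ZMod (ringChar F) :=
    (wpair (F := F) (k := k)).comp (DistribSMul.toAddMonoidHom W₀ x)
  have hf : ∀ u w : W₀, f u w = chi F (x * sf u.1 w.1) := fun u w => by
    show chi F (sf (x • u : W₀).1 w.1) = _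
    rw [Submodule.coe_smul, sf_smul_left]
  have hl : ∀ u, (∀ w, f u w = 0) → u = 0 := fun u hu =>
    (smul_eq_zero.1 (wpair_left (u := x • u) hu)).resolve_left hx0
  have hr : ∀ w, (∀ u, f u w = 0) → w = 0 := fun w hw => hl w fun u => by
    rw [hf, sf_swap u.1 w.1, mul_neg, map_neg, ← hf, hw u, neg_zero]
  let A : AddSubgroup W₀ := (Sb H).comap (Submodule.toAddSubgroup W₀).subtype
  have hA : Nat.card A = Nat.card (Sb H) := Nat.card_congr
    { toFun := fun z => ⟨z.1.1, z.2⟩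
      invFun := fun z => ⟨⟨z.1, z.2.1⟩, z.2⟩
      left_inv := fun z => rfl
      right_inv := fun z => rfl }
  have hp : (2 : ZMod (ringChar F)) ≠ 0 := fun e => h2 (by
    haveI := ringChar.charP F
    have e' : ((2 : ℕ) : ZMod (ringChar F)) = 0 := by exact_mod_cast e
    rw [ZMod.natCast_eq_zero_iff] at e'
    have := (CharP.cast_eq_zero_iff F (ringChar F) 2).2 e'
    exact_mod_cast this)
  have hiso : ∀ w ∈ A, ∀ u ∈ A, f w u = 0 := by
    intro w hw u hu
    have h := hx _ (two_sf_mem (show w.1 ∈ Sb H from hw) (show u.1 ∈ Sb H from hu))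
    rw [show 2 * sf w.1 u.1 * x = x * sf w.1 u.1 + x * sf w.1 u.1 by ring, map_add, ← two_mul, ← hf] at h
    exact (mul_eq_zero.1 h).resolve_left hp
  have h := card_mul_card_ann (ringChar F) f hl hr A
  have hle : Nat.card A ≤ Nat.card {y // ∀ w ∈ A, f w y = 0} :=
    Nat.card_le_card_of_injective (fun u : A => ⟨u.1, fun w hw => hiso w hw u.1 u.2⟩)
      fun u v e => Subtype.ext (congrArg (fun z : {y // ∀ w ∈ A, f w y = 0} => z.1) e)
  rw [card_W, pow_two_mul] at h
  rw [← hA]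
  exact Nat.mul_self_le_mul_self_iff.1 (h ▸ Nat.mul_le_mul_left _ hle)

theorem exists_indep {D : Set Vm} (h1 : 1 < D.ncard) (h : qF < D.ncard) :
    ∃ v ∈ D, ∃ w ∈ D, v ≠ 0 ∧ w ∉ F ∙ v := by
  obtain ⟨v, hv, hv0⟩ := Set.exists_ne_of_one_lt_ncard h1 0
  by_contra hcon
  push Not at hcon
  have : D ⊆ Set.range fun c : F => c • v := fun w hw =>
    Submodule.mem_span_singleton.1 (hcon v hv w hw hv0)
  have h2 := Set.ncard_le_ncard this
  rw [← Set.image_univ] at h2
  have h3 := (Set.ncard_image_le (f := fun c : F => c • v) (s := Set.univ))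
  rw [Set.ncard_univ, Nat.card_eq_fintype_card] at h3
  omega

theorem classify_even (hd : Dims F k) (h2 : (2 : F) = 0) {H : Subgroup Gm} (hF : Few H) (hz : 1 < zc H) :
    al H = 1 ∨ Nat.card (Sb H) = 1 ∨ (k = 1 ∧ Nat.card (Sb H) = qF) := by
  haveI : CharP F 2 := CharTwo.of_one_ne_zero_of_two_eq_zero one_ne_zero h2
  by_cases hal : al H = 1
  · exact Or.inl hal
  right
  have hal1 : 1 < al H := by have := al_pos H; omega
  obtain ⟨n, hn_def⟩ : ∃ n, n = (StF H).relIndex Lev := ⟨_, rfl⟩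
  have hn1 : 1 ≤ n := hn_def ▸ relIndex_pos _ _
  obtain ⟨c, hc, hc1⟩ := cover_Ann H (St := StF H) fun g hg hL z hz => Sb_of_StF hg hL hz
  rw [← hn_def, pow_two_mul] at hc
  have hXeq : n * al H = c * (qF ^ k * qF ^ k - 1) + n := by
    obtain ⟨a, ha⟩ : ∃ a, al H = a + 1 := ⟨al H - 1, by omega⟩
    rw [ha, Nat.add_sub_cancel] at hc
    rw [ha, mul_add, mul_one, hc]
  have hw : qF ≤ zc H * (St1 H).relIndex Pst :=
    weight_even (zc_pos H) (zeta_even h2 hz) (relIndex_pos _ _)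
  have hX : qF * (n * al H) ≤ H.relIndex Pst := by
    refine le_trans (Nat.mul_le_mul_right _ hw) (le_trans (le_of_eq ?_)
      (bound (Rad_le_StF h2 H) (inf_le_StF H) (StF_le_St1 H)))
    rw [r_eq, ← hn_def]; ring
  obtain ⟨⟨e, he0⟩, -, he⟩ := FiniteField.card F 2
  simp only [PNat.mk_coe] at he
  rcases Nat.lt_or_ge qF 3 with hq | hq
  · exfalso
    have hq2 : qF = 2 := by have := Fintype.one_lt_card (α := F); omega
    have h := hF.two hq2
    rw [hq2] at hX hXeq
    have hpos : 1 ≤ 2 ^ k * 2 ^ k := Nat.one_le_iff_ne_zero.2 (by positivity)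
    have h3 : 2 ^ k * (2 ^ (k + 1) - 1) + 2 ^ k = 2 * (2 ^ k * 2 ^ k) := by
      rw [pow_succ]
      obtain ⟨t, ht⟩ : ∃ t, 2 ^ k = t + 1 := ⟨2 ^ k - 1, by have := Nat.one_le_two_pow (n := k); omega⟩
      rw [ht, show (t + 1) * 2 - 1 = 2 * t + 1 by omega]
      ring
    have h4 := Nat.le_mul_of_pos_left (2 ^ k * 2 ^ k - 1) (hc1 hal1)
    generalize 2 ^ k * (2 ^ (k + 1) - 1) = B at h h3
    generalize 2 ^ k * 2 ^ k = S at h3 h4 hXeq hpos
    generalize c * (S - 1) = C at h4 hXeq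
    have : 1 ≤ 2 ^ k := Nat.one_le_two_pow
    omega
  have hc' := one_of_small (Q := qF ^ k) hq (q_le_pow hd) hn1 (hc1 hal1) hF.pts hXeq hX
  subst hc'
  rw [one_mul] at hc
  obtain ⟨j, hj, hαj⟩ := (Nat.dvd_prime_pow Nat.prime_two).1
    (show al H ∣ 2 ^ (2 * (e * k)) from ⟨Nat.card (Sb H), by
      rw [al_mul, he, ← pow_mul]; congr 1; ring⟩)
  have he2 : 2 ≤ e := by
    rcases Nat.lt_or_ge e 2 with h | h
    · interval_cases e; omega
    · exact h
  have hQ : qF ^ k = 2 ^ (e * k) := by rw [he, ← pow_mul]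
  obtain ⟨c₁, c₂, -, hcl⟩ := cover_forms hz
  have hdvd : 2 ^ (e * k - 1) ∣ n * al H := by
    refine Nat.dvd_of_mul_dvd_mul_left two_pos ?_
    rw [← pow_succ', Nat.sub_add_cancel (by nlinarith [hd.one] : 1 ≤ e * k), ← hQ, ← Int.natCast_dvd_natCast]
    refine ⟨(c₁ : ℤ) * ((qF : ℤ) ^ k + 1) + (c₂ : ℤ) * ((qF : ℤ) ^ k - 1), ?_⟩
    rw [hn_def]
    push_cast
    rw [hcl, pow_mul, pow_two]
    ring
  have hR := hF.pts
  rw [hQ, he] at hR
  rw [he] at hX
  rw [hαj] at hdvd hX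
  rw [hQ, hαj] at hc
  rcases alpha_cases (R := H.relIndex Pst) he2 hd.one (by rw [two_mul (e * k), pow_add]; exact hc) hdvd hj hR hX
    with hjv | hjv
  · left
    have h := al_mul H
    rw [hαj, hjv, pow_two_mul, ← pow_two_mul, he, ← pow_mul, show 2 * (e * k) = e * (2 * k) by ring] at h
    exact (Nat.mul_eq_left (by positivity)).1 h
  have hαQ : al H = qF ^ k := by rw [hαj, hjv, hQ]
  by_cases hk : k = 1
  · right
    refine ⟨hk, ?_⟩
    have h := al_mul H
    rw [hαQ, pow_two_mul] at h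
    rw [Nat.eq_of_mul_eq_mul_left (pow_pos Fintype.card_pos k) h, hk, pow_one]
  exfalso
  have hnQ : n = qF ^ k + 1 := by
    rw [hjv, ← hQ] at hc
    have h1 : qF ≤ qF ^ k := q_le_pow hd
    refine Nat.eq_of_mul_eq_mul_right (show 0 < qF ^ k - 1 by omega) (hc.trans ?_)
    obtain ⟨t, ht⟩ : ∃ t, qF ^ k = t + 1 := ⟨qF ^ k - 1, by omega⟩
    rw [ht, Nat.add_sub_cancel, show (t + 1) * (t + 1) = (t + 1 + 1) * t + 1 by ring, Nat.add_sub_cancel]
  have hbig : qF < (Ann H).ncard := by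
    show qF < al H
    rw [hαQ]
    calc qF < qF * qF := by nlinarith
      _ ≤ qF ^ k := sq_le_pow hd hk
  obtain ⟨v, hv, w, hw', hv0, hwv⟩ := exists_indep (by omega) hbig
  have hp := cover_pairs (St := StF H) hd.one (Ann H) (fun g hg hL u hu => ⟨Lev_W hL hu.1, fun z hz => by
    have := hu.2 _ (Sb_of_StF (inv_mem hg) (inv_mem hL) hz)
    rwa [← sf_act g, act_act_inv] at this⟩) hv hw' hv.1 hw'.1 hv0 hwv
  rw [pow_two_mul, ← hn_def, hnQ, show (Ann H).ncard = qF ^ k from hαQ] at hp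
  exact no_pairs (q := qF) (by
      have : qF ≠ 3 := fun h3 => by
        rw [he] at h3
        obtain ⟨d, rfl⟩ : ∃ d, e = d + 2 := ⟨e - 2, by omega⟩
        rw [pow_add] at h3; omega
      omega)
    (sq_le_pow hd hk) (by rw [← pow_succ, ← pow_two_mul]; congr 1; have := hd.one; omega) hp

theorem three_le_zc (h2 : (2 : F) ≠ 0) {H : Subgroup Gm} (hz : 1 < zc H) : 3 ≤ zc H := by
  have hodd : Odd (zc H) := (Nat.odd_mul.1 (zc_mul H ▸ odd_card h2)).1
  obtain ⟨l, hl⟩ := hodd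
  omega

theorem classify_odd (hd : Dims F k) (h2 : (2 : F) ≠ 0) {H : Subgroup Gm} (hF : Few H) (hz : 1 < zc H) :
    Nat.card (Sb H) = 1 ∨ (k = 1 ∧ Nat.card (Sb H) = qF) := by
  by_cases hσ : Nat.card (Sb H) = 1
  · exact Or.inl hσ
  refine Or.inr ?_
  have hσ1 : 1 < Nat.card (Sb H) := by have := card_Sb_pos H; omega
  have hσQ := sig_sq_le h2 hz
  have hz3 := three_le_zc h2 hz
  have hq3 : 3 ≤ qF := by
    have := Nat.le_of_dvd Fintype.card_pos ⟨Nat.card (Z1 H), (zc_mul H).symm⟩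
    omega
  have hr : H.relIndex Rad * Nat.card (Sb H) = zc H * (qF ^ k * qF ^ k) := by rw [r_mul_sig, pow_two_mul]
  have hbound := bound (Rad_le_St0 H) (inf_le_St0 H) (St0_le_St1 H)
  have hX : H.relIndex Rad * (St0 H).relIndex Lev ≤ H.relIndex Pst :=
    le_trans (Nat.mul_le_mul_left _ (Nat.le_mul_of_pos_right _ (relIndex_pos _ _))) hbound
  obtain ⟨c, hc, hc1, -⟩ := cover_Sb H (St := St0 H) fun g hg hL z hz => Sb_of_St0 hg hL hz
  rw [pow_two_mul] at hc
  have hn : qF ^ k * qF ^ k - 1 ≤ (St0 H).relIndex Lev * (Nat.card (Sb H) - 1) :=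
    hc ▸ Nat.le_mul_of_pos_left _ (hc1 hσ1)
  by_cases hk : k = 1
  · refine ⟨hk, ?_⟩
    subst hk
    rw [pow_one] at hσQ hr hn
    have h5 : 5 ≤ qF := by
      have := hd.four rfl
      obtain ⟨l, hl⟩ := odd_card h2
      omega
    by_contra hne
    have hσlt : Nat.card (Sb H) < qF := lt_of_le_of_ne hσQ hne
    obtain ⟨p, hp⟩ := CharP.exists F
    obtain ⟨⟨e, he0⟩, hpp, he⟩ := FiniteField.card F p
    simp only [PNat.mk_coe] at he
    have hdvd : Nat.card (Sb H) ∣ p ^ (2 * e) := ⟨al H, by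
      rw [mul_comm (Nat.card _), al_mul, he, ← pow_mul]; congr 1; ring⟩
    obtain ⟨i, -, hi⟩ := (Nat.dvd_prime_pow hpp).1 hdvd
    have hie : i < e := (Nat.pow_lt_pow_iff_right hpp.one_lt).1 (hi ▸ he ▸ hσlt)
    have h3 : 3 * Nat.card (Sb H) ≤ qF := by
      have hp3 : 3 ≤ p := by
        rcases Nat.lt_or_ge p 3 with h | h
        · exfalso
          have : p = 2 := by have := hpp.two_le; omega
          subst this
          exact h2 (by exact_mod_cast CharP.cast_eq_zero F 2)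
        · exact h
      rw [hi, he]
      calc 3 * p ^ i ≤ p * p ^ i := Nat.mul_le_mul_right _ hp3
        _ = p ^ (i + 1) := by rw [pow_succ']
        _ ≤ p ^ e := Nat.pow_le_pow_right hpp.pos hie
    have hw := weight_odd (odd_card h2) (zc_pos H) (zeta_odd hz) (relIndex_pos (St1 H) Pst)
    have hR := hF.pts
    rw [pow_one] at hR
    exact odd_one_small (r := H.relIndex Rad * (St1 H).relIndex Pst) h5 h3 hw (by rw [mul_right_comm, hr]; ring)
      hn (le_of_eq_of_le (by ring) hbound) hR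
  · exfalso
    rcases Nat.lt_or_ge qF (Nat.card (Sb H)) with hbig | hsmall
    · obtain ⟨v, hv, w, hw, hv0, hwv⟩ := exists_indep (D := (Sb H : Set Vm))
        (by rw [← Nat.card_coe_set_eq]; exact hσ1) (by rw [← Nat.card_coe_set_eq]; exact hbig)
      have hp := cover_pairs (St := St0 H) hd.one (Sb H : Set Vm) (fun g hg hL u hu => Sb_of_St0 hg hL hu)
        hv hw hv.1 hw.1 hv0 hwv
      rw [pow_two_mul, ← Nat.card_coe_set_eq] at hp
      exact odd_pairs (q := qF) hq3 (sq_le_pow hd hk)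
        (by rw [← pow_succ, ← pow_two_mul]; congr 1; have := hd.one; omega) hz3 hσQ hr hp hX hF.pts
    · exact odd_line hq3 (sq_le_pow hd hk) hz3 hsmall hr hn hX hF.pts

theorem classify (hd : Dims F k) {H : Subgroup Gm} (hF : Few H) (hz : 1 < zc H) :
    ((2 : F) = 0 ∧ al H = 1) ∨ Nat.card (Sb H) = 1 ∨ (k = 1 ∧ Nat.card (Sb H) = qF) := by
  by_cases h2 : (2 : F) = 0
  · exact (classify_even hd h2 hF hz).imp_left fun h => ⟨h2, h⟩
  · exact Or.inr (classify_odd hd h2 hF hz)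

/-- Very few cosets: the whole radical lies in `H`. -/
theorem rad_le_of_small {H : Subgroup Gm} (hk : 1 ≤ k)
    (hR : H.relIndex Pst + qF ^ k < qF ^ k * qF ^ k) : (Rad : Subgroup Gm) ≤ H := by
  rw [← Subgroup.relIndex_eq_one, r_eq]
  have hal : al H = 1 := by
    by_contra hne
    have hal1 : 1 < al H := by have := al_pos H; omega
    obtain ⟨c, hc, hc1⟩ := cover_Ann H (St := St0 H) fun g hg hL z hz => Sb_of_St0 hg hL hz
    rw [pow_two_mul] at hc
    have hb := bound_zc H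
    have hn1 := relIndex_pos (St0 H) (Lev : Subgroup Gm)
    have h1 : (St0 H).relIndex Lev * al H ≤ H.relIndex Pst := by
      refine le_trans ?_ hb
      calc (St0 H).relIndex Lev * al H = 1 * al H * ((St0 H).relIndex Lev * 1) := by ring
        _ ≤ _ := Nat.mul_le_mul (Nat.mul_le_mul_right _ (zc_pos H)) (Nat.mul_le_mul_left _ (relIndex_pos _ _))
    have h2 := Nat.le_mul_of_pos_left (qF ^ k * qF ^ k - 1) (hc1 hal1)
    have h3 : (St0 H).relIndex Lev * al H = (St0 H).relIndex Lev * (al H - 1) + (St0 H).relIndex Lev := by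
      conv_lhs => rw [← Nat.sub_add_cancel (al_pos H), mul_add, mul_one]
    omega
  rw [hal, mul_one]
  by_contra hne
  have hz : 1 < zc H := by have := zc_pos H; omega
  have hσ : Nat.card (Sb H) = qF ^ k * qF ^ k := by
    rw [← pow_two_mul, ← al_mul H, hal, one_mul]
  by_cases h2 : (2 : F) = 0
  · haveI : CharP F 2 := CharTwo.of_one_ne_zero_of_two_eq_zero one_ne_zero h2
    obtain ⟨c₁, c₂, hc, hcl⟩ := cover_forms hz
    have hw : qF ≤ zc H * (St1 H).relIndex Pst := weight_even (zc_pos H) (zeta_even h2 hz) (relIndex_pos _ _)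
    have hb := bound (Rad_le_StF h2 H) (inf_le_StF H) (StF_le_St1 H)
    rw [r_eq, hal, mul_one] at hb
    have h2n : 2 * (StF H).relIndex Lev ≤ H.relIndex Pst :=
      le_trans (Nat.mul_le_mul_right _ (le_trans Fintype.one_lt_card hw)) (le_of_eq_of_le (by ring) hb)
    have hR' : (H.relIndex Pst : ℤ) + (qF : ℤ) ^ k < (qF : ℤ) ^ k * (qF : ℤ) ^ k := by exact_mod_cast hR
    have h2n' : 2 * ((StF H).relIndex Lev : ℤ) ≤ H.relIndex Pst := by exact_mod_cast h2n
    rw [hal, Nat.cast_one, mul_one, two_mul k, pow_add] at hcl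
    have hQ1 : (1 : ℤ) ≤ (qF : ℤ) ^ k := one_le_pow₀ (by exact_mod_cast Fintype.card_pos)
    have hc' : (1 : ℤ) ≤ (c₁ : ℤ) + c₂ := by exact_mod_cast hc
    nlinarith [mul_nonneg (show (0 : ℤ) ≤ c₁ from Nat.cast_nonneg _) (show (0 : ℤ) ≤ 2 * (qF : ℤ) ^ k by positivity),
      mul_nonneg (show (0 : ℤ) ≤ (c₁ : ℤ) + c₂ - 1 by linarith)
        (show (0 : ℤ) ≤ (qF : ℤ) ^ k * (qF : ℤ) ^ k - (qF : ℤ) ^ k by nlinarith)]
  · have h1 := sig_sq_le h2 hz
    rw [hσ] at h1
    have h3 : 1 < qF ^ k := Nat.one_lt_pow (by omega) Fintype.one_lt_card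
    have := Nat.mul_lt_mul_of_pos_left h3 (show 0 < qF ^ k by omega)
    omega

end Cfsg.Agent.Small.SpMinIndex
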