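import Cfsg.Agent.Lib.Small.SpMinIndex.Forms

/-!
# The forms compatible with the part of a subgroup in the radical, characteristic two
-/

set_option autoImplicit false
set_option linter.unusedSectionVars false

namespace Cfsg.Agent.Small.SpMinIndex

open Matrix Module Cfsg.Agent.Small.PSpn Cfsg.Agent.Small.ArfTwo

variable {F : Type*} [Field F] [Fintype F] [CharP F 2] {k : ℕ}

local notation "Vm" => Fin (k + 1) ⊕ Fin (k + 1) → F
local notation "Gm" => Matrix.symplecticGroup (Fin (k + 1)) F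
local notation "e₀" => (se (0 : Fin (k + 1)) : Fin (k + 1) ⊕ Fin (k + 1) → F)
local notation "f₀" => (sff (0 : Fin (k + 1)) : Fin (k + 1) ⊕ Fin (k + 1) → F)
local notation "W₀" => (Wsub (0 : Fin (k + 1)) : Submodule F (Fin (k + 1) ⊕ Fin (k + 1) → F))

/-- The forms for which a character of the radical kills the part of `H`. -/
def Dl (H : Subgroup Gm) (x : F) : Set (Vm → F) :=
  {φ | φ ∈ Fr ({e₀, f₀} : Set Vm) ∧ ∀ z ∈ W₀, ∀ a, el z a ∈ H → chi F (x * (a + φ z)) = 0}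

/-- The pairing by squares. -/
noncomputable def qpair (x : F) : W₀ →+ W₀ →+ ZMod (ringChar F) :=
  AddMonoidHom.mk' (fun u => AddMonoidHom.mk' (fun z => chi F (x * sf u.1 z.1 ^ 2))
    fun z w => by rw [Submodule.coe_add, sf_add_right, CharTwo.add_sq, mul_add, map_add])
    fun u v => AddMonoidHom.ext fun z => by
      show chi F (x * sf (u + v : W₀).1 z.1 ^ 2) = chi F (x * sf u.1 z.1 ^ 2) + chi F (x * sf v.1 z.1 ^ 2)
      rw [Submodule.coe_add, sf_add_left, CharTwo.add_sq, mul_add, map_add]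

theorem qpair_apply (x : F) (u z : W₀) : qpair x u z = chi F (x * sf u.1 z.1 ^ 2) := rfl

theorem qpair_left {x : F} (hx : x ≠ 0) {u : W₀} (h : ∀ z, qpair x u z = 0) : u = 0 := by
  by_contra hu
  obtain ⟨y, hy, hne⟩ := exists_W_ne u.2 fun e => hu (Subtype.ext e)
  refine hne ?_
  have h1 : x * sf u.1 y ^ 2 = 0 := eq_zero_of_chi fun s => by
    obtain ⟨r, hr⟩ := FiniteField.isSquare_of_char_two (ringChar.eq F 2) s
    have := h ⟨r • y, Submodule.smul_mem W₀ r hy⟩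
    rw [qpair_apply, sf_smul_right, mul_pow] at this
    rw [← this, hr]
    congr 1
    ring
  simpa [hx] using h1

theorem qpair_right {x : F} (hx : x ≠ 0) {u : W₀} (h : ∀ z, qpair x z u = 0) : u = 0 :=
  qpair_left hx fun z => by rw [qpair_apply, sf_symm]; exact h z

theorem card_Dl {H : Subgroup Gm} {x : F} (hx : x ∈ Lam H) (hx0 : x ≠ 0) : (Dl H x).ncard = al H := by
  haveI := prime_ringChar (F := F)
  letI : Module (ZMod (ringChar F)) W₀ := AddCommGroup.zmodModule fun x => by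
    rw [← Nat.cast_smul_eq_nsmul F, ringChar.Nat.cast_ringChar, zero_smul]
  let A : AddSubgroup W₀ := (Sb H).comap (Submodule.toAddSubgroup W₀).subtype
  have hA : Nat.card A = Nat.card (Sb H) := Nat.card_congr
    { toFun := fun z => ⟨z.1.1, z.2⟩
      invFun := fun z => ⟨⟨z.1, z.2.1⟩, z.2⟩
      left_inv := fun z => rfl
      right_inv := fun z => rfl }
  choose a ha using fun z : A => (show z.1.1 ∈ Sb H from z.2).2
  let φ := (stdForm : Vm → F)
  have hφ := stdForm_mem (F := F) (k := k)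
  have huniq : ∀ (z : A) (b : F), el z.1.1 b ∈ H → chi F (x * b) = chi F (x * a z) := by
    intro z b hb
    have h := H.mul_mem (H.inv_mem (ha z)) hb
    rw [el_inv _ z.1.2, el_mul _ _ (Submodule.neg_mem W₀ z.1.2) z.1.2, neg_add_cancel, sf_neg_left, sf_self,
      neg_zero, add_zero, el_eq_tv] at h
    have h1 := hx _ h
    rw [mul_comm, mul_add, mul_neg, map_add, map_neg, neg_add_eq_zero] at h1
    exact h1.symm
  let l : A →+ ZMod (ringChar F) := AddMonoidHom.mk' (fun z => chi F (x * (a z + φ z.1.1))) fun z w => by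
    have h := huniq (z + w) _ (el_mul (a z) (a w) z.1.2 w.1.2 ▸ H.mul_mem (ha z) (ha w))
    simp only [mul_add, map_add, AddSubgroup.coe_add, Submodule.coe_add, hφ.1, φ] at h ⊢
    rw [← h]
    have e : chi F (x * sf z.1.1 w.1.1) + chi F (x * sf z.1.1 w.1.1) = 0 := by
      rw [← map_add, CharTwo.add_self_eq_zero, map_zero]
    linear_combination e
  obtain ⟨u, hu⟩ := exists_pairing (ringChar F) (qpair (k := k) x) (fun _ => qpair_left hx0) (fun _ => qpair_right hx0) A l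
  have hψ : shift φ u.1 ∈ Fr ({e₀, f₀} : Set Vm) := shift_mem frame_W hφ u.2
  have hmem : ∀ v : W₀, shift φ v.1 ∈ Dl H x ↔ ∀ w ∈ A, qpair x w (v + u) = 0 := by
    intro v
    have hiff : ∀ w : A, ∀ b, el w.1.1 b ∈ H →
        (chi F (x * (b + shift φ v.1 w.1.1)) = qpair x w.1 (v + u)) := by
      intro w b hb
      rw [mul_add, map_add, huniq w b hb, shift, qpair_apply, Submodule.coe_add, sf_add_right, CharTwo.add_sq,
        sf_symm v.1 w.1.1, sf_symm u.1 w.1.1, mul_add x (sf v.1 w.1.1 ^ 2), map_add, ← qpair_apply x u w.1, hu w]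
      show _ = _ + chi F (x * (a w + φ w.1.1))
      simp only [mul_add, map_add]
      ring
    constructor
    · intro h w hw
      rw [← hiff ⟨w, hw⟩ _ (ha ⟨w, hw⟩)]
      exact h.2 _ w.2 _ (ha ⟨w, hw⟩)
    · refine fun h => ⟨shift_mem frame_W hφ v.2, fun z hz b hb => ?_⟩
      rw [hiff ⟨⟨z, hz⟩, hz, b, hb⟩ b hb]
      exact h ⟨z, hz⟩ ⟨hz, b, hb⟩
  let S : Set W₀ := {v | ∀ w ∈ A, qpair x w v = 0}
  clear_value l
  have e : Dl H x = (fun v : W₀ => shift φ (v - u).1) '' S := by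
    refine Set.Subset.antisymm (fun ψ hψD => ?_) ?_
    · obtain ⟨v, hv, rfl⟩ := exists_shift_eq frame_W hφ hψD.1
      obtain ⟨v', rfl⟩ : ∃ v' : W₀, v'.1 = v := ⟨⟨v, hv⟩, rfl⟩
      have h1 : ∀ w ∈ A, qpair x w (v' + u) = 0 := (hmem v').1 hψD
      refine ⟨v' + u, h1, ?_⟩
      simp only [add_sub_cancel_right, φ]
    · rintro _ ⟨v, hv, rfl⟩
      exact (hmem _).2 (by rw [sub_add_cancel]; exact hv)
  have h := card_mul_card_ann (ringChar F) (qpair (k := k) x) (fun _ => qpair_left hx0) (fun _ => qpair_right hx0) A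
  rw [hA, card_W, ← al_mul H, mul_comm (al H)] at h
  rw [e, Set.ncard_image_of_injective _ (fun v w h => sub_left_injective (Subtype.ext (shift_inj φ h))),
    ← Nat.card_coe_set_eq]
  exact Nat.eq_of_mul_eq_mul_left (card_Sb_pos H) h

/-- The class equation of the compatible forms. -/
theorem cover_forms {H : Subgroup Gm} (hz : 1 < zc H) :
    ∃ c₁ c₂ : ℕ, 1 ≤ c₁ + c₂ ∧ (2 * ((StF H).relIndex Lev * al H) : ℤ) =
      c₁ * ((Fintype.card F : ℤ) ^ (2 * k) + (Fintype.card F : ℤ) ^ k) +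
      c₂ * ((Fintype.card F : ℤ) ^ (2 * k) - (Fintype.card F : ℤ) ^ k) := by
  obtain ⟨x, hx, hx0⟩ := exists_Lam hz
  let a : ↥(Lev : Subgroup Gm) → (Vm → F) → (Vm → F) := fun g φ y => φ (act (g.1⁻¹) y)
  have hfix : ∀ g : (Lev : Subgroup Gm), ∀ y ∈ ({e₀, f₀} : Set Vm), act g.1⁻¹ y = y := by
    intro g y hy
    have h := inv_mem g.2
    rcases hy with rfl | rfl
    exacts [h.1, h.2]
  have hC : ∀ s : ℤ, ∃ c, (StF H).relIndex Lev * (Dl H x ∩ Cl {e₀, f₀} W₀ s).ncard = c * (Cl {e₀, f₀} W₀ s).ncard ∧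
      ((Dl H x ∩ Cl {e₀, f₀} W₀ s).Nonempty → 1 ≤ c) := fun s => (fun ⟨c, h1, h2, _⟩ => ⟨c, h1, h2⟩ : _ → _) <|
    cover a (fun φ => funext fun y => by simp only [a, Subgroup.coe_one, inv_one, act_one])
      (fun g h φ => funext fun y => by simp only [a, Subgroup.coe_mul, _root_.mul_inv_rev, act_mul])
      ((StF H).subgroupOf Lev) (Dl H x) (Cl {e₀, f₀} W₀ s)
      (fun g hg φ hφ => ⟨(Cl_map frame_W (s := csum W₀ φ) ⟨hφ.1, rfl⟩ (hfix g)).1, fun z hz b hb => by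
        refine hφ.2 _ (Lev_W (inv_mem g.2) hz) b ?_
        have h : g.1⁻¹ * el z b * g.1⁻¹⁻¹ ∈ H :=
          (((inv_mem hg : g.1⁻¹ ∈ StF H).1.2 (el z b)).1 ⟨hb, el_mem_Rad b hz⟩).1
        rwa [el_conj_Lev (inv_mem g.2) b hz] at h⟩)
      (fun g φ hφ => Cl_map frame_W hφ (hfix g))
      (fun φ hφ ψ hψ => by
        obtain ⟨g, hg, e⟩ := Cl_trans frame_W hφ hψ
        refine ⟨⟨g⁻¹, inv_mem (mem_Lev.2 ⟨hg _ (Or.inl rfl), hg _ (Or.inr rfl)⟩)⟩, ?_⟩
        simp only [a, inv_inv]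
        exact e.symm)
  obtain ⟨c₁, h1, h1'⟩ := hC ((Fintype.card F : ℤ) ^ k)
  obtain ⟨c₂, h2, h2'⟩ := hC (-(Fintype.card F : ℤ) ^ k)
  have hpos : (0 : ℤ) < (Fintype.card F : ℤ) ^ k := pow_pos (by exact_mod_cast Fintype.card_pos) k
  have hsplit : (Dl H x ∩ Cl {e₀, f₀} W₀ ((Fintype.card F : ℤ) ^ k)) ∪
      (Dl H x ∩ Cl {e₀, f₀} W₀ (-(Fintype.card F : ℤ) ^ k)) = Dl H x := by
    rw [← Set.inter_union_distrib_left, Set.inter_eq_left]
    exact fun φ hφ => (csum_sq frame_W hφ.1).imp (fun e => ⟨hφ.1, e⟩) fun e => ⟨hφ.1, e⟩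
  have hdisj : Disjoint (Dl H x ∩ Cl {e₀, f₀} W₀ ((Fintype.card F : ℤ) ^ k))
      (Dl H x ∩ Cl {e₀, f₀} W₀ (-(Fintype.card F : ℤ) ^ k)) :=
    Set.disjoint_left.2 fun φ hp hm => by
      have := hp.2.2.symm.trans hm.2.2
      omega
  have hsum := congrArg Set.ncard hsplit
  rw [Set.ncard_union_eq hdisj, card_Dl hx hx0] at hsum
  refine ⟨c₁, c₂, ?_, ?_⟩
  · have hal := al_pos H
    rcases Set.eq_empty_or_nonempty (Dl H x ∩ Cl {e₀, f₀} W₀ ((Fintype.card F : ℤ) ^ k)) with e | h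
    · rw [e, Set.ncard_empty, zero_add] at hsum
      exact le_trans (h2' ((Set.ncard_pos).1 (hsum ▸ hal))) (Nat.le_add_left _ _)
    · exact le_trans (h1' h) (Nat.le_add_right _ _)
  · have e1 := two_card_Cl frame_W (stdForm_mem (F := F) (k := k)) (s := (Fintype.card F : ℤ) ^ k) (Or.inl rfl)
    have e2 := two_card_Cl frame_W (stdForm_mem (F := F) (k := k)) (s := -(Fintype.card F : ℤ) ^ k) (Or.inr rfl)
    have h1z := congrArg (Nat.cast : ℕ → ℤ) h1
    have h2z := congrArg (Nat.cast : ℕ → ℤ) h2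
    rw [← hsum]
    push_cast at h1z h2z ⊢
    linear_combination 2 * h1z + 2 * h2z + (c₁ : ℤ) * e1 + (c₂ : ℤ) * e2

end Cfsg.Agent.Small.SpMinIndex
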