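import Mathlib

/-!
# Double counting of translates, index inequalities and duality of finite additive groups
-/

set_option autoImplicit false

namespace Cfsg.Agent.Small.SpMinIndex

section Cover

variable {G : Type*} [Group G] [Finite G] {α : Type*} [Finite α]

/-- The translates of `D` cover each element of a transitive set `C` equally often. -/
theorem cover (a : G → α → α) (h1 : ∀ x, a 1 x = x) (hm : ∀ g h x, a (g * h) x = a g (a h x))
    (K : Subgroup G) (D C : Set α) (hD : ∀ g ∈ K, ∀ x ∈ D, a g x ∈ D) (hC : ∀ g, ∀ x ∈ C, a g x ∈ C)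
    (htr : ∀ x ∈ C, ∀ y ∈ C, ∃ g, a g x = y) :
    ∃ c, K.index * (D ∩ C).ncard = c * C.ncard ∧ ((D ∩ C).Nonempty → 1 ≤ c) ∧
      (c = 1 → ∀ g, ∀ x ∈ D ∩ C, a g x ∈ D → g ∈ K) := by
  classical
  letI : MulAction G α := { smul := a, one_smul := h1, mul_smul := hm }
  have hsm : ∀ (g : G) (x : α), g • x = a g x := fun g x => rfl
  have hcoset : ∀ g h : G, (QuotientGroup.mk g : G ⧸ K) = QuotientGroup.mk h →
      ∀ x, g⁻¹ • x ∈ D → h⁻¹ • x ∈ D := by
    intro g h e x hx
    have := hD _ (inv_mem (QuotientGroup.eq.1 e)) _ hx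
    rwa [← hsm, smul_smul, mul_inv_rev, inv_inv, mul_inv_cancel_right] at this
  let rep : G ⧸ K → G := fun c => c.out
  have hrep : ∀ g : G, ∀ x : α, ((rep (QuotientGroup.mk g))⁻¹ • x ∈ D ↔ g⁻¹ • x ∈ D) := fun g x =>
    ⟨hcoset _ _ (QuotientGroup.out_eq' _) x, hcoset _ _ (QuotientGroup.out_eq' _).symm x⟩
  let T : G ⧸ K → α → Prop := fun c x => (rep c)⁻¹ • x ∈ D
  -- by translates
  have e1 : {p : (G ⧸ K) × C // T p.1 p.2} ≃ (G ⧸ K) × ↥(D ∩ C) :=
    { toFun := fun p => (p.1.1, ⟨(rep p.1.1)⁻¹ • (p.1.2 : α), p.2, hC _ _ p.1.2.2⟩)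
      invFun := fun p => ⟨(p.1, ⟨rep p.1 • (p.2 : α), hC _ _ p.2.2.2⟩), by
        show (rep p.1)⁻¹ • (rep p.1 • (p.2 : α)) ∈ D
        rw [inv_smul_smul]; exact p.2.2.1⟩
      left_inv := fun p => Subtype.ext (Prod.ext rfl (Subtype.ext (smul_inv_smul _ _)))
      right_inv := fun p => Prod.ext rfl (Subtype.ext (inv_smul_smul _ _)) }
  have hl : Nat.card {p : (G ⧸ K) × C // T p.1 p.2} = K.index * (D ∩ C).ncard := by
    rw [Nat.card_congr e1, Nat.card_prod, Nat.card_coe_set_eq, Subgroup.index]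
  rcases C.eq_empty_or_nonempty with hC0 | ⟨x₀, hx₀⟩
  · exact ⟨1, by simp [hC0], fun _ => le_rfl, fun _ g x hx => absurd hx.2 (by simp [hC0])⟩
  -- by elements
  have hfib : ∀ x : C, Nat.card {c : G ⧸ K // T c x} = Nat.card {c : G ⧸ K // T c x₀} := by
    intro x
    obtain ⟨g, hg⟩ := htr x₀ hx₀ x x.2
    refine Nat.card_congr (Equiv.subtypeEquiv (MulAction.toPerm g⁻¹) fun c => ?_)
    obtain ⟨h, rfl⟩ := QuotientGroup.mk_surjective c
    show (rep _)⁻¹ • (x : α) ∈ D ↔ (rep (QuotientGroup.mk (g⁻¹ * h)))⁻¹ • x₀ ∈ D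
    rw [hrep, hrep, mul_inv_rev, inv_inv, mul_smul, hsm g, hg]
  refine ⟨Nat.card {c : G ⧸ K // T c x₀}, ?_, ?_, ?_⟩
  · rw [← hl]
    have e2 : {p : (G ⧸ K) × C // T p.1 p.2} ≃ Σ x : C, {c : G ⧸ K // T c x} :=
      { toFun := fun p => ⟨p.1.2, p.1.1, p.2⟩
        invFun := fun p => ⟨(p.2.1, p.1), p.2.2⟩
        left_inv := fun p => rfl
        right_inv := fun p => rfl }
    haveI : Fintype C := Fintype.ofFinite C
    rw [Nat.card_congr e2, Nat.card_sigma, Finset.sum_congr rfl fun x _ => hfib x, Finset.sum_const,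
      Finset.card_univ, smul_eq_mul, mul_comm, ← Nat.card_eq_fintype_card, Nat.card_coe_set_eq]
  · rintro ⟨y, hyD, hyC⟩
    obtain ⟨g, hg⟩ := htr y hyC x₀ hx₀
    haveI : Nonempty {c : G ⧸ K // T c x₀} := ⟨⟨QuotientGroup.mk g, (hrep g x₀).2 (by
      rw [← hg, ← hsm, inv_smul_smul]; exact hyD)⟩⟩
    exact Nat.card_pos
  · intro h1 g x hx hgx
    haveI : Subsingleton {c : G ⧸ K // T c x} :=
      (Nat.card_eq_one_iff_unique.1 ((hfib ⟨x, hx.2⟩).trans h1)).1
    have e := congrArg Subtype.val (Subsingleton.elim (α := {c : G ⧸ K // T c x})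
      ⟨QuotientGroup.mk 1, (hrep 1 x).2 (by rw [inv_one, one_smul]; exact hx.1)⟩
      ⟨QuotientGroup.mk g⁻¹, (hrep g⁻¹ x).2 (by rw [inv_inv]; exact hgx)⟩)
    have := QuotientGroup.eq.1 e
    simpa using this

end Cover

section Index

variable {G : Type*} [Group G] [Finite G]

theorem relIndex_pos (H P : Subgroup G) : 0 < H.relIndex P :=
  Nat.pos_of_ne_zero Subgroup.index_ne_zero_of_finite

theorem relIndex_le_index' (H P : Subgroup G) : H.relIndex P ≤ H.index := by
  rw [← Subgroup.relIndex_top_right]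
  exact Subgroup.relIndex_le_of_le_right le_top (relIndex_pos H ⊤).ne'

/-- The cosets of `H` in `P` are at least those in `A` times those of `St`. -/
theorem relIndex_mul_le {H A St P : Subgroup G} (hA : A ≤ St) (hH : H ⊓ P ≤ St) (hS : St ≤ P) :
    H.relIndex A * St.relIndex P ≤ H.relIndex P := by
  rw [← Subgroup.inf_relIndex_right H P, ← Subgroup.relIndex_mul_relIndex (H ⊓ P) St P hH hS,
    ← Subgroup.relIndex_inf_mul_relIndex, Subgroup.relIndex_eq_one.2 hS, mul_one, inf_eq_right.2 hS]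
  exact Nat.mul_le_mul_right _ (Subgroup.relIndex_le_of_le_right hA (relIndex_pos H St).ne')

/-- If the bound is nearly attained, every element of `St` is a product of one of `A` and one of `H`. -/
theorem lift_of_small {H A St P : Subgroup G} (hA : A ≤ St) (hH : H ⊓ P ≤ St) (hS : St ≤ P)
    (hn : ∀ g ∈ St, ∀ x ∈ A, g * x * g⁻¹ ∈ A)
    (hlt : H.relIndex P < 2 * (H.relIndex A * St.relIndex P)) : ∀ g ∈ St, ∃ x ∈ A, x * g ∈ H := by
  classical
  have hR : H.relIndex St * St.relIndex P = H.relIndex P := by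
    rw [← Subgroup.inf_relIndex_right H P, ← Subgroup.relIndex_mul_relIndex (H ⊓ P) St P hH hS,
      ← Subgroup.relIndex_inf_mul_relIndex, Subgroup.relIndex_eq_one.2 hS, mul_one, inf_eq_right.2 hS]
  intro g hg
  by_contra hcon
  push Not at hcon
  have h2 : 2 * H.relIndex A ≤ H.relIndex St := by
    rw [two_mul, Subgroup.relIndex, Subgroup.relIndex, Subgroup.index, Subgroup.index, ← Nat.card_sum]
    let f₁ : A ⧸ H.subgroupOf A → St ⧸ H.subgroupOf St :=
      fun c => QuotientGroup.mk ⟨c.out.1, hA c.out.2⟩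
    let f₂ : A ⧸ H.subgroupOf A → St ⧸ H.subgroupOf St :=
      fun c => QuotientGroup.mk ⟨g⁻¹ * c.out.1, mul_mem (inv_mem hg) (hA c.out.2)⟩
    refine Nat.card_le_card_of_injective (Sum.elim f₁ f₂) ?_
    have hmix : ∀ c d, f₁ c ≠ f₂ d := by
      intro c d e
      rw [QuotientGroup.eq, Subgroup.mem_subgroupOf] at e
      have e' : (c.out.1)⁻¹ * (g⁻¹ * d.out.1) ∈ H := e
      refine hcon ((d.out.1)⁻¹ * (g * c.out.1 * g⁻¹)) (mul_mem (inv_mem d.out.2) (hn g hg _ c.out.2)) ?_
      have := inv_mem e'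
      simpa [mul_assoc] using this
    rintro (c | c) (d | d) e <;> simp only [Sum.elim_inl, Sum.elim_inr] at e
    · rw [QuotientGroup.eq, Subgroup.mem_subgroupOf] at e
      refine congrArg Sum.inl ?_
      rw [← QuotientGroup.out_eq' c, ← QuotientGroup.out_eq' d, QuotientGroup.eq, Subgroup.mem_subgroupOf]
      exact e
    · exact absurd e (hmix c d)
    · exact absurd e.symm (hmix d c)
    · rw [QuotientGroup.eq, Subgroup.mem_subgroupOf] at e
      refine congrArg Sum.inr ?_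
      rw [← QuotientGroup.out_eq' c, ← QuotientGroup.out_eq' d, QuotientGroup.eq, Subgroup.mem_subgroupOf]
      have e' : (g⁻¹ * c.out.1)⁻¹ * (g⁻¹ * d.out.1) ∈ H := e
      show (c.out.1)⁻¹ * d.out.1 ∈ H
      simpa [mul_assoc] using e'
  have := Nat.mul_le_mul_right (St.relIndex P) h2
  rw [hR] at this
  rw [mul_assoc] at this
  omega

end Index

section Dual

/-- An additive subgroup and its annihilator have complementary orders. -/
theorem card_mul_card_ann {W₀ : Type*} [AddCommGroup W₀] [Finite W₀] (p : ℕ) [Fact p.Prime]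
    [Module (ZMod p) W₀] (f : W₀ →+ W₀ →+ ZMod p) (hl : ∀ y, (∀ w, f y w = 0) → y = 0)
    (hr : ∀ w, (∀ y, f y w = 0) → w = 0) (A : AddSubgroup W₀) :
    Nat.card A * Nat.card {y // ∀ w ∈ A, f w y = 0} = Nat.card W₀ := by
  let B : LinearMap.BilinForm (ZMod p) W₀ :=
    LinearMap.mk₂ (ZMod p) (fun y w => f y w) (fun y z w => by rw [map_add, AddMonoidHom.add_apply])
      (fun c y w => ZMod.map_smul (f.flip w) c y) (fun y z w => map_add _ _ _)
      (fun c y w => ZMod.map_smul (f y) c w)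
  have hn : B.Nondegenerate := ⟨hl, hr⟩
  let W := AddSubgroup.toZModSubmodule p A
  have hW : Nat.card (B.orthogonal W) = Nat.card {y // ∀ w ∈ A, f w y = 0} :=
    Nat.card_congr (Equiv.subtypeEquivRight fun y => Iff.rfl)
  haveI : Module.Finite (ZMod p) W₀ := Module.Finite.of_finite
  have hr' := LinearMap.BilinForm.finrank_orthogonal hn W
  have hle := W.finrank_le
  rw [← hW, show Nat.card A = Nat.card W from rfl, Module.natCard_eq_pow_finrank (K := ZMod p) (V := W),
    Module.natCard_eq_pow_finrank (K := ZMod p) (V := B.orthogonal W),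
    Module.natCard_eq_pow_finrank (K := ZMod p) (V := W₀), ← pow_add, hr', Nat.add_sub_cancel' hle]

/-- A functional on a subgroup is given by the pairing. -/
theorem exists_pairing {W₀ : Type*} [AddCommGroup W₀] [Finite W₀] (p : ℕ) [Fact p.Prime]
    [Module (ZMod p) W₀] (f : W₀ →+ W₀ →+ ZMod p) (hl : ∀ y, (∀ w, f y w = 0) → y = 0)
    (hr : ∀ w, (∀ y, f y w = 0) → w = 0) (A : AddSubgroup W₀) (l : A →+ ZMod p) :
    ∃ y, ∀ w : A, f y w = l w := by
  let B : LinearMap.BilinForm (ZMod p) W₀ :=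
    LinearMap.mk₂ (ZMod p) (fun y w => f y w) (fun y z w => by rw [map_add, AddMonoidHom.add_apply])
      (fun c y w => ZMod.map_smul (f.flip w) c y) (fun y z w => map_add _ _ _)
      (fun c y w => ZMod.map_smul (f y) c w)
  have hn : B.Nondegenerate := ⟨hl, hr⟩
  let W := AddSubgroup.toZModSubmodule p A
  haveI : Module.Finite (ZMod p) W₀ := Module.Finite.of_finite
  obtain ⟨L, hL⟩ := LinearMap.exists_extend (p := W)
    ({ toFun := fun w => l ⟨w.1, w.2⟩
       map_add' := fun v w => map_add l ⟨v.1, v.2⟩ ⟨w.1, w.2⟩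
       map_smul' := fun c w => ZMod.map_smul l c ⟨w.1, w.2⟩ } : W →ₗ[ZMod p] ZMod p)
  refine ⟨(B.toDual hn).symm L, fun w => ?_⟩
  have h := LinearMap.congr_fun hL ⟨w.1, w.2⟩
  show B ((B.toDual hn).symm L) w.1 = l w
  rw [LinearMap.BilinForm.apply_toDual_symm_apply]
  exact h

end Dual

end Cfsg.Agent.Small.SpMinIndex
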