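import Cfsg.Agent.Lib.Small.SpMinIndex.Section

/-!
# The minimal index in the symplectic group
-/

set_option autoImplicit false
set_option linter.unusedSectionVars false

namespace Cfsg.Agent.Small.SpMinIndex

open Matrix Module Cfsg.Agent.Small.PSpn

variable {F : Type*} [Field F] [Fintype F] {k : ℕ}

local notation "Vm" => Fin (k + 1) ⊕ Fin (k + 1) → F
local notation "Gm" => Matrix.symplecticGroup (Fin (k + 1)) F
local notation "e₀" => (se (0 : Fin (k + 1)) : Fin (k + 1) ⊕ Fin (k + 1) → F)
local notation "f₀" => (sff (0 : Fin (k + 1)) : Fin (k + 1) ⊕ Fin (k + 1) → F)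
local notation "W₀" => (Wsub (0 : Fin (k + 1)) : Submodule F (Fin (k + 1) ⊕ Fin (k + 1) → F))
local notation "qF" => Fintype.card F

theorem full_act {H : Subgroup Gm} {v : Vm} (hv : Full H v) {g : Gm} (hg : g ∈ H) : Full H (act g v) :=
  fun t => tv_conj g v t ▸ H.mul_mem (H.mul_mem hg (hv t)) (H.inv_mem hg)

theorem full_smul {H : Subgroup Gm} {v : Vm} (hv : Full H v) (c : F) : Full H (c • v) :=
  fun t => tv_smul v c t ▸ hv _

theorem full_of_smul {H : Subgroup Gm} {v : Vm} {c : F} (hc : c ≠ 0) (hv : Full H (c • v)) : Full H v := by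
  have := full_smul hv c⁻¹
  rwa [inv_smul_smul₀ hc] at this

theorem full_cjg {H : Subgroup Gm} {g : Gm} {v : Vm} : Full (cjg g H) v ↔ Full H (act g v) :=
  forall_congr' fun t => by rw [mem_cjg, tv_conj]

theorem full_zero (H : Subgroup Gm) : Full H (0 : Vm) := fun t => by
  have e : tv (0 : Vm) t = (1 : Gm) := eq_of_act fun x => by rw [act_tv, smul_zero, add_zero, act_one]
  rw [e]
  exact H.one_mem

theorem top_of_full {H : Subgroup Gm} (h : ∀ v, Full H v) : H = ⊤ := by
  rw [eq_top_iff, ← Cfsg.Agent.Classical.SpGen.sp_generated]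
  refine (Subgroup.closure_le H).2 ?_
  rintro g ⟨v, t, rfl⟩
  exact h v t

/-- The plane on two non-perpendicular vectors with all transvections. -/
theorem full_plane {H : Subgroup Gm} {u w : Vm} (hu : Full H u) (hw : Full H w) (h : sf u w ≠ 0) (a b : F) :
    Full H (a • u + b • w) := by
  rcases eq_or_ne b 0 with rfl | hb
  · rw [zero_smul, add_zero]; exact full_smul hu a
  · have h1 := full_smul (full_act hw (hu (a / (b * sf u w)))) b
    rw [act_tv, smul_add, smul_smul, show b * (a / (b * sf u w) * sf u w) = a by field_simp, add_comm] at h1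
    exact h1

/-- The vectors with all transvections form a spanning set. -/
theorem exists_full_ne (hd : Dims F k) {H : Subgroup Gm} (h : Tiny H) {v : Vm} (hv0 : v ≠ 0) (hv : Full H v)
    {x : Vm} (hx : x ≠ 0) : ∃ c, Full H c ∧ sf x c ≠ 0 := by
  by_contra hcon
  push Not at hcon
  obtain ⟨W, hW⟩ : ∃ W : Submodule F Vm, W = Submodule.span F {c | Full H c} := ⟨_, rfl⟩
  have hinv : Inv H W := fun g hg u hu => by
    subst hW
    induction hu using Submodule.span_induction with
    | mem y hy => exact Submodule.subset_span (full_act hy hg)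
    | zero => rw [act_zero]; exact Submodule.zero_mem _
    | add y z _ _ hy hz => rw [act_add]; exact Submodule.add_mem _ hy hz
    | smul c y _ hy => rw [act_smul]; exact Submodule.smul_mem _ c hy
  rcases irred hd h hinv with e | e
  · have : v ∈ W := hW ▸ Submodule.subset_span hv
    rw [e, Submodule.mem_bot] at this
    exact hv0 this
  · refine hx (sfBil_alt.nondeg x fun y => ?_)
    have hy : y ∈ W := e ▸ Submodule.mem_top
    subst hW
    induction hy using Submodule.span_induction with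
    | mem z hz => exact hcon z hz
    | zero => rw [map_zero]
    | add z z' _ _ h1 h2 => rw [map_add, h1, h2, add_zero]
    | smul c z _ h1 => rw [map_smul, h1, smul_zero]

/-- No transvection at a point without all of them. -/
theorem zc_eq_q' (hd : Dims F k) {H : Subgroup Gm} (h : Tiny H) {v : Vm} (hv0 : v ≠ 0) (hv : Full H v)
    (he : ¬ Full H e₀) : zc H = qF := by
  refine zc_eq_q fun t ht => ?_
  by_contra ht0
  obtain ⟨c, hc, hec⟩ := exists_full_ne hd h hv0 hv e0_ne
  have hc' := full_act hc ht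
  rw [act_tv] at hc'
  obtain ⟨μ, hμ⟩ : ∃ μ, μ = t * sf e₀ c := ⟨_, rfl⟩
  have hμ0 : μ ≠ 0 := hμ ▸ mul_ne_zero ht0 hec
  rw [← hμ] at hc'
  have hne : sf c (c + μ • e₀) ≠ 0 := by
    rw [sf_add_right, sf_smul_right, sf_self, zero_add]
    exact mul_ne_zero hμ0 fun e => hec (sf_eq_zero_swap e)
  refine he ?_
  have := full_plane hc hc' hne (-μ⁻¹) μ⁻¹
  rwa [smul_add, smul_smul, inv_mul_cancel₀ hμ0, one_smul, ← add_assoc, neg_smul, neg_add_cancel, zero_add] at this

/-- The vectors with all transvections avoid the orbit of the point. -/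
theorem count_full {H : Subgroup Gm} (he : ¬ Full H e₀) :
    {v : Vm | v ≠ 0 ∧ Full H v}.ncard + (qF - 1) * (Pst : Subgroup Gm).relIndex H <
      qF ^ k * qF ^ k * (qF * qF) := by
  classical
  have hV : Nat.card Vm = qF ^ k * qF ^ k * (qF * qF) := by
    rw [Nat.card_eq_fintype_card, Fintype.card_fun, Fintype.card_sum, Fintype.card_fin, ← pow_two_mul_add_two]
    congr 1; omega
  rw [← Nat.card_coe_set_eq, ← card_orbit_vec, ← Nat.card_sum, ← hV, Nat.card_eq_fintype_card,
    Nat.card_eq_fintype_card]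
  refine Fintype.card_lt_of_injective_of_notMem (Sum.elim (fun v => v.1) (fun v => v.1))
    (Function.Injective.sumElim Subtype.coe_injective Subtype.coe_injective fun u v e' => ?_) (b := 0) ?_
  · obtain ⟨-, x, hx, c, hxc⟩ := v.2
    have h1 : Full H (act x e₀) := by
      rw [hxc, ← show u.1 = v.1 from e']
      exact full_smul u.2.2 c
    have h2 := full_act h1 (H.inv_mem hx)
    rw [act_inv_act] at h2
    exact he h2
  · rintro ⟨v | v, hv⟩
    · exact v.2.1 hv
    · exact v.2.1 hv

/-- Transitivity on the complement inside the subgroup. -/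
theorem exists_move_mem {H : Subgroup Gm} (hW : ∀ v ∈ W₀, Full H v) {w x : Vm} (hw : w ∈ W₀) (hx : x ∈ W₀)
    (hw0 : w ≠ 0) (hx0 : x ≠ 0) : ∃ g ∈ H, g ∈ (Lev : Subgroup Gm) ∧ act g w = x := by
  by_cases h : sf w x ≠ 0
  · exact ⟨_, hW _ (Submodule.sub_mem W₀ hx hw) _, tv_mem_Lev (Submodule.sub_mem W₀ hx hw) _, tv_step h⟩
  push Not at h
  obtain ⟨y, hy, hwy, hxy⟩ : ∃ y ∈ W₀, sf w y ≠ 0 ∧ sf x y ≠ 0 := by
    obtain ⟨a, haW, ha⟩ := exists_W_ne hw hw0
    obtain ⟨b, hbW, hb⟩ := exists_W_ne hx hx0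
    by_cases h1 : sf x a = 0
    · by_cases h2 : sf w b = 0
      · exact ⟨a + b, Submodule.add_mem W₀ haW hbW, by rw [sf_add_right, h2, add_zero]; exact ha,
          by rw [sf_add_right, h1, zero_add]; exact hb⟩
      · exact ⟨b, hbW, h2, hb⟩
    · exact ⟨a, haW, ha, h1⟩
  refine ⟨tv (x - y) (sf x y)⁻¹ * tv (y - w) (sf y w)⁻¹,
    H.mul_mem (hW _ (Submodule.sub_mem W₀ hx hy) _) (hW _ (Submodule.sub_mem W₀ hy hw) _),
    mul_mem (tv_mem_Lev (Submodule.sub_mem W₀ hx hy) _) (tv_mem_Lev (Submodule.sub_mem W₀ hy hw) _), ?_⟩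
  rw [act_mul, tv_step hwy, tv_step fun e => hxy (sf_eq_zero_swap e)]

/-- A complement with all transvections. -/
theorem no_complement (hd : Dims F k) {H : Subgroup Gm} (h : Tiny H) (he : ¬ Full H e₀)
    (hW : ∀ v ∈ W₀, Full H v)
    (hcount : {v : Vm | v ≠ 0 ∧ Full H v}.ncard ≤ qF * (qF ^ k * qF ^ k - 1)) : False := by
  classical
  have hWcard : Nat.card W₀ = qF ^ k * qF ^ k := by rw [card_W, pow_two_mul]
  have hW1 : 1 < Nat.card W₀ := by
    rw [hWcard]
    have := Nat.mul_le_mul (q_le_pow hd) (q_le_pow hd)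
    have := Fintype.one_lt_card (α := F)
    nlinarith
  have hW0 : W₀ ≠ ⊥ := fun e => by
    have h1 : Nat.card W₀ = 1 := by rw [e]; simp
    omega
  obtain ⟨c, hc, hcl, hcw⟩ : ∃ c, Full H c ∧ projW 0 c ≠ c ∧ projW 0 c ≠ 0 := by
    by_contra hcon
    push Not at hcon
    have hmove : ¬ Inv H W₀ := fun hi => (irred hd h hi).elim hW0 W_ne_top
    rw [Inv] at hmove
    push Not at hmove
    obtain ⟨g, hg, w₁, hw₁, hout⟩ := hmove
    have hout' : projW 0 (act g w₁) ≠ act g w₁ := fun e => hout (e ▸ projW_mem 0 _)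
    have h1 := hcon _ (full_act (hW _ hw₁) hg) hout'
    have hall : ∀ w ∈ W₀, projW 0 (act g w) = 0 := by
      intro w hw
      by_cases hfix : projW 0 (act g w) = act g w
      · by_contra hne
        refine hne ?_
        have h2 := hcon _ (full_act (hW _ (Submodule.add_mem W₀ hw hw₁)) hg) (by
          rw [act_add, projW_add, h1, add_zero, hfix]
          intro e
          have : act g w₁ = 0 := by simpa using e
          exact hout (this ▸ Submodule.zero_mem W₀))
        rwa [act_add, projW_add, h1, add_zero] at h2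
      · exact hcon _ (full_act (hW _ hw) hg) hfix
    let f : W₀ → F × F := fun w => (sf (act g w.1) f₀, sf e₀ (act g w.1))
    have hf : Function.Injective f := by
      intro a b e
      refine Subtype.ext (act_injective g ?_)
      rw [eq_projW_add 0 (act g a.1), eq_projW_add 0 (act g b.1), hall _ a.2, hall _ b.2,
        show sf (act g a.1) f₀ = sf (act g b.1) f₀ from congrArg Prod.fst e,
        show sf e₀ (act g a.1) = sf e₀ (act g b.1) from congrArg Prod.snd e]
    have hle := Nat.card_le_card_of_injective f hf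
    have hsur : Function.Surjective f := by
      haveI : Fintype W₀ := Fintype.ofFinite _
      refine ((Fintype.bijective_iff_injective_and_card f).2 ⟨hf, ?_⟩).2
      rw [← Nat.card_eq_fintype_card, ← Nat.card_eq_fintype_card]
      refine le_antisymm hle ?_
      rw [hWcard, Nat.card_prod, Nat.card_eq_fintype_card]
      exact Nat.mul_le_mul (q_le_pow hd) (q_le_pow hd)
    obtain ⟨⟨a, ha⟩, hfa⟩ := hsur (1, 0)
    refine he ?_
    have e : act g a = e₀ := by
      rw [eq_projW_add 0 (act g a), hall a ha, show sf (act g a) f₀ = 1 from congrArg Prod.fst hfa,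
        show sf e₀ (act g a) = 0 from congrArg Prod.snd hfa, one_smul, zero_smul, add_zero, add_zero]
    exact e ▸ full_act (hW a ha) hg
  obtain ⟨l, hl⟩ : ∃ l, l = c - projW 0 c := ⟨_, rfl⟩
  have hcl' : c = l + projW 0 c := by rw [hl, sub_add_cancel]
  have hl' : l = sf c f₀ • e₀ + sf e₀ c • f₀ := by
    rw [hl, sub_eq_iff_eq_add, ← eq_projW_add]
  have hl0 : l ≠ 0 := fun e => hcl (by rw [hl, sub_eq_zero] at e; exact e.symm)
  have hlp : ∀ (t : F) (w : Vm), w ∈ W₀ → projW 0 (t • l + w) = w := fun t w hw => by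
    rw [projW_add, projW_smul, hl, show projW 0 (c - projW 0 c) = 0 from ?_, smul_zero, zero_add, projW_of_mem hw]
    have h2 := congrArg (projW 0) hcl'
    rw [projW_add, projW_of_mem (projW_mem 0 c)] at h2
    rw [← hl]
    exact right_eq_add.1 h2
  let f : F × {w : W₀ // w ≠ 0} → {v : Vm | v ≠ 0 ∧ Full H v} := fun p => ⟨p.1 • l + p.2.1.1, fun e => by
      have h2 := hlp p.1 _ p.2.1.2
      rw [e, show projW 0 (0 : Vm) = 0 from projW_of_mem (Submodule.zero_mem W₀)] at h2
      exact p.2.2 (Subtype.ext h2.symm), by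
      rcases eq_or_ne p.1 0 with ht | ht
      · rw [ht, zero_smul, zero_add]; exact hW _ p.2.1.2
      · obtain ⟨g, hg, hgL, hgw⟩ := exists_move_mem hW (projW_mem 0 c)
          (Submodule.smul_mem W₀ p.1⁻¹ p.2.1.2) hcw
          (smul_ne_zero (inv_ne_zero ht) fun e => p.2.2 (Subtype.ext e))
        have h2 := full_smul (full_act hc hg) p.1
        rw [hcl', act_add, hgw, hl', act_add, act_smul, act_smul, hgL.1, hgL.2, ← hl', smul_add,
          smul_inv_smul₀ ht] at h2
        exact h2⟩
  have hf : Function.Injective f := by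
    intro p p' e
    have e' : p.1 • l + p.2.1.1 = p'.1 • l + p'.2.1.1 := congrArg Subtype.val e
    have h2 := congrArg (projW 0) e'
    rw [hlp _ _ p.2.1.2, hlp _ _ p'.2.1.2] at h2
    rw [h2, add_left_inj] at e'
    exact Prod.ext (smul_left_injective F hl0 e') (Subtype.ext (Subtype.ext h2))
  have hsur : Function.Surjective f := by
    haveI : Fintype W₀ := Fintype.ofFinite _
    refine ((Fintype.bijective_iff_injective_and_card f).2 ⟨hf, ?_⟩).2
    refine le_antisymm (Fintype.card_le_of_injective f hf) ?_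
    rw [← Nat.card_eq_fintype_card, Nat.card_coe_set_eq]
    refine le_trans hcount (le_of_eq ?_)
    rw [Fintype.card_prod, Fintype.card_subtype_compl, Fintype.card_subtype_eq,
      ← Nat.card_eq_fintype_card (α := W₀), hWcard]
  let P : F × W₀ →ₗ[F] Vm := (LinearMap.toSpanSingleton F Vm l).coprod (Submodule.subtype W₀)
  have hP : ∀ v, Full H v → v ∈ LinearMap.range P := fun v hv => by
    rcases eq_or_ne v 0 with rfl | hv0
    · exact Submodule.zero_mem _
    · obtain ⟨p, hp⟩ := hsur ⟨v, hv0, hv⟩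
      exact ⟨(p.1, p.2.1), congrArg Subtype.val hp⟩
  obtain ⟨w, hw, hw0⟩ := Submodule.exists_mem_ne_zero_of_ne_bot hW0
  have htop : Function.Surjective P := by
    rw [← LinearMap.range_eq_top]
    by_contra hne
    obtain ⟨x, hx, hx0⟩ := Submodule.exists_mem_ne_zero_of_ne_bot (perp_ne_bot hne)
    obtain ⟨d, hd', hxd⟩ := exists_full_ne hd h hw0 (hW w hw) hx0
    exact hxd (sf_eq_zero_swap (mem_perp.1 hx d (hP d hd')))
  have h1 := Nat.card_le_card_of_surjective P htop
  rw [Nat.card_prod, hWcard, Nat.card_eq_fintype_card, Nat.card_eq_fintype_card, Fintype.card_fun,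
    Fintype.card_sum, Fintype.card_fin, show k + 1 + (k + 1) = 2 * k + 2 by omega, pow_two_mul_add_two] at h1
  have h2 := Fintype.one_lt_card (α := F)
  have h3 : qF * qF ≤ qF := Nat.le_of_mul_le_mul_left (le_of_le_of_eq h1 (by ring)) (by positivity)
  nlinarith

/-- Every proper subgroup has index at least the number of points, or that of the smaller class of forms. -/
theorem min_bound (hd : Dims F k) {H : Subgroup Gm} (hH : H ≠ ⊤) (h : Tiny H) : False := by
  obtain ⟨v, hv0, hv⟩ : ∃ v, v ≠ 0 ∧ ¬ Full H v := by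
    by_contra hcon
    push Not at hcon
    refine hH (top_of_full fun v => ?_)
    rcases eq_or_ne v 0 with rfl | hv0
    · exact full_zero H
    · exact hcon v hv0
  obtain ⟨g, hg⟩ := exists_act_eq e0_ne hv0
  obtain ⟨K, hK⟩ : ∃ K, K = cjg g H := ⟨_, rfl⟩
  have he : ¬ Full K e₀ := by rw [hK, full_cjg, hg]; exact hv
  replace h : Tiny K := hK ▸ h.cjg g
  clear hK hv hH
  have hz := zc_gt_one he
  rcases classify hd h.few hz with ⟨h2, hal⟩ | hσ | ⟨hk, hσ⟩
  · haveI : CharP F 2 := CharTwo.of_one_ne_zero_of_two_eq_zero one_ne_zero h2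
    exact no_section hd h hal he
  · have hal : al K = qF ^ k * qF ^ k := by
      have := al_mul K
      rwa [hσ, mul_one, pow_two_mul] at this
    by_cases hq : qF = 2
    · have h1 : zc K * al K ≤ K.relIndex Pst :=
        r_eq K ▸ Subgroup.relIndex_le_of_le_right Rad_le_Pst (relIndex_pos _ _).ne'
      have h3 := Nat.mul_le_mul_right (al K) hz
      have h4 := h.few.two hq
      rw [hal, hq] at h1 h3
      have h5 : 2 ^ k * (2 ^ (k + 1) - 1) ≤ 2 ^ k * 2 ^ (k + 1) := Nat.mul_le_mul_left _ (Nat.sub_le _ _)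
      rw [pow_succ] at h5 h4
      nlinarith
    have hq3 : 3 ≤ qF := by have := Fintype.one_lt_card (α := F); omega
    obtain ⟨y, hy, hyW⟩ := full_of_zero hd hq3 h.few hz hσ
    obtain ⟨K', hK'⟩ : ∃ K', K' = cjg y K := ⟨_, rfl⟩
    have hye : act y e₀ = e₀ := fixes_Qg hy
    have he' : ¬ Full K' e₀ := by rw [hK', full_cjg, hye]; exact he
    have h' : Tiny K' := hK' ▸ h.cjg y
    have hW' : ∀ w ∈ W₀, Full K' w := fun w hw => hK' ▸ full_cjg.2 (hyW w hw)
    have hσ' : Nat.card (Sb K') = 1 := by rw [hK', Sb_cjg hy]; exact hσ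
    obtain ⟨u, hu, hu0⟩ : ∃ u ∈ W₀, u ≠ 0 := by
      obtain ⟨u, w, hu, -, huw⟩ := exists_W_pair (F := F) (show 2 ≤ k + 1 by have := hd.one; omega) 0
      exact ⟨u, hu, fun e => one_ne_zero (α := F) (by rw [← huw, e, sf_zero_left])⟩
    have hz' := zc_eq_q' hd h' hu0 (hW' u hu) he'
    refine no_complement hd h' he' hW' ?_
    have h1 : qF * (qF ^ k * qF ^ k) ≤ K'.relIndex Pst := by
      have hal' : al K' = qF ^ k * qF ^ k := by
        have := al_mul K'
        rwa [hσ', mul_one, pow_two_mul] at this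
      have h0 : zc K' * al K' ≤ K'.relIndex Pst :=
        r_eq K' ▸ Subgroup.relIndex_le_of_le_right Rad_le_Pst (relIndex_pos _ _).ne'
      rwa [hz', hal'] at h0
    have h2 := count_full he'
    have h3 := Nat.mul_le_mul_left (qF - 1) (show qF * (qF ^ k * qF ^ k) + 1 ≤ _ from lt_of_le_of_lt h1 h'.lt)
    obtain ⟨t, ht⟩ : ∃ t, qF = t + 1 := ⟨qF - 1, by omega⟩
    obtain ⟨Q, hQ⟩ : ∃ Q, qF ^ k * qF ^ k = Q + 1 := ⟨qF ^ k * qF ^ k - 1, by
      have : 0 < qF ^ k * qF ^ k := by positivity
      omega⟩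
    rw [hQ] at h2 h3 ⊢
    rw [ht, Nat.add_sub_cancel] at h2 h3
    rw [ht, Nat.add_sub_cancel]
    nlinarith
  · obtain ⟨v, hv0, hv⟩ := full_of_line hd h.few hz hk hσ
    have hz' := zc_eq_q' hd h hv0 hv he
    obtain ⟨-, -, hR⟩ := lift_line hd h.few hz hk hσ
    rw [hz'] at hR
    have h2 := count_full he
    obtain ⟨c, hc, hvc⟩ := exists_full_ne hd h hv0 hv hv0
    have h1 : qF * qF - 1 ≤ {v : Vm | v ≠ 0 ∧ Full K v}.ncard := by
      classical
      let f : {p : F × F // p ≠ 0} → {v : Vm | v ≠ 0 ∧ Full K v} := fun p => ⟨p.1.1 • v + p.1.2 • c, fun e => by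
        have e1 := congrArg (sf v) e
        rw [sf_add_right, sf_smul_right, sf_smul_right, sf_self, mul_zero, zero_add, sf_zero_right] at e1
        have e2 := (mul_eq_zero.1 e1).resolve_right hvc
        rw [e2, zero_smul, add_zero] at e
        exact p.2 (Prod.ext ((smul_eq_zero.1 e).resolve_right hv0) e2), full_plane hv hc hvc _ _⟩
      have hf : Function.Injective f := by
        intro p p' e
        have e' : p.1.1 • v + p.1.2 • c = p'.1.1 • v + p'.1.2 • c := congrArg Subtype.val e
        have e1 := congrArg (sf v) e'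
        rw [sf_add_right, sf_add_right, sf_smul_right, sf_smul_right, sf_smul_right, sf_smul_right, sf_self,
          mul_zero, mul_zero, zero_add, zero_add] at e1
        have e2 := mul_right_cancel₀ hvc e1
        rw [e2, add_left_inj] at e'
        exact Subtype.ext (Prod.ext (smul_left_injective F hv0 e') e2)
      have := Nat.card_le_card_of_injective f hf
      rwa [Nat.card_eq_fintype_card, Fintype.card_subtype_compl, Fintype.card_subtype_eq, Fintype.card_prod,
        Nat.card_coe_set_eq] at this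
    have h4 := hd.four hk
    have hQ : qF ^ k = qF := by rw [hk, pow_one]
    rw [hQ] at h2
    have h3 := Nat.mul_le_mul_left (qF - 1) (show qF * qF * (qF + 1) + 1 ≤ _ from lt_of_le_of_lt hR h.lt)
    obtain ⟨t, ht⟩ : ∃ t, qF = t + 4 := ⟨qF - 4, by omega⟩
    rw [ht, show t + 4 - 1 = t + 3 from rfl] at h2 h3
    rw [ht] at h1
    obtain ⟨N, hN⟩ : ∃ N, (t + 4) * (t + 4) = N + 1 := ⟨(t + 4) * (t + 4) - 1, by
      have : 0 < (t + 4) * (t + 4) := by positivity
      omega⟩
    rw [hN, Nat.add_sub_cancel] at h1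
    nlinarith

end Cfsg.Agent.Small.SpMinIndex
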