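import Cfsg.Agent.Lib.Small.SpMinIndex.Point

/-!
# The orbit bounds at the base point

`zc` is the number of cosets of `H` in the root group, `al` the order of the annihilator of `Sb H`.
-/

set_option autoImplicit false
set_option linter.unusedSectionVars false

namespace Cfsg.Agent.Small.SpMinIndex

open Matrix Module Cfsg.Agent.Small.PSpn

variable {F : Type*} [Field F] {k : ℕ}

local notation "Vm" => Fin (k + 1) ⊕ Fin (k + 1) → F
local notation "Gm" => Matrix.symplecticGroup (Fin (k + 1)) F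
local notation "e₀" => (se (0 : Fin (k + 1)) : Fin (k + 1) ⊕ Fin (k + 1) → F)
local notation "f₀" => (sff (0 : Fin (k + 1)) : Fin (k + 1) ⊕ Fin (k + 1) → F)
local notation "W₀" => (Wsub (0 : Fin (k + 1)) : Submodule F (Fin (k + 1) ⊕ Fin (k + 1) → F))

/-- The radical elements over `Sb H`. -/
noncomputable def D1 (H : Subgroup Gm) : Subgroup Gm where
  carrier := {g | ∃ z ∈ Sb H, ∃ a, g = el z a}
  one_mem' := ⟨0, zero_mem _, 0, el_zero.symm⟩
  mul_mem' := fun {g h} ⟨z, hz, a, hg⟩ ⟨w, hw, b, hh⟩ =>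
    ⟨z + w, add_mem hz hw, a + b + sf z w, by rw [hg, hh, el_mul a b hz.1 hw.1]⟩
  inv_mem' := fun {g} ⟨z, hz, a, hg⟩ => ⟨-z, neg_mem hz, -a, by rw [hg, el_inv a hz.1]⟩

theorem mem_D1 {H : Subgroup Gm} {g : Gm} : g ∈ D1 H ↔ ∃ z ∈ Sb H, ∃ a, g = el z a := Iff.rfl

/-- The part of `H` in the root group. -/
noncomputable def D2 (H : Subgroup Gm) : Subgroup Gm where
  carrier := {g | ∃ t ∈ Z1 H, g = tv e₀ t}
  one_mem' := ⟨0, zero_mem _, (tv_zero _).symm⟩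
  mul_mem' := fun {g h} ⟨s, hs, hg⟩ ⟨t, ht, hh⟩ => ⟨s + t, add_mem hs ht, by rw [hg, hh, tv_mul]⟩
  inv_mem' := fun {g} ⟨t, ht, hg⟩ => ⟨-t, neg_mem ht, by
    rw [hg]; exact inv_eq_of_mul_eq_one_right (by rw [tv_mul, add_neg_cancel, tv_zero])⟩

/-- The coarse stabiliser. -/
noncomputable def St0 (H : Subgroup Gm) : Subgroup Gm := Pst ⊓ stab (D1 H) ⊓ stab (D2 H)

/-- The stabiliser of the part in the root group. -/
noncomputable def St1 (H : Subgroup Gm) : Subgroup Gm := Pst ⊓ stab (D2 H)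

/-- The fine stabiliser. -/
noncomputable def StF (H : Subgroup Gm) : Subgroup Gm := Pst ⊓ stab (H ⊓ Rad) ⊓ stab (D2 H)

theorem St1_le_Pst (H : Subgroup Gm) : St1 H ≤ Pst := inf_le_left

theorem St0_le_St1 (H : Subgroup Gm) : St0 H ≤ St1 H := fun _ hg => ⟨hg.1.1, hg.2⟩

theorem StF_le_St1 (H : Subgroup Gm) : StF H ≤ St1 H := fun _ hg => ⟨hg.1.1, hg.2⟩

variable [Fintype F]

theorem stab_D2_of {H : Subgroup Gm} {g : Gm} {c : F} (he : act g e₀ = c • e₀)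
    (h : ∀ t ∈ Z1 H, c * c * t ∈ Z1 H) : g ∈ stab (D2 H) :=
  mem_stab_of fun x ⟨t, ht, hx⟩ => ⟨_, h t ht, by rw [hx, Pst_conj_tv he]⟩

theorem inf_le_stab_D2 (H : Subgroup Gm) : H ⊓ Pst ≤ stab (D2 H) := by
  rintro g ⟨hgH, c, hc, he⟩
  refine stab_D2_of he fun t ht => ?_
  rw [mem_Z1, ← Pst_conj_tv he]
  exact H.mul_mem (H.mul_mem hgH ht) (H.inv_mem hgH)

theorem inf_le_stab_D1 (H : Subgroup Gm) : H ⊓ Pst ≤ stab (D1 H) := by
  rintro g ⟨hgH, hgP⟩
  refine mem_stab_of fun x hx => ?_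
  obtain ⟨z, ⟨hzW, b, hb⟩, a, rfl⟩ := mem_D1.1 hx
  have hP := fun {y : Gm} (hy : y ∈ (Rad : Subgroup Gm)) => Pst_conj_Rad (g := g) hgP hy
  obtain ⟨c, hc, he⟩ := id hgP
  obtain ⟨w, hwW, a', hw⟩ := mem_Rad.1 (hP (el_mem_Rad b hzW))
  have hwS : w ∈ Sb H := ⟨hwW, a', hw ▸ H.mul_mem (H.mul_mem hgH hb) (H.inv_mem hgH)⟩
  have e : el z a = el z b * tv e₀ (a - b) := by
    rw [← el_eq_tv, el_mul _ _ hzW (Submodule.zero_mem W₀), add_zero, sf_zero_right]
    congr 1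
    ring
  refine mem_D1.2 ⟨w, hwS, a' + c * c * (a - b), ?_⟩
  rw [e, show g * (el z b * tv e₀ (a - b)) * g⁻¹ = (g * el z b * g⁻¹) * (g * tv e₀ (a - b) * g⁻¹) by group, hw,
    Pst_conj_tv he, ← el_eq_tv, el_mul _ _ hwW (Submodule.zero_mem W₀), add_zero, sf_zero_right, add_zero]

theorem inf_le_St0 (H : Subgroup Gm) : H ⊓ Pst ≤ St0 H :=
  fun _ hg => ⟨⟨hg.2, inf_le_stab_D1 H hg⟩, inf_le_stab_D2 H hg⟩

theorem inf_le_StF (H : Subgroup Gm) : H ⊓ Pst ≤ StF H :=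
  fun g hg => ⟨⟨hg.2, mem_stab_of fun _ hx => ⟨H.mul_mem (H.mul_mem hg.1 hx.1) (H.inv_mem hg.1),
    Pst_conj_Rad hg.2 hx.2⟩⟩, inf_le_stab_D2 H hg⟩

theorem Rad_le_stab_D2 (H : Subgroup Gm) : (Rad : Subgroup Gm) ≤ stab (D2 H) := fun g hg => by
  obtain ⟨z, hz, a, rfl⟩ := mem_Rad.1 hg
  exact stab_D2_of (c := 1) (by rw [one_smul]; exact act_eich_self a (W_perp hz).1) fun t ht => by simpa using ht

theorem Rad_le_St0 (H : Subgroup Gm) : (Rad : Subgroup Gm) ≤ St0 H := fun g hg => by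
  refine ⟨⟨Rad_le_Pst hg, ?_⟩, Rad_le_stab_D2 H hg⟩
  obtain ⟨z, hz, a, rfl⟩ := mem_Rad.1 hg
  refine mem_stab_of fun x hx => ?_
  obtain ⟨w, hw, b, rfl⟩ := mem_D1.1 hx
  exact mem_D1.2 ⟨w, hw, _, el_conj_el a b hz hw.1⟩

theorem Rad_le_StF (h2 : (2 : F) = 0) (H : Subgroup Gm) : (Rad : Subgroup Gm) ≤ StF H := fun g hg => by
  refine ⟨⟨Rad_le_Pst hg, ?_⟩, Rad_le_stab_D2 H hg⟩
  obtain ⟨z, hz, a, rfl⟩ := mem_Rad.1 hg
  refine mem_stab_of fun x hx => ?_
  obtain ⟨w, hw, b, rfl⟩ := mem_Rad.1 hx.2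
  rwa [el_conj_el a b hz hw, h2, zero_mul, add_zero]

theorem Lev_le_St1 (H : Subgroup Gm) : (Lev : Subgroup Gm) ≤ St1 H := fun _ hg =>
  ⟨Lev_le_Pst hg, stab_D2_of (c := 1) (by rw [hg.1, one_smul]) fun t ht => by simpa using ht⟩

theorem Lev_mem_St0 {H : Subgroup Gm} {g : Gm} (hg : g ∈ (Lev : Subgroup Gm))
    (h : ∀ z ∈ Sb H, act g z ∈ Sb H) : g ∈ St0 H := by
  refine ⟨⟨Lev_le_Pst hg, mem_stab_of fun x hx => ?_⟩, (Lev_le_St1 H hg).2⟩
  obtain ⟨z, hz, a, rfl⟩ := mem_D1.1 hx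
  exact mem_D1.2 ⟨_, h z hz, a, el_conj_Lev hg a hz.1⟩

theorem dil_mem_St0 {H : Subgroup Gm} {c : Fˣ} (hS : ∀ z ∈ Sb H, (c : F) • z ∈ Sb H)
    (hZ : ∀ t ∈ Z1 H, (c : F) * c * t ∈ Z1 H) : dil c ∈ St0 H := by
  refine ⟨⟨dil_mem_Pst c, mem_stab_of fun x hx => ?_⟩, stab_D2_of (act_dil_e c) hZ⟩
  obtain ⟨z, hz, a, rfl⟩ := mem_D1.1 hx
  exact mem_D1.2 ⟨_, hS z hz, _, dil_conj_el c a hz.1⟩

theorem Sb_of_St0 {H : Subgroup Gm} {g : Gm} (hg : g ∈ St0 H) (hL : g ∈ (Lev : Subgroup Gm)) {z : Vm}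
    (hz : z ∈ Sb H) : act g z ∈ Sb H := by
  obtain ⟨w, hw, b, hb⟩ := mem_D1.1 ((hg.1.2 (el z 0)).1 (mem_D1.2 ⟨z, hz, 0, rfl⟩))
  rw [el_conj_Lev hL 0 hz.1] at hb
  exact (el_inj (Lev_W hL hz.1) hw.1 hb).1 ▸ hw

theorem Sb_of_StF {H : Subgroup Gm} {g : Gm} (hg : g ∈ StF H) (hL : g ∈ (Lev : Subgroup Gm)) {z : Vm}
    (hz : z ∈ Sb H) : act g z ∈ Sb H := by
  obtain ⟨hzW, a, ha⟩ := hz
  have h := ((hg.1.2 (el z a)).1 ⟨ha, el_mem_Rad a hzW⟩).1
  rw [el_conj_Lev hL a hzW] at h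
  exact ⟨Lev_W hL hzW, a, h⟩

/-- The basic inequality. -/
theorem bound {H St : Subgroup Gm} (hA : (Rad : Subgroup Gm) ≤ St) (hH : H ⊓ Pst ≤ St) (hS : St ≤ St1 H) :
    H.relIndex Rad * (St.relIndex Lev * (St1 H).relIndex Pst) ≤ H.relIndex Pst := by
  refine le_trans (Nat.mul_le_mul_left _ ?_) (relIndex_mul_le hA hH (hS.trans (St1_le_Pst H)))
  rw [← Subgroup.relIndex_mul_relIndex St (St1 H) Pst hS (St1_le_Pst H)]
  exact Nat.mul_le_mul_right _ (Subgroup.relIndex_le_of_le_right (Lev_le_St1 H) (relIndex_pos St (St1 H)).ne')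

/-! ### Duality -/

/-- The trace to the prime field. -/
noncomputable def chi (F : Type*) [Field F] [Finite F] : F →+ ZMod (ringChar F) :=
  letI := ZMod.algebra F (ringChar F)
  (Algebra.trace (ZMod (ringChar F)) F).toAddMonoidHom

theorem prime_ringChar : Fact (Nat.Prime (ringChar F)) := ⟨CharP.char_is_prime F _⟩

theorem eq_zero_of_chi {t : F} (h : ∀ s : F, chi F (s * t) = 0) : t = 0 := by
  letI := ZMod.algebra F (ringChar F)
  haveI := prime_ringChar (F := F)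
  by_contra ht
  refine FiniteField.trace_to_zmod_nondegenerate F ht |>.elim fun s hs => hs ?_
  rw [mul_comm]
  exact h s

/-- The pairing of the field. -/
noncomputable def fpair (F : Type*) [Field F] [Finite F] : F →+ F →+ ZMod (ringChar F) :=
  AddMonoidHom.mk' (fun t => (chi F).comp (AddMonoidHom.mulLeft t))
    fun s t => AddMonoidHom.ext fun x => by simp [add_mul]

theorem fpair_apply (t x : F) : fpair F t x = chi F (t * x) := rfl

/-- The annihilator of the part in the root group. -/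
def Lam (H : Subgroup Gm) : Set F := {x | ∀ t ∈ Z1 H, chi F (t * x) = 0}

/-- The cosets of `H` in the root group. -/
noncomputable def zc (H : Subgroup Gm) : ℕ := (Lam H).ncard

theorem zc_mul (H : Subgroup Gm) : zc H * Nat.card (Z1 H) = Fintype.card F := by
  haveI := prime_ringChar (F := F)
  letI : Module (ZMod (ringChar F)) F := (ZMod.algebra F (ringChar F)).toModule
  have hl : ∀ y : F, (∀ w, fpair F y w = 0) → y = 0 := fun y hy =>
    eq_zero_of_chi fun s => by rw [mul_comm]; exact hy s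
  rw [zc, ← Nat.card_coe_set_eq, ← Nat.card_eq_fintype_card,
    ← card_mul_card_ann (ringChar F) (fpair F) hl (fun y hy => hl y fun w => by rw [fpair_apply, mul_comm]; exact hy w)
      (Z1 H), mul_comm]
  rfl

theorem zero_mem_Lam (H : Subgroup Gm) : (0 : F) ∈ Lam H := fun t _ => by rw [mul_zero, map_zero]

theorem zc_pos (H : Subgroup Gm) : 1 ≤ zc H := (Set.ncard_pos (Set.toFinite _)).2 ⟨0, zero_mem_Lam H⟩

theorem zeta_cover (H : Subgroup Gm) (C : Set F) (hC : ∀ c : Fˣ, ∀ x ∈ C, (c : F) * c * x ∈ C)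
    (htr : ∀ x ∈ C, ∀ y ∈ C, ∃ c : Fˣ, (c : F) * c * x = y) (h0 : (0 : F) ∉ C)
    (hne : (Lam H ∩ C).Nonempty) : C.ncard ≤ (St1 H).relIndex Pst * (zc H - 1) := by
  obtain ⟨n, hn, hn1, -⟩ := cover (G := Fˣ) (fun c x => (c : F) * c * x) (fun x => by simp)
    (fun c d x => by simp only [Units.val_mul]; ring) ((St1 H).comap dilHom) (Lam H) C
    (fun c hc x hx t ht => by
      obtain ⟨s, hs, e⟩ := (hc.2 (tv e₀ t)).1 ⟨t, ht, rfl⟩
      rw [dilHom_apply, Pst_conj_tv (act_dil_e c), ← el_eq_tv, ← el_eq_tv] at e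
      have := hx _ ((el_inj (Submodule.zero_mem W₀) (Submodule.zero_mem W₀) e).2 ▸ hs)
      convert this using 2
      ring)
    hC htr
  have hi : ((St1 H).comap dilHom).index ≤ (St1 H).relIndex Pst := by
    rw [Subgroup.index_comap]
    exact Subgroup.relIndex_le_of_le_right (by rintro _ ⟨c, rfl⟩; exact dil_mem_Pst c) (relIndex_pos _ _).ne'
  have hsub : (Lam H ∩ C).ncard ≤ zc H - 1 := by
    rw [zc, ← Set.ncard_diff_singleton_of_mem (zero_mem_Lam H)]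
    exact Set.ncard_le_ncard fun x hx => ⟨hx.1, fun e => h0 (Set.mem_singleton_iff.1 e ▸ hx.2)⟩
  calc C.ncard ≤ n * C.ncard := Nat.le_mul_of_pos_left _ (hn1 hne)
    _ = ((St1 H).comap dilHom).index * (Lam H ∩ C).ncard := hn.symm
    _ ≤ _ := Nat.mul_le_mul hi hsub

theorem exists_Lam {H : Subgroup Gm} (hz : 1 < zc H) : ∃ x ∈ Lam H, x ≠ 0 :=
  Set.exists_ne_of_one_lt_ncard hz 0

theorem zeta_even (h2 : (2 : F) = 0) {H : Subgroup Gm} (hz : 1 < zc H) :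
    Fintype.card F - 1 ≤ (St1 H).relIndex Pst * (zc H - 1) := by
  haveI : CharP F 2 := CharTwo.of_one_ne_zero_of_two_eq_zero one_ne_zero h2
  obtain ⟨x₀, hx₀, hx0⟩ := exists_Lam hz
  refine le_trans (le_of_eq ?_) (zeta_cover H ({0}ᶜ) (fun c x hx => mul_ne_zero (mul_ne_zero c.ne_zero c.ne_zero) hx)
    (fun x hx y hy => ?_) (fun h => h rfl) ⟨x₀, hx₀, hx0⟩)
  · rw [Set.ncard_compl, Set.ncard_singleton, Nat.card_eq_fintype_card]
  · obtain ⟨r, hr⟩ := FiniteField.isSquare_of_char_two (ringChar.eq F 2) (y / x)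
    have hr0 : r ≠ 0 := fun e => div_ne_zero hy hx (by rw [hr, e, zero_mul])
    exact ⟨Units.mk0 r hr0, by rw [Units.val_mk0, ← hr, div_mul_cancel₀ _ hx]⟩

theorem zeta_odd {H : Subgroup Gm} (hz : 1 < zc H) :
    Fintype.card F - 1 ≤ 2 * ((St1 H).relIndex Pst * (zc H - 1)) := by
  classical
  obtain ⟨x₀, hx₀, hx0⟩ := exists_Lam hz
  refine le_trans ?_ (Nat.mul_le_mul_left 2 (zeta_cover H (Set.range fun c : Fˣ => (c : F) * c * x₀)
    (by rintro c _ ⟨d, rfl⟩; exact ⟨c * d, by simp only [Units.val_mul]; ring⟩)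
    (by
      rintro _ ⟨c, rfl⟩ _ ⟨d, rfl⟩
      refine ⟨d * c⁻¹, ?_⟩
      simp only [Units.val_mul]
      linear_combination ((d : F) * d * x₀ * ((c : F) * (c⁻¹ : Fˣ) + 1)) * Units.mul_inv c)
    (by rintro ⟨c, hc⟩; exact mul_ne_zero (mul_ne_zero c.ne_zero c.ne_zero) hx0 hc)
    ⟨x₀, hx₀, 1, by simp⟩))
  rw [← Fintype.card_units, ← Finset.card_univ]
  refine le_trans (Finset.card_le_mul_card_image (f := fun c : Fˣ => (c : F) * c * x₀) Finset.univ 2
    fun b hb => ?_) (le_of_eq ?_)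
  · obtain ⟨d, -, rfl⟩ := Finset.mem_image.1 hb
    refine le_trans (Finset.card_le_card (t := {d, -d}) fun c hc => ?_) Finset.card_le_two
    have h := mul_right_cancel₀ hx0 (Finset.mem_filter.1 hc).2
    rcases mul_self_eq_mul_self_iff.1 h with e | e
    · simp [Units.ext e]
    · simp [show c = -d from Units.ext (by simpa using e)]
  · rw [← Set.ncard_coe_finset, Finset.coe_image, Finset.coe_univ, Set.image_univ]

/-- A dilation stabilising the part in the root group, unless the orbit is regular. -/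
theorem exists_dil {H : Subgroup Gm} (h : (St1 H).relIndex Pst < Fintype.card F - 1) :
    ∃ c : Fˣ, c ≠ 1 ∧ ∀ t ∈ Z1 H, (c : F) * c * t ∈ Z1 H := by
  by_contra hcon
  push Not at hcon
  have hbot : (St1 H).comap dilHom = ⊥ := by
    refine eq_bot_iff.2 fun c hc => Subgroup.mem_bot.2 (by_contra fun hc1 => ?_)
    obtain ⟨t, ht, hnot⟩ := hcon c hc1
    obtain ⟨s, hs, e⟩ := (hc.2 (tv e₀ t)).1 ⟨t, ht, rfl⟩
    rw [dilHom_apply, Pst_conj_tv (act_dil_e c), ← el_eq_tv, ← el_eq_tv] at e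
    exact hnot ((el_inj (Submodule.zero_mem W₀) (Submodule.zero_mem W₀) e).2 ▸ hs)
  have h1 : ((St1 H).comap dilHom).index ≤ (St1 H).relIndex Pst := by
    rw [Subgroup.index_comap]
    exact Subgroup.relIndex_le_of_le_right (by rintro _ ⟨c, rfl⟩; exact dil_mem_Pst c) (relIndex_pos _ _).ne'
  rw [hbot, Subgroup.index_bot, Nat.card_units, Nat.card_eq_fintype_card] at h1
  omega

/-- The pairing of the complement. -/
noncomputable def wpair : W₀ →+ W₀ →+ ZMod (ringChar F) :=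
  AddMonoidHom.mk' (fun u => AddMonoidHom.mk' (fun z => chi F (sf u.1 z.1))
    fun z w => by rw [Submodule.coe_add, sf_add_right, map_add])
    fun u v => AddMonoidHom.ext fun z => by
      show chi F (sf (u + v : W₀).1 z.1) = chi F (sf u.1 z.1) + chi F (sf v.1 z.1)
      rw [Submodule.coe_add, sf_add_left, map_add]

theorem wpair_apply (u z : W₀) : wpair u z = chi F (sf u.1 z.1) := rfl

theorem wpair_left {u : W₀} (h : ∀ z, wpair u z = 0) : u = 0 := by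
  by_contra hu
  obtain ⟨x, hx, hne⟩ := exists_W_ne u.2 fun e => hu (Subtype.ext e)
  refine hne (eq_zero_of_chi fun s => ?_)
  have := h ⟨s • x, Submodule.smul_mem W₀ s hx⟩
  rwa [wpair_apply, sf_smul_right] at this

theorem wpair_right {u : W₀} (h : ∀ z, wpair z u = 0) : u = 0 := wpair_left fun z => by
  rw [wpair_apply, sf_swap z.1 u.1, map_neg, ← wpair_apply, h z, neg_zero]

/-- The annihilator of `Sb H` in the complement. -/
def Ann (H : Subgroup Gm) : Set Vm := {u | u ∈ W₀ ∧ ∀ z ∈ Sb H, chi F (sf z u) = 0}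

/-- Its order. -/
noncomputable def al (H : Subgroup Gm) : ℕ := (Ann H).ncard

theorem al_mul (H : Subgroup Gm) : al H * Nat.card (Sb H) = Fintype.card F ^ (2 * k) := by
  haveI := prime_ringChar (F := F)
  letI : Module (ZMod (ringChar F)) W₀ := AddCommGroup.zmodModule fun x => by
    rw [← Nat.cast_smul_eq_nsmul F, ringChar.Nat.cast_ringChar, zero_smul]
  let A : AddSubgroup W₀ := (Sb H).comap (Submodule.toAddSubgroup W₀).subtype
  have hA : Nat.card A = Nat.card (Sb H) := Nat.card_congr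
    { toFun := fun z => ⟨z.1.1, z.2⟩
      invFun := fun z => ⟨⟨z.1, z.2.1⟩, z.2⟩
      left_inv := fun z => rfl
      right_inv := fun z => rfl }
  have h := card_mul_card_ann (ringChar F) (wpair (F := F) (k := k)) (fun _ => wpair_left) (fun _ => wpair_right) A
  rw [hA, card_W] at h
  rw [← h, mul_comm, al, ← Nat.card_coe_set_eq]
  congr 1
  exact Nat.card_congr
    { toFun := fun u => ⟨⟨u.1, u.2.1⟩, fun w hw => u.2.2 _ hw⟩
      invFun := fun u => ⟨u.1.1, u.1.2, fun z hz => u.2 ⟨z, hz.1⟩ hz⟩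
      left_inv := fun u => rfl
      right_inv := fun u => rfl }

theorem al_pos (H : Subgroup Gm) : 1 ≤ al H :=
  (Set.ncard_pos (Set.toFinite _)).2 ⟨0, Submodule.zero_mem W₀, fun z _ => by rw [sf_zero_right, map_zero]⟩

theorem card_Sb_pos (H : Subgroup Gm) : 1 ≤ Nat.card (Sb H) := Nat.card_pos

theorem r_mul_sig (H : Subgroup Gm) :
    H.relIndex Rad * Nat.card (Sb H) = zc H * Fintype.card F ^ (2 * k) := by
  refine Nat.eq_of_mul_eq_mul_right (Nat.card_pos (α := Z1 H)) ?_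
  rw [mul_assoc, relIndex_Rad, mul_right_comm, zc_mul, pow_succ, mul_comm]

theorem r_eq (H : Subgroup Gm) : H.relIndex Rad = zc H * al H := by
  refine Nat.eq_of_mul_eq_mul_right (Nat.card_pos (α := Sb H)) ?_
  rw [r_mul_sig, mul_assoc, al_mul]

/-! ### Covering the complement -/

theorem cover_W {St : Subgroup Gm} (D : Set Vm) (hDW : ∀ x ∈ D, x ∈ W₀) (h0 : (0 : Vm) ∈ D)
    (hD : ∀ g ∈ St, g ∈ (Lev : Subgroup Gm) → ∀ x ∈ D, act g x ∈ D) :
    ∃ c, St.relIndex Lev * (D.ncard - 1) = c * (Fintype.card F ^ (2 * k) - 1) ∧ (1 < D.ncard → 1 ≤ c) ∧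
      (c = 1 → ∀ g ∈ (Lev : Subgroup Gm), ∀ x ∈ D, x ≠ 0 → act g x ∈ D → g ∈ St) := by
  obtain ⟨c, hc, hc1, hc2⟩ := cover (G := (Lev : Subgroup Gm)) (fun g x => act g.1 x) act_one
    (fun g h x => act_mul g.1 h.1 x) (St.subgroupOf Lev) D ((W₀ : Set Vm) \ {0})
    (fun g hg x hx => hD g.1 hg g.2 x hx)
    (fun g x hx => ⟨Lev_W g.2 hx.1, fun e => hx.2 (act_injective g.1 ((Set.mem_singleton_iff.1 e).trans (act_zero g.1).symm))⟩)
    (fun x hx y hy => by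
      obtain ⟨g, hg, e⟩ := exists_move_one hx.1 hy.1 hx.2 hy.2
      exact ⟨⟨g, hg⟩, e⟩)
  have e1 : D ∩ ((W₀ : Set Vm) \ {0}) = D \ {0} := by
    ext x; exact ⟨fun h => ⟨h.1, h.2.2⟩, fun h => ⟨h.1, hDW x h.1, h.2⟩⟩
  have hW : ((W₀ : Set Vm)).ncard = Fintype.card F ^ (2 * k) := by rw [← Nat.card_coe_set_eq]; exact card_W
  rw [e1, Set.ncard_diff_singleton_of_mem h0, Set.ncard_diff_singleton_of_mem (Submodule.zero_mem W₀ : (0 : Vm) ∈ _),
    hW] at hc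
  refine ⟨c, hc, fun h => hc1 ?_, fun e g hg x hx hx0 hgx => hc2 e ⟨g, hg⟩ x ⟨hx, hDW x hx, hx0⟩ hgx⟩
  obtain ⟨x, hx, hx0⟩ := Set.exists_ne_of_one_lt_ncard h 0
  exact ⟨x, hx, hDW x hx, hx0⟩

theorem cover_Sb (H : Subgroup Gm) {St : Subgroup Gm}
    (hS : ∀ g ∈ St, g ∈ (Lev : Subgroup Gm) → ∀ z ∈ Sb H, act g z ∈ Sb H) :
    ∃ c, St.relIndex Lev * (Nat.card (Sb H) - 1) = c * (Fintype.card F ^ (2 * k) - 1) ∧
      (1 < Nat.card (Sb H) → 1 ≤ c) ∧
      (c = 1 → ∀ g ∈ (Lev : Subgroup Gm), ∀ x ∈ Sb H, x ≠ 0 → act g x ∈ Sb H → g ∈ St) :=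
  cover_W (Sb H : Set Vm) (fun _ hx => hx.1) (zero_mem _) hS

theorem cover_Ann (H : Subgroup Gm) {St : Subgroup Gm}
    (hS : ∀ g ∈ St, g ∈ (Lev : Subgroup Gm) → ∀ z ∈ Sb H, act g z ∈ Sb H) :
    ∃ c, St.relIndex Lev * (al H - 1) = c * (Fintype.card F ^ (2 * k) - 1) ∧ (1 < al H → 1 ≤ c) := by
  refine (fun ⟨c, h1, h2, _⟩ => ⟨c, h1, h2⟩ : _ → _) (cover_W (St := St) (Ann H) (fun _ hx => hx.1)
    ⟨Submodule.zero_mem W₀, fun z _ => by rw [sf_zero_right, map_zero]⟩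
    fun g hg hL u hu => ⟨Lev_W hL hu.1, fun z hz => ?_⟩)
  have := hu.2 _ (hS g⁻¹ (inv_mem hg) (inv_mem hL) z hz)
  rwa [← sf_act g, act_act_inv] at this

/-- Two independent vectors of a set force many translates. -/
theorem cover_pairs {St : Subgroup Gm} (hk : 1 ≤ k) (D : Set Vm)
    (hD : ∀ g ∈ St, g ∈ (Lev : Subgroup Gm) → ∀ x ∈ D, act g x ∈ D) {v w : Vm} (hv : v ∈ D) (hw : w ∈ D)
    (hvW : v ∈ W₀) (hwW : w ∈ W₀) (hv0 : v ≠ 0) (hwv : w ∉ F ∙ v) :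
    (Fintype.card F ^ (2 * k) - 1) * (Fintype.card F ^ (2 * k - 1) - Fintype.card F) ≤
      St.relIndex Lev * (D.ncard * D.ncard) := by
  classical
  let C : Set (Vm × Vm) := {p | p.1 ∈ W₀ ∧ p.2 ∈ W₀ ∧ p.1 ≠ 0 ∧ p.2 ∉ F ∙ p.1 ∧ sf p.1 p.2 = sf v w}
  obtain ⟨c, hc, hc1, -⟩ := cover (G := (Lev : Subgroup Gm)) (fun g (p : Vm × Vm) => (act g.1 p.1, act g.1 p.2))
    (fun p => by simp only [Subgroup.coe_one, act_one]) (fun g h p => by simp only [Subgroup.coe_mul, act_mul])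
    (St.subgroupOf Lev) (D ×ˢ D) C
    (fun g hg p hp => ⟨hD g.1 hg g.2 _ hp.1, hD g.1 hg g.2 _ hp.2⟩)
    (fun g p hp => ⟨Lev_W g.2 hp.1, Lev_W g.2 hp.2.1, fun e => hp.2.2.1 (act_injective g.1 (e.trans (act_zero _).symm)),
      fun e => by
        obtain ⟨a, ha⟩ := Submodule.mem_span_singleton.1 e
        exact hp.2.2.2.1 (Submodule.mem_span_singleton.2 ⟨a, act_injective g.1 (by rw [act_smul]; exact ha)⟩),
      by show sf (act g.1 p.1) (act g.1 p.2) = _; rw [sf_act]; exact hp.2.2.2.2⟩)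
    (fun p hp p' hp' => by
      obtain ⟨g₁, hg₁, e₁⟩ := exists_move_one hp.1 hp'.1 hp.2.2.1 hp'.2.2.1
      obtain ⟨g₂, hg₂, e₂, e₃⟩ := exists_move_two hp'.1 (Lev_W hg₁ hp.2.1) hp'.2.1 hp'.2.2.1
        (fun e => by
          obtain ⟨a, ha⟩ := Submodule.mem_span_singleton.1 e
          exact hp.2.2.2.1 (Submodule.mem_span_singleton.2 ⟨a, act_injective g₁ (by rw [act_smul, e₁]; exact ha)⟩))
        hp'.2.2.2.1 (by rw [hp'.2.2.2.2, ← hp.2.2.2.2, ← sf_act g₁ p.1 p.2, e₁])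
      exact ⟨⟨g₂ * g₁, mul_mem hg₂ hg₁⟩, Prod.ext (by show act _ _ = _; rw [act_mul, e₁, e₂])
        (by show act _ _ = _; rw [act_mul, e₃])⟩)
  have hC : (Fintype.card F ^ (2 * k) - 1) * (Fintype.card F ^ (2 * k - 1) - Fintype.card F) ≤ C.ncard := by
    let B := {u : W₀ // u ≠ 0}
    let fib : B → Type _ := fun u => {x : W₀ // sf u.1.1 x.1 = sf v w ∧ x.1 ∉ F ∙ u.1.1}
    have hfib : ∀ u : B, Fintype.card F ^ (2 * k - 1) - Fintype.card F ≤ Nat.card (fib u) := by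
      intro u
      let φ : W₀ →ₗ[F] F := (sfBil F k u.1.1).domRestrict W₀
      have hφ : φ ≠ 0 := fun e => by
        obtain ⟨x, hx, hne⟩ := exists_W_ne u.1.2 fun e' => u.2 (Subtype.ext e')
        exact hne (LinearMap.congr_fun e ⟨x, hx⟩)
      have h1 := Cfsg.Agent.Classical.SpCount.card_fibre hφ (sf v w)
      have hfr : finrank F W₀ = 2 * k := by
        have h := card_W (F := F) (k := k)
        rw [Module.natCard_eq_pow_finrank (K := F), Nat.card_eq_fintype_card] at h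
        exact Nat.pow_right_injective Fintype.one_lt_card h
      rw [hfr] at h1
      have h2 : Nat.card {x : W₀ // φ x = sf v w} ≤ Nat.card (fib u ⊕ F) := by
        refine Nat.card_le_card_of_injective (fun x => if h : x.1.1 ∈ F ∙ u.1.1 then
          Sum.inr (Submodule.mem_span_singleton.1 h).choose else Sum.inl ⟨x.1, x.2, h⟩) fun x y h => ?_
        by_cases hx : x.1.1 ∈ F ∙ u.1.1 <;> by_cases hy : y.1.1 ∈ F ∙ u.1.1 <;>
          simp only [hx, hy, dif_pos, dif_neg, not_false_eq_true, reduceCtorEq, Sum.inl.injEq, Sum.inr.injEq] at h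
        · refine Subtype.ext (Subtype.ext ?_)
          rw [← (Submodule.mem_span_singleton.1 hx).choose_spec, ← (Submodule.mem_span_singleton.1 hy).choose_spec, h]
        · exact Subtype.ext (congrArg (fun z : fib u => z.1) h)
      rw [Nat.card_sum, h1, Nat.card_eq_fintype_card (α := F)] at h2
      omega
    have hinj : Function.Injective (fun p : Σ u, fib u => ((p.1.1.1, p.2.1.1) : Vm × Vm)) := by
      rintro ⟨u, x⟩ ⟨u', x'⟩ h
      obtain ⟨h1, h2⟩ := Prod.ext_iff.1 h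
      obtain rfl : u = u' := Subtype.ext (Subtype.ext h1)
      exact congrArg (Sigma.mk u) (Subtype.ext (Subtype.ext h2))
    calc _ = ∑ _u : B, (Fintype.card F ^ (2 * k - 1) - Fintype.card F) := by
          rw [Finset.sum_const, Finset.card_univ, smul_eq_mul, ← Nat.card_eq_fintype_card (α := B)]
          congr 1
          show _ = Nat.card {u : W₀ // u ≠ 0}
          rw [Nat.card_eq_fintype_card, Fintype.card_subtype_compl, Fintype.card_subtype_eq,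
            ← Nat.card_eq_fintype_card (α := W₀), card_W]
      _ ≤ ∑ u : B, Nat.card (fib u) := Finset.sum_le_sum fun u _ => hfib u
      _ = Nat.card (Σ u, fib u) := Nat.card_sigma.symm
      _ = (Set.range fun p : Σ u, fib u => ((p.1.1.1, p.2.1.1) : Vm × Vm)).ncard := by
          rw [← Nat.card_coe_set_eq, Nat.card_range_of_injective hinj]
      _ ≤ C.ncard := Set.ncard_le_ncard (by
          rintro _ ⟨⟨u, x⟩, rfl⟩
          exact ⟨u.1.2, x.1.2, fun e => u.2 (Subtype.ext e), x.2.2, x.2.1⟩)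
  have hne : ((D ×ˢ D) ∩ C).Nonempty := ⟨(v, w), ⟨hv, hw⟩, hvW, hwW, hv0, hwv, rfl⟩
  calc _ ≤ C.ncard := hC
    _ ≤ c * C.ncard := Nat.le_mul_of_pos_left _ (hc1 hne)
    _ = St.relIndex Lev * ((D ×ˢ D) ∩ C).ncard := hc.symm
    _ ≤ St.relIndex Lev * (D ×ˢ D).ncard := Nat.mul_le_mul_left _ (Set.ncard_le_ncard Set.inter_subset_left)
    _ = _ := by rw [Set.ncard_prod]

end Cfsg.Agent.Small.SpMinIndex
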