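import Cfsg.Agent.Lib.Classical.SpRadical.Values
import Cfsg.Agent.Lib.Small.SpMinIndex.Orbit

/-!
# The quadratic forms polarising to the symplectic form, characteristic two

On a non-degenerate `U`, the orthogonal of a set `K`, the forms vanishing on `K` fall in two classes under
the group fixing `K`, distinguished by the sum of a character, of sizes `(|U| ± √|U|) / 2`.
-/

set_option autoImplicit false
set_option linter.unusedSectionVars false

namespace Cfsg.Agent.Small.SpMinIndex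

open Matrix Module Cfsg.Agent.Small.PSpn Cfsg.Agent.Small.ArfTwo

variable {F : Type*} [Field F] [Fintype F] [CharP F 2] {k : ℕ}

local notation "Vm" => Fin (k + 1) ⊕ Fin (k + 1) → F
local notation "Gm" => Matrix.symplecticGroup (Fin (k + 1)) F
local notation "e₀" => (se (0 : Fin (k + 1)) : Fin (k + 1) ⊕ Fin (k + 1) → F)
local notation "f₀" => (sff (0 : Fin (k + 1)) : Fin (k + 1) ⊕ Fin (k + 1) → F)
local notation "W₀" => (Wsub (0 : Fin (k + 1)) : Submodule F (Fin (k + 1) ⊕ Fin (k + 1) → F))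

theorem sf_symm (u v : Vm) : sf v u = sf u v := by rw [sf_swap, CharTwo.neg_eq]

theorem two_zero : (2 : F) = 0 := CharTwo.two_eq_zero

/-- Quadratic forms with polar form `sf` vanishing on `K`. -/
def Fr (K : Set Vm) : Set (Vm → F) :=
  {φ | (∀ x y, φ (x + y) = φ x + φ y + sf x y) ∧ (∀ (c : F) x, φ (c • x) = c ^ 2 * φ x) ∧ ∀ x ∈ K, φ x = 0}

/-- The translate by the square of a linear functional. -/
def shift (φ : Vm → F) (a : Vm) : Vm → F := fun x => φ x + sf a x ^ 2

/-- The standard form. -/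
def stdForm : Vm → F := fun x => ∑ i, x (.inl i) * x (.inr i)

theorem stdForm_mem : (stdForm : Vm → F) ∈ Fr ({e₀, f₀} : Set Vm) := by
  refine ⟨fun x y => ?_, fun c x => ?_, ?_⟩
  · simp only [stdForm, sf, Cfsg.Agent.Lead.Symp.form_eq, ← Finset.sum_add_distrib, Pi.add_apply, CharTwo.sub_eq_add]
    exact Finset.sum_congr rfl fun i _ => by ring
  · simp only [stdForm, Finset.mul_sum, Pi.smul_apply, smul_eq_mul]
    exact Finset.sum_congr rfl fun i _ => by ring
  · rintro x (rfl | rfl)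
    · exact Finset.sum_eq_zero fun i _ => by simp [se]
    · exact Finset.sum_eq_zero fun i _ => by simp [sff]

theorem Fr_zero {K : Set Vm} {φ : Vm → F} (h : φ ∈ Fr K) : φ 0 = 0 := by
  have := h.2.1 0 0
  simpa using this

theorem shift_inj (φ : Vm → F) : Function.Injective (shift φ) := fun a b h => by
  by_contra hne
  obtain ⟨x, hx⟩ := Cfsg.Agent.Lead.Symp.exists_form_ne (sub_ne_zero.2 hne)
  refine hx ?_
  have h1 : sf a x ^ 2 = sf b x ^ 2 := add_left_cancel (congrFun h x)
  rw [show Cfsg.sympForm _ F (a - b) x = sf (a - b) x from rfl, sf_sub_left, sub_eq_zero]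
  exact CharTwo.sq_inj.1 h1

theorem exists_tv_coeff {z : F} (h : psi z = 1) : ∃ c : F, c ^ 2 * z + c = 1 := by
  by_cases h0 : z = 0
  · exact ⟨1, by rw [h0]; ring⟩
  · obtain ⟨μ, hμ⟩ := psi_eq_one.1 h
    refine ⟨μ / z, ?_⟩
    field_simp
    linear_combination hμ

/-- The set `K` and its orthogonal. -/
structure Frame (K : Set Vm) (U : Submodule F Vm) (j : ℕ) : Prop where
  perp : ∀ a, a ∈ U ↔ ∀ x ∈ K, sf a x = 0
  nondeg : ∀ a ∈ U, (∀ x ∈ U, sf a x = 0) → a = 0
  card : Nat.card U = Fintype.card F ^ (2 * j)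

variable {K : Set (Fin (k + 1) ⊕ Fin (k + 1) → F)} {U : Submodule F (Fin (k + 1) ⊕ Fin (k + 1) → F)} {j : ℕ}

theorem frame_W : Frame ({e₀, f₀} : Set Vm) W₀ k := by
  refine ⟨fun a => ⟨fun h x hx => ?_, fun h => ?_⟩, fun a ha h => ?_, card_W⟩
  · rcases hx with rfl | rfl
    · exact (W_perp h).2.1
    · exact (W_perp h).2.2.1
  · exact mem_W_of (sf_eq_zero_swap (h _ (Or.inl rfl))) (h _ (Or.inr rfl))
  · by_contra ha0
    obtain ⟨x, hx, hne⟩ := exists_W_ne ha ha0
    exact hne (h x hx)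

theorem frame_top : Frame (∅ : Set Vm) (⊤ : Submodule F Vm) (k + 1) := by
  refine ⟨fun a => ⟨fun _ x hx => hx.elim, fun _ => trivial⟩, fun a _ h => ?_, ?_⟩
  · by_contra ha0
    obtain ⟨x, hx⟩ := Cfsg.Agent.Lead.Symp.exists_form_ne ha0
    exact hx (h x trivial)
  · rw [Module.natCard_eq_pow_finrank (K := F), finrank_top, finrank_Vm, Nat.card_eq_fintype_card]

theorem Fr_mono {K' : Set Vm} (h : K' ⊆ K) : Fr K ⊆ Fr K' := fun _ hφ => ⟨hφ.1, hφ.2.1, fun x hx => hφ.2.2 x (h hx)⟩

variable (hU : Frame K U j)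
include hU

theorem shift_mem {φ : Vm → F} (hφ : φ ∈ Fr K) {a : Vm} (ha : a ∈ U) : shift φ a ∈ Fr K := by
  refine ⟨fun x y => ?_, fun c x => ?_, fun x hx => ?_⟩
  · simp only [shift, hφ.1 x y, sf_add_right]
    linear_combination (sf a x * sf a y) * (two_zero (F := F))
  · simp only [shift, hφ.2.1, sf_smul_right]; ring
  · rw [shift, hφ.2.2 x hx, (hU.perp a).1 ha x hx]; ring

theorem exists_shift_eq {φ ψ : Vm → F} (hφ : φ ∈ Fr K) (hψ : ψ ∈ Fr K) : ∃ a ∈ U, ψ = shift φ a := by
  have hr : ∀ a : F, (frobeniusEquiv F 2).symm a ^ 2 = a := frobeniusEquiv_symm_pow_p F 2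
  let g : Vm →ₗ[F] F :=
    { toFun := fun x => (frobeniusEquiv F 2).symm (ψ x + φ x)
      map_add' := fun x y => by
        rw [← map_add]
        congr 1
        rw [hψ.1, hφ.1]
        linear_combination (sf x y) * (two_zero (F := F))
      map_smul' := fun c x => CharTwo.sq_inj.1 (by
        rw [RingHom.id_apply, smul_eq_mul, mul_pow, hr, hr, hψ.2.1, hφ.2.1]; ring) }
  obtain ⟨a, ha⟩ := exists_rep g
  have hsq : ∀ x, sf a x ^ 2 = ψ x + φ x := fun x => by rw [sf_symm x a, ha]; exact hr _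
  refine ⟨a, (hU.perp a).2 fun x hx => ?_, funext fun x => ?_⟩
  · have := hsq x
    rw [hψ.2.2 x hx, hφ.2.2 x hx, add_zero] at this
    exact pow_eq_zero_iff two_ne_zero |>.1 this
  · rw [shift, hsq]
    linear_combination -(φ x) * (two_zero (F := F))

omit hU

/-- The character sum over `U`. -/
noncomputable def csum (U : Submodule F Vm) (φ : Vm → F) : ℤ := by
  classical exact ∑ x : U, psi (φ x)

include hU

theorem csum_shift {φ : Vm → F} (hφ : φ ∈ Fr K) {a : Vm} (ha : a ∈ U) :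
    csum U (shift φ a) = psi (φ a) * csum U φ := by
  classical
  have key : ∀ x : U, psi (shift φ a x.1) = psi (φ a) * psi (φ (x + ⟨a, ha⟩ : U).1) := fun x => by
    rw [Submodule.coe_add, shift, hφ.1, psi_add, psi_add, psi_add, psi_sq, sf_symm x.1 a]
    linear_combination (-(psi (φ x.1) * psi (sf x.1 a))) * psi_mul_self (φ a)
  rw [csum, csum, Finset.sum_congr rfl fun x _ => key x, ← Finset.mul_sum]
  exact congrArg _ (Equiv.sum_comp (Equiv.addRight (⟨a, ha⟩ : U)) fun x : U => psi (φ x.1))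

theorem csum_sq {φ : Vm → F} (hφ : φ ∈ Fr K) :
    csum U φ = (Fintype.card F : ℤ) ^ j ∨ csum U φ = -(Fintype.card F : ℤ) ^ j := by
  classical
  refine sq_eq_sq_iff_eq_or_eq_neg.1 ?_
  have h := Cfsg.Agent.Classical.SpRad.gauss_sq ((sfBil F k).domRestrict₁₂ U U)
    (fun w hw => Subtype.ext (hU.nondeg w.1 w.2 fun x hx => hw ⟨x, hx⟩)) (fun w : U => φ w.1)
    (fun v w => by rw [Submodule.coe_add, hφ.1]; rfl) (s := 1) one_ne_zero
  simp only [one_mul] at h
  rw [csum, pow_two, h, ← Nat.card_eq_fintype_card (α := U), hU.card, Nat.cast_pow, ← pow_mul, mul_comm]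

omit hU

/-- A class of forms. -/
def Cl (K : Set Vm) (U : Submodule F Vm) (s : ℤ) : Set (Vm → F) := {φ | φ ∈ Fr K ∧ csum U φ = s}

include hU

theorem two_card_Cl {φ : Vm → F} (hφ : φ ∈ Fr K) {s : ℤ}
    (hs : s = (Fintype.card F : ℤ) ^ j ∨ s = -(Fintype.card F : ℤ) ^ j) :
    2 * ((Cl K U s).ncard : ℤ) = (Fintype.card F : ℤ) ^ (2 * j) + s := by
  classical
  have h0 := csum_sq hU hφ
  have hne : csum U φ ≠ 0 := by
    have : (0 : ℤ) < (Fintype.card F : ℤ) ^ j := pow_pos (by exact_mod_cast Fintype.card_pos) j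
    rcases h0 with e | e <;> omega
  let T : Finset U := Finset.univ.filter fun a : U => psi (φ a.1) * csum U φ = s
  have e : Cl K U s = (fun a : U => shift φ a.1) '' (T : Set U) := by
    ext ψ
    constructor
    · rintro ⟨hψ, hψs⟩
      obtain ⟨a, ha, rfl⟩ := exists_shift_eq hU hφ hψ
      refine ⟨⟨a, ha⟩, Finset.mem_coe.2 (Finset.mem_filter.2 ⟨Finset.mem_univ _, ?_⟩), rfl⟩
      rw [← csum_shift hU hφ ha]; exact hψs
    · rintro ⟨a, ha, rfl⟩
      exact ⟨shift_mem hU hφ a.2, by rw [csum_shift hU hφ a.2]; exact (Finset.mem_filter.1 (Finset.mem_coe.1 ha)).2⟩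
  rw [e, Set.ncard_image_of_injective _ fun a b h => Subtype.ext (shift_inj φ h), Set.ncard_coe_finset]
  have hcard : (Fintype.card U : ℤ) = (Fintype.card F : ℤ) ^ (2 * j) := by
    rw [← Nat.card_eq_fintype_card, hU.card]; push_cast; ring
  have key : ∀ a : U, (2 : ℤ) * (if psi (φ a.1) * csum U φ = s then 1 else 0) =
      1 + psi (φ a.1) * (if csum U φ = s then 1 else -1) := fun a => by
    have : (0 : ℤ) < (Fintype.card F : ℤ) ^ j := pow_pos (by exact_mod_cast Fintype.card_pos) j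
    rcases psi_or (φ a.1) with e1 | e1 <;> rcases hs with rfl | rfl <;> rcases h0 with e' | e' <;>
      rw [e1, e'] <;> split_ifs <;> omega
  have h2 : 2 * (T.card : ℤ) = Fintype.card U + csum U φ * (if csum U φ = s then 1 else -1) := by
    rw [csum, Finset.sum_mul, Finset.card_filter, Nat.cast_sum, Finset.mul_sum]
    rw [show (Fintype.card U : ℤ) = ∑ _a : U, (1 : ℤ) by simp, ← Finset.sum_add_distrib]
    refine Finset.sum_congr rfl fun a _ => ?_
    rw [← csum]
    push_cast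
    exact key a
  rw [h2, hcard]
  have : (0 : ℤ) < (Fintype.card F : ℤ) ^ j := pow_pos (by exact_mod_cast Fintype.card_pos) j
  rcases hs with rfl | rfl <;> rcases h0 with e' | e' <;> rw [e'] <;> split_ifs <;> omega

/-- Forms of one class are conjugate under the transvections fixing `K`. -/
theorem Cl_trans {φ ψ : Vm → F} {s : ℤ} (hφ : φ ∈ Cl K U s) (hψ : ψ ∈ Cl K U s) :
    ∃ g : Gm, (∀ x ∈ K, act g x = x) ∧ ψ = fun x => φ (act g x) := by
  obtain ⟨a, ha, rfl⟩ := exists_shift_eq hU hφ.1 hψ.1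
  have h : psi (φ a) = 1 := by
    have h1 := csum_shift hU hφ.1 ha
    rw [hψ.2, hφ.2] at h1
    have hne : s ≠ 0 := by
      have h0 := csum_sq hU hφ.1
      rw [hφ.2] at h0
      have : (0 : ℤ) < (Fintype.card F : ℤ) ^ j := pow_pos (by exact_mod_cast Fintype.card_pos) j
      rcases h0 with e | e <;> omega
    exact mul_right_cancel₀ hne (h1.symm.trans (one_mul s).symm)
  obtain ⟨c, hc⟩ := exists_tv_coeff h
  refine ⟨tv a c, fun x hx => tv_fix ((hU.perp a).1 ha x hx) c, funext fun x => ?_⟩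
  rw [act_tv, hφ.1.1, hφ.1.2.1, sf_smul_right, sf_symm a x, shift]
  linear_combination -(sf a x ^ 2) * hc

theorem Cl_map {φ : Vm → F} {s : ℤ} (hφ : φ ∈ Cl K U s) {g : Gm} (hg : ∀ x ∈ K, act g x = x) :
    (fun x => φ (act g x)) ∈ Cl K U s := by
  classical
  have hgU : ∀ a ∈ U, act g a ∈ U := fun a ha => (hU.perp _).2 fun x hx => by
    rw [← hg x hx, sf_act]; exact (hU.perp a).1 ha x hx
  refine ⟨⟨fun x y => ?_, fun c x => ?_, fun x hx => ?_⟩, ?_⟩
  · show φ (act g (x + y)) = φ (act g x) + φ (act g y) + sf x y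
    rw [act_add, hφ.1.1, sf_act]
  · show φ (act g (c • x)) = c ^ 2 * φ (act g x)
    rw [act_smul, hφ.1.2.1]
  · show φ (act g x) = 0
    rw [hg x hx]; exact hφ.1.2.2 x hx
  · rw [← hφ.2, csum, csum]
    have hinj : Function.Injective fun a : U => (⟨act g a.1, hgU a.1 a.2⟩ : U) :=
      fun a b h => Subtype.ext (act_injective g (congrArg Subtype.val h))
    exact Function.Bijective.sum_comp (Finite.injective_iff_bijective.1 hinj) fun a : U => psi (φ a.1)

end Cfsg.Agent.Small.SpMinIndex
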