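import Cfsg.Agent.Lib.Small.SpMinIndex.Classify

/-!
# Transvections from a small trace in the radical

If `Sb H` is zero, or a set of order `|F|` for a space of dimension four, the stabiliser of the data lifts to
`H` and yields full transvection groups.
-/

set_option autoImplicit false
set_option linter.unusedSectionVars false

namespace Cfsg.Agent.Small.SpMinIndex

open Matrix Module Cfsg.Agent.Small.PSpn

variable {F : Type*} [Field F] [Fintype F] {k : ℕ}

local notation "Vm" => Fin (k + 1) ⊕ Fin (k + 1) → F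
local notation "Gm" => Matrix.symplecticGroup (Fin (k + 1)) F
local notation "e₀" => (se (0 : Fin (k + 1)) : Fin (k + 1) ⊕ Fin (k + 1) → F)
local notation "f₀" => (sff (0 : Fin (k + 1)) : Fin (k + 1) ⊕ Fin (k + 1) → F)
local notation "W₀" => (Wsub (0 : Fin (k + 1)) : Submodule F (Fin (k + 1) ⊕ Fin (k + 1) → F))
local notation "qF" => Fintype.card F

/-- All transvections at `v` lie in `H`. -/
def Full (H : Subgroup Gm) (v : Vm) : Prop := ∀ t : F, tv v t ∈ H

theorem zc_gt_one {H : Subgroup Gm} (h : ¬ Full H e₀) : 1 < zc H := by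
  rcases Nat.lt_or_ge 1 (zc H) with h1 | h1
  · exact h1
  exfalso
  have h2 := zc_mul H
  rw [show zc H = 1 by have := zc_pos H; omega, one_mul, ← Nat.card_eq_fintype_card] at h2
  exact h fun t => mem_Z1.1 ((AddSubgroup.eq_top_of_card_eq (Z1 H) h2) ▸ AddSubgroup.mem_top t)

theorem zc_eq_q {H : Subgroup Gm} (h : ∀ t, tv e₀ t ∈ H → t = 0) : zc H = qF := by
  have h2 := zc_mul H
  have : Z1 H = ⊥ := eq_bot_iff.2 fun t ht => AddSubgroup.mem_bot.2 (h t ht)
  rwa [this, AddSubgroup.card_bot, mul_one] at h2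

theorem mem_of_double (h2 : (2 : F) ≠ 0) {A : AddSubgroup F} {t : F} (h : t + t ∈ A) : t ∈ A := by
  let f : A → A := fun x => ⟨x.1 + x.1, A.add_mem x.2 x.2⟩
  have hinj : Function.Injective f := fun x y e => Subtype.ext (mul_left_cancel₀ h2 (by
    rw [two_mul, two_mul]; exact congrArg Subtype.val e))
  obtain ⟨x, hx⟩ := Finite.injective_iff_surjective.1 hinj ⟨_, h⟩
  have : t = x.1 := mul_left_cancel₀ h2 (by rw [two_mul, two_mul]; exact (congrArg Subtype.val hx).symm)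
  exact this ▸ x.2

theorem mem_of_mul {A : AddSubgroup F} {c t : F} (hc : c ≠ 1) (hA : ∀ x ∈ A, c * x ∈ A)
    (h : (c - 1) * t ∈ A) : t ∈ A := by
  have hc' : c - 1 ≠ 0 := sub_ne_zero.2 hc
  let f : A → A := fun x => ⟨(c - 1) * x.1, by rw [sub_mul, one_mul]; exact A.sub_mem (hA _ x.2) x.2⟩
  have hinj : Function.Injective f := fun x y e => Subtype.ext (mul_left_cancel₀ hc' (congrArg Subtype.val e))
  obtain ⟨x, hx⟩ := Finite.injective_iff_surjective.1 hinj ⟨_, h⟩
  have : t = x.1 := mul_left_cancel₀ hc' (congrArg Subtype.val hx).symm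
  exact this ▸ x.2

/-! ### The numerical conditions for lifting -/

theorem lift_of_bound {H : Subgroup Gm} (hF : Few H) {M : ℕ} (hM : M ≤ H.relIndex Rad * (St0 H).relIndex Pst)
    (h : qF ^ k * qF ^ k * (qF * qF) < (qF - 1) * (2 * M) + qF) :
    ∀ g ∈ St0 H, ∃ x ∈ (Rad : Subgroup Gm), x * g ∈ H := by
  refine lift_of_small (Rad_le_St0 H) (inf_le_St0 H) (inf_le_left.trans inf_le_left)
    (fun g hg x hx => Pst_conj_Rad hg.1.1 hx) ?_
  have h1 := hF.pts
  have h2 : (qF - 1) * H.relIndex Pst < (qF - 1) * (2 * M) := by omega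
  exact lt_of_lt_of_le (Nat.lt_of_mul_lt_mul_left h2) (Nat.mul_le_mul_left 2 hM)

theorem relIndex_St0_ge (H : Subgroup Gm) :
    (St0 H).relIndex Lev * (St1 H).relIndex Pst ≤ (St0 H).relIndex Pst := by
  rw [← Subgroup.relIndex_mul_relIndex (St0 H) (St1 H) Pst (St0_le_St1 H) (St1_le_Pst H)]
  exact Nat.mul_le_mul_right _ (Subgroup.relIndex_le_of_le_right (Lev_le_St1 H) (relIndex_pos _ (St1 H)).ne')

theorem weight {H : Subgroup Gm} (hz : 1 < zc H) : qF + 1 ≤ 2 * (zc H * (St1 H).relIndex Pst) := by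
  by_cases h2 : (2 : F) = 0
  · have := weight_even (zc_pos H) (zeta_even h2 hz) (relIndex_pos (St1 H) Pst)
    have := Fintype.one_lt_card (α := F)
    omega
  · exact weight_odd (odd_card h2) (zc_pos H) (zeta_odd hz) (relIndex_pos _ _)

theorem weight_zero {H : Subgroup Gm} (hq : 3 ≤ qF) (hz : 1 < zc H) :
    qF * qF ≤ (qF - 1) * (2 * (zc H * (St1 H).relIndex Pst)) := by
  have hmain : qF + 3 ≤ 2 * (zc H * (St1 H).relIndex Pst) := by
    by_cases h2 : (2 : F) = 0
    · have := weight_even (zc_pos H) (zeta_even h2 hz) (relIndex_pos (St1 H) Pst)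
      omega
    have h1 := zeta_odd hz
    obtain ⟨y, hy⟩ : ∃ y, zc H = y + 1 := ⟨zc H - 1, by omega⟩
    rw [hy, Nat.add_sub_cancel] at h1
    rcases Nat.lt_or_ge ((St1 H).relIndex Pst) 2 with hζ | hζ
    · obtain hζ1 : (St1 H).relIndex Pst = 1 := by have := relIndex_pos (St1 H) Pst; omega
      rw [hζ1, one_mul] at h1
      obtain ⟨d, hd⟩ : ∃ d, qF = zc H * d := ⟨_, (zc_mul H).symm⟩
      obtain ⟨l, hl⟩ := (Nat.odd_mul.1 (hd ▸ odd_card h2)).2
      rw [hζ1, mul_one]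
      rcases Nat.eq_zero_or_pos l with rfl | hl0
      · have : qF = zc H := by rw [hd, hl, mul_zero, zero_add, mul_one]
        omega
      · have : zc H * 3 ≤ qF := hd ▸ Nat.mul_le_mul_left _ (by omega)
        omega
    · rw [hy, add_mul, one_mul, mul_comm y]
      obtain ⟨l, hl⟩ := odd_card h2
      omega
  obtain ⟨u, hu⟩ : ∃ u, qF = u + 3 := ⟨qF - 3, by omega⟩
  have := Nat.mul_le_mul_left (qF - 1) hmain
  rw [hu, show u + 3 - 1 = u + 2 from rfl] at this ⊢
  nlinarith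

theorem lift_zero {H : Subgroup Gm} (hq : 3 ≤ qF) (hF : Few H) (hz : 1 < zc H) (hσ : Nat.card (Sb H) = 1) :
    ∀ g ∈ St0 H, ∃ x ∈ (Rad : Subgroup Gm), x * g ∈ H := by
  have hal := al_mul H
  rw [hσ, mul_one] at hal
  refine lift_of_bound hF (M := zc H * (St1 H).relIndex Pst * (qF ^ k * qF ^ k)) ?_ ?_
  · refine le_trans ?_ (Nat.mul_le_mul_left _ (relIndex_St0_ge H))
    rw [r_eq, hal, pow_two_mul]
    calc zc H * (St1 H).relIndex Pst * (qF ^ k * qF ^ k)
        = zc H * (qF ^ k * qF ^ k) * (1 * (St1 H).relIndex Pst) := by ring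
      _ ≤ _ := Nat.mul_le_mul_left _ (Nat.mul_le_mul_right _ (relIndex_pos _ _))
  · have := Nat.mul_le_mul_left (qF ^ k * qF ^ k) (weight_zero hq hz)
    calc qF ^ k * qF ^ k * (qF * qF) ≤ (qF - 1) * (2 * (zc H * (St1 H).relIndex Pst * (qF ^ k * qF ^ k))) :=
          le_of_le_of_eq this (by ring)
      _ < _ := Nat.lt_add_of_pos_right Fintype.card_pos

theorem lift_line {H : Subgroup Gm} (hd : Dims F k) (hF : Few H) (hz : 1 < zc H) (hk : k = 1)
    (hσ : Nat.card (Sb H) = qF) :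
    (∀ g ∈ St0 H, ∃ x ∈ (Rad : Subgroup Gm), x * g ∈ H) ∧
      (∃ v ∈ W₀, v ≠ 0 ∧ ∀ z, z ∈ Sb H ↔ z ∈ F ∙ v) ∧ zc H * qF * (qF + 1) ≤ H.relIndex Pst := by
  subst hk
  have hq := hd.four rfl
  have hal : al H = qF := by
    have h := al_mul H
    rw [hσ, mul_one, pow_two] at h
    exact Nat.eq_of_mul_eq_mul_right Fintype.card_pos h
  obtain ⟨c, hc, hc1, hc2⟩ := cover_Sb H (St := St0 H) fun g hg hL z hz => Sb_of_St0 hg hL hz
  rw [hσ, mul_one, pow_two] at hc
  have hn : (St0 H).relIndex Lev = c * (qF + 1) := by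
    refine Nat.eq_of_mul_eq_mul_right (show 0 < qF - 1 by omega) (hc.trans ?_)
    obtain ⟨t, ht⟩ : ∃ t, qF = t + 1 := ⟨qF - 1, by omega⟩
    rw [ht, Nat.add_sub_cancel, show (t + 1) * (t + 1) = (t + 1 + 1) * t + 1 by ring, Nat.add_sub_cancel]
    ring
  have hb := bound_zc H
  rw [hal, hn] at hb
  have hw := weight hz
  have hR := hF.pts
  rw [pow_one] at hR
  have hc' : c = 1 := by
    have := hc1 (by omega)
    by_contra hne
    exact one_c (c := c) (w := zc H * (St1 H).relIndex Pst) hq hw (by omega) (le_of_eq_of_le (by ring) hb) hR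
  subst hc'
  rw [one_mul] at hn
  refine ⟨?_, ?_, le_trans ?_ hb⟩
  · refine lift_of_bound hF (M := zc H * qF * ((qF + 1) * (St1 H).relIndex Pst)) ?_ ?_
    · refine le_trans (le_of_eq ?_) (Nat.mul_le_mul_left _ (relIndex_St0_ge H))
      rw [r_eq, hal, hn]
    · rw [pow_one]
      calc qF * qF * (qF * qF) < (qF - 1) * ((qF + 1) * qF * (qF + 1)) + qF := by
            obtain ⟨u, hu⟩ : ∃ u, qF = u + 4 := ⟨qF - 4, by omega⟩
            rw [hu, show u + 4 - 1 = u + 3 from rfl]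
            nlinarith
        _ ≤ _ := by
            refine Nat.add_le_add_right (Nat.mul_le_mul_left _ ?_) _
            calc (qF + 1) * qF * (qF + 1)
                ≤ 2 * (zc H * (St1 H).relIndex Pst) * qF * (qF + 1) :=
                  Nat.mul_le_mul_right _ (Nat.mul_le_mul_right _ hw)
              _ = _ := by ring
  · obtain ⟨v, hv, hv0⟩ : ∃ v ∈ (Sb H : Set (Fin (1 + 1) ⊕ Fin (1 + 1) → F)), v ≠ 0 := Set.exists_ne_of_one_lt_ncard (by
      rw [← Nat.card_coe_set_eq]; show 1 < Nat.card (Sb H); omega) 0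
    obtain ⟨x₁, hx₁, hne⟩ := exists_W_ne hv.1 hv0
    have hperp : ∀ w ∈ Sb H, sf v w = 0 := by
      intro w hw
      by_contra hvw
      have hmem : ∀ t : F, t • v ∈ Sb H := by
        intro t
        have hg := hc2 rfl (tv v (t / sf v w)) (tv_mem_Lev hv.1 _) v hv hv0 (by rw [tv_fix (sf_self v)]; exact hv)
        have := Sb_of_St0 hg (tv_mem_Lev hv.1 _) hw
        rw [act_tv, div_mul_cancel₀ _ hvw] at this
        simpa using (Sb H).sub_mem this hw
      have hsub : insert w (Set.range fun t : F => t • v) ⊆ (Sb H : Set (Fin (1 + 1) ⊕ Fin (1 + 1) → F)) :=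
        Set.insert_subset hw (by rintro _ ⟨t, rfl⟩; exact hmem t)
      have h1 := Set.ncard_le_ncard hsub
      rw [Set.ncard_insert_of_notMem (by
          rintro ⟨t, rfl⟩
          exact hvw (by rw [sf_smul_right, sf_self, mul_zero])),
        ← Nat.card_coe_set_eq, Nat.card_range_of_injective (smul_left_injective F hv0), Nat.card_eq_fintype_card,
        ← Nat.card_coe_set_eq, SetLike.coe_sort_coe, hσ] at h1
      omega
    let φ : (Wsub (0 : Fin (1 + 1)) : Submodule F (Fin (1 + 1) ⊕ Fin (1 + 1) → F)) →ₗ[F] F := (sfBil F 1 v).domRestrict (Wsub (0 : Fin (1 + 1)) : Submodule F (Fin (1 + 1) ⊕ Fin (1 + 1) → F))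
    have hφ : φ ≠ 0 := fun e => hne (LinearMap.congr_fun e ⟨x₁, hx₁⟩)
    have hfr : finrank F (Wsub (0 : Fin (1 + 1)) : Submodule F (Fin (1 + 1) ⊕ Fin (1 + 1) → F)) = 2 := by
      have h := card_W (F := F) (k := 1)
      rw [Module.natCard_eq_pow_finrank (K := F), Nat.card_eq_fintype_card] at h
      exact Nat.pow_right_injective Fintype.one_lt_card h
    have hS : {w : (Fin (1 + 1) ⊕ Fin (1 + 1) → F) | w ∈ (Wsub (0 : Fin (1 + 1)) : Submodule F (Fin (1 + 1) ⊕ Fin (1 + 1) → F)) ∧ sf v w = 0}.ncard = qF := by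
      have h1 := Cfsg.Agent.Classical.SpCount.card_fibre hφ 0
      rw [hfr, show 2 - 1 = 1 from rfl, pow_one] at h1
      rw [← h1, ← Nat.card_coe_set_eq]
      exact Nat.card_congr
        { toFun := fun w => ⟨⟨w.1, w.2.1⟩, w.2.2⟩
          invFun := fun w => ⟨w.1.1, w.1.2, w.2⟩
          left_inv := fun w => rfl
          right_inv := fun w => rfl }
    have e1 : (Sb H : Set (Fin (1 + 1) ⊕ Fin (1 + 1) → F)) = {w : (Fin (1 + 1) ⊕ Fin (1 + 1) → F) | w ∈ (Wsub (0 : Fin (1 + 1)) : Submodule F (Fin (1 + 1) ⊕ Fin (1 + 1) → F)) ∧ sf v w = 0} :=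
      Set.eq_of_subset_of_ncard_le (fun w hw => ⟨hw.1, hperp w hw⟩) (by
        rw [hS, ← Nat.card_coe_set_eq]; exact hσ.ge)
    have e2 : (Set.range fun t : F => t • v) = {w : (Fin (1 + 1) ⊕ Fin (1 + 1) → F) | w ∈ (Wsub (0 : Fin (1 + 1)) : Submodule F (Fin (1 + 1) ⊕ Fin (1 + 1) → F)) ∧ sf v w = 0} :=
      Set.eq_of_subset_of_ncard_le
        (by rintro _ ⟨t, rfl⟩; exact ⟨Submodule.smul_mem (Wsub (0 : Fin (1 + 1)) : Submodule F (Fin (1 + 1) ⊕ Fin (1 + 1) → F)) t hv.1, by rw [sf_smul_right, sf_self, mul_zero]⟩)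
        (by rw [hS, ← Nat.card_coe_set_eq, Nat.card_range_of_injective (smul_left_injective F hv0),
              Nat.card_eq_fintype_card])
    exact ⟨v, hv.1, hv0, fun z => by
      rw [← SetLike.mem_coe, e1, ← e2, Submodule.mem_span_singleton]; rfl⟩
  · calc zc H * qF * (qF + 1) ≤ zc H * qF * ((qF + 1) * (St1 H).relIndex Pst) :=
          Nat.mul_le_mul_left _ (Nat.le_mul_of_pos_right _ (relIndex_pos _ _))
      _ = _ := by ring

/-! ### Lifting -/

/-- The conjugate `y⁻¹ H y`. -/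
noncomputable def cjg (y : Gm) (H : Subgroup Gm) : Subgroup Gm := H.comap (MulAut.conj y).toMonoidHom

theorem mem_cjg {y x : Gm} {H : Subgroup Gm} : x ∈ cjg y H ↔ y * x * y⁻¹ ∈ H := Iff.rfl

theorem Sb_cjg {y : Gm} (hy : y ∈ (Rad : Subgroup Gm)) (H : Subgroup Gm) : Sb (cjg y H) = Sb H := by
  obtain ⟨w, hw, b, rfl⟩ := mem_Rad.1 hy
  ext z
  simp only [mem_Sb, mem_cjg]
  refine and_congr_right fun hz => ⟨fun ⟨a, ha⟩ => ⟨_, el_conj_el b a hw hz ▸ ha⟩,
    fun ⟨a, ha⟩ => ⟨a - 2 * sf w z, ?_⟩⟩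
  rw [el_conj_el _ _ hw hz, sub_add_cancel]
  exact ha

theorem Z1_cjg {y : Gm} (hy : y ∈ (Rad : Subgroup Gm)) (H : Subgroup Gm) : Z1 (cjg y H) = Z1 H := by
  obtain ⟨w, hw, b, rfl⟩ := mem_Rad.1 hy
  ext t
  rw [mem_Z1, mem_Z1, mem_cjg, el_comm_tv b t hw, mul_inv_cancel_right]

/-- A dilation moves to the standard one by an element of the radical. -/
theorem exists_normal {H : Subgroup Gm} {c : Fˣ} (hc : c ≠ 1)
    (hodd : (c : F) * c = 1 → (c : F) = -1 ∧ (2 : F) ≠ 0) {x : Gm} (hx : x ∈ (Rad : Subgroup Gm))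
    (hxd : x * dil c ∈ H) : ∃ y ∈ (Rad : Subgroup Gm), dil c ∈ cjg y H := by
  obtain ⟨z, hz, a, rfl⟩ := mem_Rad.1 hx
  have hc1 : 1 - (c : F) ≠ 0 := sub_ne_zero.2 fun e => hc (Units.ext e.symm)
  suffices h : ∃ a', el z a' * dil c ∈ H ∧ ∃ b, a' + (c : F) * c * b = b by
    obtain ⟨a', ha', b, hb⟩ := h
    obtain ⟨w, hw⟩ : ∃ w, w = (1 - (c : F))⁻¹ • z := ⟨_, rfl⟩
    have hwW : w ∈ W₀ := hw ▸ Submodule.smul_mem W₀ _ hz
    refine ⟨el w b, el_mem_Rad b hwW, ?_⟩
    rw [mem_cjg]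
    have e : el z a' * (dil c * el w b * (dil c)⁻¹) = el w b := by
      rw [dil_conj_el c b hwW, el_mul _ _ hz (Submodule.smul_mem W₀ _ hwW), hw, sf_smul_right, sf_smul_right,
        sf_self, mul_zero, mul_zero, add_zero, hb, smul_smul, ← hw]
      congr 1
      rw [hw, ← one_smul F z, smul_smul, smul_smul, ← add_smul]
      congr 1
      field_simp
      ring
    have : el w b * dil c * (el w b)⁻¹ = el z a' * dil c := by
      conv_lhs => arg 1; arg 1; rw [← e]
      group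
    rw [this]
    exact ha'
  by_cases hcc : (c : F) * c = 1
  · obtain ⟨hm, h2⟩ := hodd hcc
    have h := H.mul_mem hxd hxd
    have e : el z a * dil c * (el z a * dil c) = tv e₀ (a + a) := by
      have hdd : dil c * dil c = (1 : Gm) := by
        rw [← dilHom_apply, ← map_mul, show c * c = 1 from Units.ext (by simpa using hcc), map_one]
      have h1 : (dil c)⁻¹ = (dil c : Gm) := inv_eq_of_mul_eq_one_right hdd
      calc el z a * dil c * (el z a * dil c) = el z a * (dil c * el z a * (dil c)⁻¹) := by rw [h1]; group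
        _ = _ := by
          rw [dil_conj_el c a hz, hcc, one_mul, el_mul a a hz (Submodule.smul_mem W₀ _ hz), hm, neg_one_smul,
            add_neg_cancel, sf_neg_right, sf_self, neg_zero, add_zero, el_eq_tv]
    rw [e] at h
    have ha : tv e₀ a ∈ H := mem_of_double h2 (A := Z1 H) h
    refine ⟨0, ?_, 0, by ring⟩
    have h3 := H.mul_mem (H.inv_mem ha) hxd
    rw [← el_eq_tv, el_inv _ (Submodule.zero_mem W₀), ← mul_assoc, neg_zero,
      el_mul _ _ (Submodule.zero_mem W₀) hz, zero_add, sf_zero_left, add_zero, neg_add_cancel] at h3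
    exact h3
  · have h1 : 1 - (c : F) * c ≠ 0 := sub_ne_zero.2 fun e => hcc e.symm
    exact ⟨a, hxd, a / (1 - (c : F) * c), by linear_combination -(div_mul_cancel₀ a h1)⟩

/-- Lifts centralising a dilation: only an element of the root group is left, and none unless `c² = 1`. -/
theorem exists_root_lift {K : Subgroup Gm} {c : Fˣ} (hc : c ≠ 1)
    (hodd : (c : F) * c = 1 → (c : F) = -1 ∧ (2 : F) ≠ 0) (hd : dil c ∈ K)
    (hS : ∀ (r : F), ∀ z ∈ Sb K, r • z ∈ Sb K) {g : Gm} (hg : g ∈ (Lev : Subgroup Gm))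
    (hx : ∃ x ∈ (Rad : Subgroup Gm), x * g ∈ K) :
    ∃ s, tv e₀ s * g ∈ K ∧ ((c : F) * c ≠ 1 → g ∈ K) := by
  obtain ⟨x, hxR, hxg⟩ := hx
  obtain ⟨w, hw, s, rfl⟩ := mem_Rad.1 hxR
  have hc1 : (c : F) - 1 ≠ 0 := sub_ne_zero.2 fun e => hc (Units.ext e)
  have hZ : ∀ t ∈ Z1 K, (c : F) * c * t ∈ Z1 K := fun t ht => by
    rw [mem_Z1, ← Pst_conj_tv (act_dil_e c)]
    exact K.mul_mem (K.mul_mem hd ht) (K.inv_mem hd)
  have hcomm : ∀ (w : Vm) (s : F), w ∈ W₀ →
      (dil c * el w s * (dil c)⁻¹) * (el w s)⁻¹ = el (((c : F) - 1) • w) (((c : F) * c - 1) * s) := by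
    intro w s hw
    rw [dil_conj_el c s hw, el_inv s hw, el_mul _ _ (Submodule.smul_mem W₀ _ hw) (Submodule.neg_mem W₀ hw),
      sub_smul, one_smul, ← sub_eq_add_neg, sf_smul_left, sf_neg_right, sf_self, neg_zero, mul_zero, add_zero]
    congr 1
    ring
  have h1 : el (((c : F) - 1) • w) (((c : F) * c - 1) * s) ∈ K := by
    rw [← hcomm w s hw]
    have h := K.mul_mem (K.mul_mem (K.mul_mem hd hxg) (K.inv_mem hd)) (K.inv_mem hxg)
    convert h using 1
    have := dil_comm_Lev c hg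
    calc dil c * el w s * (dil c)⁻¹ * (el w s)⁻¹
        = dil c * el w s * (dil c)⁻¹ * (dil c * g * (dil c)⁻¹) * g⁻¹ * (el w s)⁻¹ := by rw [this]; group
      _ = _ := by group
  have hwS : w ∈ Sb K := by
    have := hS ((c : F) - 1)⁻¹ _ ⟨Submodule.smul_mem W₀ _ hw, _, h1⟩
    rwa [smul_smul, inv_mul_cancel₀ hc1, one_smul] at this
  obtain ⟨-, s', hs'⟩ := id hwS
  by_cases hcc : (c : F) * c = 1
  · obtain ⟨hm, h2⟩ := hodd hcc
    refine ⟨s, ?_, fun h => absurd hcc h⟩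
    have h := K.mul_mem hs' (K.mul_mem (K.mul_mem hd hs') (K.inv_mem hd))
    rw [dil_conj_el c s' hw, hcc, one_mul, hm, neg_one_smul, el_mul _ _ hw (Submodule.neg_mem W₀ hw),
      add_neg_cancel, sf_neg_right, sf_self, neg_zero, add_zero, el_eq_tv] at h
    have h3 : tv e₀ s' ∈ K := mem_of_double h2 (A := Z1 K) h
    have h4 := K.mul_mem (K.inv_mem (K.mul_mem hs' (K.inv_mem h3))) hxg
    have e : (el w s' * (tv e₀ s')⁻¹)⁻¹ * (el w s * g) = tv e₀ s * g := by
      rw [← mul_assoc]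
      congr 1
      rw [← el_eq_tv, ← el_eq_tv, el_inv _ (Submodule.zero_mem W₀), neg_zero, el_mul _ _ hw (Submodule.zero_mem W₀),
        add_zero, sf_zero_right, add_zero, add_neg_cancel, el_inv _ hw,
        el_mul _ _ (Submodule.neg_mem W₀ hw) hw, neg_add_cancel, sf_neg_left, sf_self]
      congr 1
      ring
    rwa [e] at h4
  · have h5 : el (((c : F) - 1) • w) (((c : F) * c - 1) * s') ∈ K := by
      rw [← hcomm w s' hw]
      exact K.mul_mem (K.mul_mem (K.mul_mem hd hs') (K.inv_mem hd)) (K.inv_mem hs')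
    have h6 := K.mul_mem h1 (K.inv_mem h5)
    rw [el_inv _ (Submodule.smul_mem W₀ _ hw),
      el_mul _ _ (Submodule.smul_mem W₀ _ hw) (Submodule.neg_mem W₀ (Submodule.smul_mem W₀ _ hw)), add_neg_cancel,
      sf_neg_right, sf_self, neg_zero, add_zero, el_eq_tv] at h6
    have h7 : tv e₀ (s - s') ∈ K := mem_of_mul (A := Z1 K) hcc hZ (by
      rw [mul_sub, sub_eq_add_neg]; exact h6)
    have hws : el w s ∈ K := by
      have := K.mul_mem hs' h7
      rwa [← el_eq_tv, el_mul _ _ hw (Submodule.zero_mem W₀), add_zero, sf_zero_right, add_zero,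
        add_sub_cancel] at this
    have hgK : g ∈ K := by
      have := K.mul_mem (K.inv_mem hws) hxg
      rwa [inv_mul_cancel_left] at this
    exact ⟨0, by rwa [tv_zero, one_mul], fun _ => hgK⟩

/-- Root lifts of a commutator in `Lev` give the commutator. -/
theorem comm_mem {K : Subgroup Gm} {g h : Gm} (hg : g ∈ (Lev : Subgroup Gm)) (hh : h ∈ (Lev : Subgroup Gm))
    {s t : F} (hs : tv e₀ s * g ∈ K) (ht : tv e₀ t * h ∈ K) : g * h * g⁻¹ * h⁻¹ ∈ K := by
  have hc : ∀ (x : Gm) (u : F), x ∈ (Lev : Subgroup Gm) → x * tv e₀ u = tv e₀ u * x := fun x u hx => by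
    have := tv_conj x e₀ u
    rw [hx.1, mul_inv_eq_iff_eq_mul] at this
    exact this
  have h1 := K.mul_mem (K.mul_mem (K.mul_mem hs ht) (K.inv_mem hs)) (K.inv_mem ht)
  convert h1 using 1
  have c1 : tv e₀ s * g * (tv e₀ t * h) * (tv e₀ s * g)⁻¹ = tv e₀ t * (g * h * g⁻¹) := by
    calc tv e₀ s * g * (tv e₀ t * h) * (tv e₀ s * g)⁻¹
        = tv e₀ s * (g * tv e₀ t) * h * g⁻¹ * (tv e₀ s)⁻¹ := by group
      _ = tv e₀ s * tv e₀ t * (g * h * g⁻¹ * tv e₀ (-s)) := by
          rw [hc g t hg, show (tv e₀ s)⁻¹ = tv e₀ (-s) from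
            inv_eq_of_mul_eq_one_right (by rw [tv_mul, add_neg_cancel, tv_zero])]
          group
      _ = tv e₀ s * tv e₀ t * (tv e₀ (-s) * (g * h * g⁻¹)) := by
          rw [hc _ _ (mul_mem (mul_mem hg hh) (inv_mem hg))]
      _ = _ := by rw [← mul_assoc, tv_mul, tv_mul, add_right_comm, add_neg_cancel, zero_add]
  rw [c1, _root_.mul_inv_rev]
  calc g * h * g⁻¹ * h⁻¹ = tv e₀ t * (tv e₀ t)⁻¹ * (g * h * g⁻¹ * h⁻¹) := by group
    _ = tv e₀ t * ((tv e₀ (-t)) * (g * h * g⁻¹ * h⁻¹)) := by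
        rw [show (tv e₀ t)⁻¹ = tv e₀ (-t) from inv_eq_of_mul_eq_one_right (by rw [tv_mul, add_neg_cancel, tv_zero]),
          mul_assoc]
    _ = tv e₀ t * (g * h * g⁻¹ * h⁻¹ * tv e₀ (-t)) := by
        rw [hc _ _ (mul_mem (mul_mem (mul_mem hg hh) (inv_mem hg)) (inv_mem hh))]
    _ = _ := by
        rw [show tv e₀ (-t) = (tv e₀ t)⁻¹ from
          (inv_eq_of_mul_eq_one_right (by rw [tv_mul, add_neg_cancel, tv_zero])).symm]
        group

theorem exists_sq_ne_one (hq : 4 ≤ qF) : ∃ ν : F, ν ≠ 0 ∧ ν * ν ≠ 1 := by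
  classical
  obtain ⟨ν, -, hν⟩ := Finset.exists_mem_notMem_of_card_lt_card (t := (Finset.univ : Finset F)) (s := {0, 1, -1})
    (lt_of_le_of_lt (Finset.card_le_three) (by rw [Finset.card_univ]; omega))
  simp only [Finset.mem_insert, Finset.mem_singleton, not_or] at hν
  exact ⟨ν, hν.1, fun e => (mul_self_eq_one_iff.1 e).elim hν.2.1 hν.2.2⟩

theorem tv_three {x w : Vm} (h : sf x w = 0) (t : F) :
    tv (x + w) t * tv (x - w) t * tv x (-(2 * t)) = tv w (2 * t) :=
  eq_of_act fun y => by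
    simp only [act_mul, act_tv, sf_add_left, sf_sub_left, sf_add_right, sf_smul_right, sf_sub_right, sf_self,
      sf_swap x w, h]
    module

/-- Full transvection groups from a liftable line or zero. -/
theorem exists_full_of_lift {H : Subgroup Gm} (hd : Dims F k) (hq : 3 ≤ qF) (hz : 1 < zc H)
    (hζ : (2 : F) = 0 → (St1 H).relIndex Pst < qF - 1)
    (hS : ∀ (r : F), ∀ z ∈ Sb H, r • z ∈ Sb H)
    (hlift : ∀ g ∈ St0 H, ∃ x ∈ (Rad : Subgroup Gm), x * g ∈ H) :
    ∃ y ∈ (Rad : Subgroup Gm), ∀ v ∈ W₀, (∀ g ∈ (Lev : Subgroup Gm), (∃ r : F, act g v = r • v) → g ∈ St0 H) →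
      ((2 ≤ k → ∀ g ∈ (Lev : Subgroup Gm), g ∈ St0 H) ∨ k = 1) → Full H (act y v) := by
  obtain ⟨c, hc, hodd, hcd⟩ : ∃ c : Fˣ, c ≠ 1 ∧ ((c : F) * c = 1 → (c : F) = -1 ∧ (2 : F) ≠ 0) ∧ dil c ∈ St0 H := by
    by_cases h2 : (2 : F) = 0
    · obtain ⟨c, hc, hcZ⟩ := exists_dil (hζ h2)
      haveI : CharP F 2 := CharTwo.of_one_ne_zero_of_two_eq_zero one_ne_zero h2
      refine ⟨c, hc, fun e => absurd (Units.ext ?_) hc, dil_mem_St0 (fun z hz => hS _ z hz) hcZ⟩
      rcases mul_self_eq_one_iff.1 e with h | h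
      · exact h
      · rwa [CharTwo.neg_eq] at h
    · refine ⟨-1, fun e => h2 ?_, fun _ => ⟨by simp, h2⟩, dil_mem_St0 (fun z hz => hS _ z hz) fun t ht => by simpa using ht⟩
      have h : (-1 : F) = 1 := by simpa using congrArg Units.val e
      linear_combination -h
  obtain ⟨x, hx, hxd⟩ := hlift _ hcd
  obtain ⟨y, hy, hyd⟩ := exists_normal hc hodd hx hxd
  have hroot : ∀ g ∈ (Lev : Subgroup Gm), g ∈ St0 H →
      ∃ s, tv e₀ s * g ∈ cjg y H ∧ ((c : F) * c ≠ 1 → g ∈ cjg y H) := by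
    intro g hg hgS
    refine exists_root_lift hc hodd hyd (by rw [Sb_cjg hy]; exact hS) hg ?_
    obtain ⟨x', hx', hxg⟩ := hlift g hgS
    refine ⟨y⁻¹ * x' * (g * y * g⁻¹), mul_mem (mul_mem (inv_mem hy) hx') (Pst_conj_Rad (Lev_le_Pst hg) hy), ?_⟩
    rw [mem_cjg]
    convert hxg using 1
    group
  refine ⟨y, hy, fun v hv hvS hk t => ?_⟩
  rw [← tv_conj]
  show tv v t ∈ cjg y H
  have hfix : ∀ s : F, act (tv v s) v = (1 : F) • v := fun s => by rw [one_smul, tv_fix (sf_self v)]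
  by_cases hcc : (c : F) * c ≠ 1
  · exact (hroot _ (tv_mem_Lev hv t) (hvS _ (tv_mem_Lev hv t) ⟨1, hfix t⟩)).choose_spec.2 hcc
  push Not at hcc
  obtain ⟨-, h2⟩ := hodd hcc
  rcases eq_or_ne v 0 with rfl | hv0
  · rw [show tv (0 : Vm) t = 1 from eq_of_act fun x => by rw [act_tv, smul_zero, add_zero, act_one]]
    exact one_mem _
  rcases hk with hk | hk
  · by_cases hk2 : 2 ≤ k
    · have hall : ∀ g ∈ (Lev : Subgroup Gm), ∃ s, tv e₀ s * g ∈ cjg y H := fun g hg =>
        (hroot g hg (hk hk2 g hg)).imp fun s h => h.1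
      obtain ⟨x, hx, hxv, hxs⟩ : ∃ x ∈ W₀, sf x v = 0 ∧ x ∉ F ∙ v := by
        let φ : W₀ →ₗ[F] F := (sfBil F k v).domRestrict W₀
        have hφ : φ ≠ 0 := fun e => by
          obtain ⟨x₁, hx₁, hne⟩ := exists_W_ne hv hv0
          exact hne (LinearMap.congr_fun e ⟨x₁, hx₁⟩)
        by_contra hcon
        push Not at hcon
        have h1 := Cfsg.Agent.Classical.SpCount.card_fibre hφ 0
        have hle : Nat.card {w : W₀ // φ w = 0} ≤ Nat.card F := by
          refine Nat.card_le_card_of_injective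
            (fun w => (Submodule.mem_span_singleton.1 (hcon w.1.1 w.1.2 (sf_eq_zero_swap w.2))).choose) fun a b e => ?_
          have ha := (Submodule.mem_span_singleton.1 (hcon a.1.1 a.1.2 (sf_eq_zero_swap a.2))).choose_spec
          have hb := (Submodule.mem_span_singleton.1 (hcon b.1.1 b.1.2 (sf_eq_zero_swap b.2))).choose_spec
          exact Subtype.ext (Subtype.ext (by rw [← ha, ← hb]; exact congrArg (fun r : F => r • v) e))
        have hfr : finrank F W₀ = 2 * k := by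
          have h := card_W (F := F) (k := k)
          rw [Module.natCard_eq_pow_finrank (K := F), Nat.card_eq_fintype_card] at h
          exact Nat.pow_right_injective Fintype.one_lt_card h
        rw [h1, hfr, Nat.card_eq_fintype_card] at hle
        have : qF ^ 2 ≤ qF ^ (2 * k - 1) := Nat.pow_le_pow_right Fintype.card_pos (by omega)
        nlinarith [Fintype.one_lt_card (α := F)]
      have hne : ∀ b : F, x + b • v ≠ 0 := fun b e => hxs (Submodule.mem_span_singleton.2 ⟨-b, by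
        rw [neg_smul]; exact (eq_neg_of_add_eq_zero_left e).symm⟩)
      have hx0 : x ≠ 0 := fun e => hxs (e ▸ Submodule.zero_mem _)
      obtain ⟨g₁, hg₁, e₁⟩ := exists_move_one hx (Submodule.add_mem W₀ hx hv) hx0 (by simpa using hne 1)
      obtain ⟨g₂, hg₂, e₂⟩ := exists_move_one hx (Submodule.sub_mem W₀ hx hv) hx0
        (by simpa [sub_eq_add_neg] using hne (-1))
      have key : ∀ t : F, tv v (2 * t) ∈ cjg y H := by
        intro t
        obtain ⟨s, hs⟩ := hall _ (tv_mem_Lev hx t)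
        obtain ⟨s₁, hs₁⟩ := hall _ hg₁
        obtain ⟨s₂, hs₂⟩ := hall _ hg₂
        have h1 := comm_mem hg₁ (tv_mem_Lev hx t) hs₁ hs
        have h2' := comm_mem hg₂ (tv_mem_Lev hx t) hs₂ hs
        have hi : (tv x t)⁻¹ = tv x (-t) := inv_eq_of_mul_eq_one_right (by rw [tv_mul, add_neg_cancel, tv_zero])
        rw [tv_conj, e₁, hi] at h1
        rw [tv_conj, e₂, hi] at h2'
        have := mul_mem h1 h2'
        convert this using 1
        rw [← tv_three hxv t, show -(2 * t) = -t + -t by ring, ← tv_mul]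
        have hcm : tv x (-t) * tv (x - v) t = tv (x - v) t * tv x (-t) := by
          have := tv_conj (tv x (-t)) (x - v) t
          rw [tv_fix (by rw [sf_sub_right, sf_self, hxv, sub_zero]), mul_inv_eq_iff_eq_mul] at this
          exact this
        calc tv (x + v) t * tv (x - v) t * (tv x (-t) * tv x (-t))
            = tv (x + v) t * (tv (x - v) t * tv x (-t)) * tv x (-t) := by group
          _ = tv (x + v) t * (tv x (-t) * tv (x - v) t) * tv x (-t) := by rw [hcm]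
          _ = _ := by group
      simpa [mul_div_cancel₀ t h2] using key (t / 2)
    · have : k = 1 := by have := hd.one; omega
      exact k1 hd this hv hv0 hvS hroot t
  · exact k1 hd hk hv hv0 hvS hroot t
where
  k1 {H : Subgroup Gm} {y : Gm} {c : Fˣ} (hd : Dims F k) (hk : k = 1) {v : Vm} (hv : v ∈ W₀) (hv0 : v ≠ 0)
      (hvS : ∀ g ∈ (Lev : Subgroup Gm), (∃ r : F, act g v = r • v) → g ∈ St0 H)
      (hroot : ∀ g ∈ (Lev : Subgroup Gm), g ∈ St0 H →
        ∃ s, tv e₀ s * g ∈ cjg y H ∧ ((c : F) * c ≠ 1 → g ∈ cjg y H)) (t : F) : tv v t ∈ cjg y H := by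
    obtain ⟨ν, hν0, hν⟩ := exists_sq_ne_one (hd.four hk)
    obtain ⟨g, hg, e⟩ := exists_move_one hv (Submodule.smul_mem W₀ ν hv) hv0 (smul_ne_zero hν0 hv0)
    obtain ⟨t', ht⟩ : ∃ t', t' = t / (ν * ν - 1) := ⟨_, rfl⟩
    obtain ⟨s, hs, -⟩ := hroot g hg (hvS g hg ⟨ν, e⟩)
    obtain ⟨s', hs', -⟩ := hroot _ (tv_mem_Lev hv t')
      (hvS _ (tv_mem_Lev hv t') ⟨1, by rw [one_smul, tv_fix (sf_self v)]⟩)
    have h := comm_mem hg (tv_mem_Lev hv t') hs hs'
    rw [tv_conj, e, tv_smul, show (tv v t')⁻¹ = tv v (-t') from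
      inv_eq_of_mul_eq_one_right (by rw [tv_mul, add_neg_cancel, tv_zero]), tv_mul] at h
    convert h using 2
    have e' : t' * (ν * ν - 1) = t := by rw [ht, div_mul_cancel₀ t (sub_ne_zero.2 hν)]
    linear_combination -e'

/-- A zero projection gives the transvections of a complement. -/
theorem full_of_zero {H : Subgroup Gm} (hd : Dims F k) (hq : 3 ≤ qF) (hF : Few H) (hz : 1 < zc H)
    (hσ : Nat.card (Sb H) = 1) :
    ∃ y ∈ (Rad : Subgroup Gm), ∀ v ∈ W₀, Full H (act y v) := by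
  have hbot : Sb H = ⊥ := AddSubgroup.eq_bot_of_card_eq _ hσ
  have hmem : ∀ g ∈ (Lev : Subgroup Gm), g ∈ St0 H := fun g hg => Lev_mem_St0 hg fun z hz => by
    rw [hbot, AddSubgroup.mem_bot] at hz ⊢
    rw [hz, act_zero]
  have hζ : (2 : F) = 0 → (St1 H).relIndex Pst < qF - 1 := by
    intro h2
    by_contra hge
    push Not at hge
    have hal := al_mul H
    rw [hσ, mul_one] at hal
    have hb := bound_zc H
    rw [hal, pow_two_mul] at hb
    have h4 : 4 ≤ qF := by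
      haveI : CharP F 2 := CharTwo.of_one_ne_zero_of_two_eq_zero one_ne_zero h2
      obtain ⟨⟨e, he0⟩, -, he⟩ := FiniteField.card F 2
      simp only [PNat.mk_coe] at he
      rcases Nat.lt_or_ge e 2 with h | h
      · interval_cases e; omega
      · rw [he]; exact le_trans (by norm_num) (Nat.pow_le_pow_right two_pos h)
    have hR := hF.pts
    have h1 : 2 * (qF ^ k * qF ^ k) * (1 * (qF - 1)) ≤ H.relIndex Pst :=
      le_trans (Nat.mul_le_mul (Nat.mul_le_mul_right _ hz) (Nat.mul_le_mul (relIndex_pos _ _) hge)) hb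
    obtain ⟨u, hu⟩ : ∃ u, qF = u + 4 := ⟨qF - 4, by omega⟩
    rw [hu, show u + 4 - 1 = u + 3 from rfl] at h1 hR
    have hQ : 1 ≤ (u + 4) ^ k * (u + 4) ^ k := Nat.one_le_iff_ne_zero.2 (by positivity)
    nlinarith [Nat.mul_le_mul_left (u + 3) h1]
  obtain ⟨y, hy, h⟩ := exists_full_of_lift hd hq hz hζ (fun r z hz => by
    rw [hbot, AddSubgroup.mem_bot] at hz ⊢
    rw [hz, smul_zero]) (lift_zero hq hF hz hσ)
  exact ⟨y, hy, fun v hv => h v hv (fun g hg _ => hmem g hg) (Or.inl fun _ => hmem)⟩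

/-- A projection of order `|F|` in dimension four gives a full transvection group. -/
theorem full_of_line {H : Subgroup Gm} (hd : Dims F k) (hF : Few H) (hz : 1 < zc H) (hk : k = 1)
    (hσ : Nat.card (Sb H) = qF) : ∃ v, v ≠ 0 ∧ Full H v := by
  have hq := hd.four hk
  obtain ⟨hlift, ⟨v, hv, hv0, hline⟩, hR⟩ := lift_line hd hF hz hk hσ
  have hζ : (2 : F) = 0 → (St1 H).relIndex Pst < qF - 1 := by
    intro h2
    by_contra hge
    push Not at hge
    have hb := bound_zc H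
    subst hk
    have hal : al H = qF := by
      have h := al_mul H
      rw [hσ, mul_one, pow_two] at h
      exact Nat.eq_of_mul_eq_mul_right Fintype.card_pos h
    obtain ⟨c, hc, hc1, -⟩ := cover_Sb H (St := St0 H) fun g hg hL z hz => Sb_of_St0 hg hL hz
    rw [hσ, mul_one, pow_two] at hc
    have hn : qF + 1 ≤ (St0 H).relIndex Lev := by
      refine Nat.le_of_mul_le_mul_right (?_ : (qF + 1) * (qF - 1) ≤ (St0 H).relIndex Lev * (qF - 1))
        (show 0 < qF - 1 by omega)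
      rw [hc]
      refine le_trans (le_of_eq ?_) (Nat.le_mul_of_pos_left _ (hc1 (hσ.symm ▸ Fintype.one_lt_card)))
      obtain ⟨t, ht⟩ : ∃ t, qF = t + 1 := ⟨qF - 1, by omega⟩
      rw [ht, Nat.add_sub_cancel, show (t + 1) * (t + 1) = (t + 1 + 1) * t + 1 by ring, Nat.add_sub_cancel]
    rw [hal] at hb
    have h1 : 2 * qF * ((qF + 1) * (qF - 1)) ≤ H.relIndex Pst :=
      le_trans (Nat.mul_le_mul (Nat.mul_le_mul_right _ hz) (Nat.mul_le_mul hn hge)) hb
    have hR' := hF.pts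
    rw [pow_one] at hR'
    obtain ⟨u, hu⟩ : ∃ u, qF = u + 4 := ⟨qF - 4, by omega⟩
    rw [hu, show u + 4 - 1 = u + 3 from rfl] at h1 hR'
    nlinarith [Nat.mul_le_mul_left (u + 3) h1]
  have hS : ∀ (r : F), ∀ z ∈ Sb H, r • z ∈ Sb H := fun r z hz => by
    rw [hline] at hz ⊢
    exact Submodule.smul_mem _ r hz
  obtain ⟨y, hy, h⟩ := exists_full_of_lift hd (by omega) hz hζ hS hlift
  refine ⟨act y v, fun e => hv0 (act_injective y (e.trans (act_zero y).symm)), h v hv (fun g hg ⟨r, hr⟩ => ?_)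
    (Or.inr hk)⟩
  refine Lev_mem_St0 hg fun z hz => ?_
  rw [hline, Submodule.mem_span_singleton] at hz ⊢
  obtain ⟨a, rfl⟩ := hz
  exact ⟨a * r, by rw [act_smul, hr, smul_smul]⟩

end Cfsg.Agent.Small.SpMinIndex
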