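import Cfsg.Agent.Lib.Small.SpMinIndex.Finish

/-!
# The minimal index of the projective symplectic group
-/

set_option autoImplicit false
set_option linter.unusedSectionVars false

namespace Cfsg.Agent.Small.SpMinIndex

open Matrix Module Cfsg.Agent.Small.PSpn

variable {F : Type*} [Field F] [Fintype F] {k : ℕ}

local notation "Vm" => Fin (k + 1) ⊕ Fin (k + 1) → F
local notation "Gm" => Matrix.symplecticGroup (Fin (k + 1)) F
local notation "Pm" => Cfsg.PSp (k + 1) F
local notation "e₀" => (se (0 : Fin (k + 1)) : Fin (k + 1) ⊕ Fin (k + 1) → F)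
local notation "qF" => Fintype.card F

theorem center_line {c : Gm} (hc : c ∈ Subgroup.center Gm) {v : Vm} (hv : v ≠ 0) :
    ∃ a : F, a ≠ 0 ∧ act c v = a • v := by
  obtain ⟨x, hx⟩ := exists_partner hv
  have h1 := tv_conj c v 1
  rw [← Subgroup.mem_center_iff.1 hc, mul_inv_cancel_right] at h1
  have h2 := congrArg (fun g => act g x) h1
  rw [act_tv, act_tv, hx, one_mul, one_mul, one_smul, add_right_inj] at h2
  have ha : sf (act c v) x ≠ 0 := fun e => hv (by rw [h2, e, zero_smul])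
  exact ⟨(sf (act c v) x)⁻¹, inv_ne_zero ha, ((inv_smul_eq_iff₀ ha).2 h2).symm⟩

theorem index_Pst_eq : (Pst : Subgroup Gm).index = (qF ^ (2 * (k + 1)) - 1) / (qF - 1) := by
  rw [show 2 * (k + 1) = 2 * k + 2 by ring, ← index_Pst (F := F) (k := k), Nat.add_sub_cancel,
    Nat.mul_div_cancel_left _ (by have := Fintype.one_lt_card (α := F); omega)]

theorem attained_of_center {H : Subgroup Gm} (hle : Subgroup.center Gm ≤ H) :
    ∃ K : Subgroup Pm, K.index = H.index :=
  ⟨H.map ps, Subgroup.index_map_eq _ ps_surjective (by rw [QuotientGroup.ker_mk']; exact hle)⟩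

theorem comap_ne_top {K : Subgroup Pm} (hK : K ≠ ⊤) : K.comap (ps : Gm →* Pm) ≠ ⊤ := fun h => hK (by
  rw [← Subgroup.map_comap_eq_self_of_surjective ps_surjective K, h, Subgroup.map_top_of_surjective _ ps_surjective])

/-- Fields with at least three elements. -/
theorem psp_ge_three (hd : Dims F k) (hq : 3 ≤ qF) :
    (∀ K : Subgroup Pm, K ≠ ⊤ → (qF ^ (2 * (k + 1)) - 1) / (qF - 1) ≤ K.index) ∧
      ∃ K : Subgroup Pm, K.index = (qF ^ (2 * (k + 1)) - 1) / (qF - 1) := by
  rw [← index_Pst_eq]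
  refine ⟨fun K hK => ?_, attained_of_center fun c hc => ?_⟩
  · by_contra hlt
    push Not at hlt
    rw [← Subgroup.index_comap_of_surjective K ps_surjective] at hlt
    refine min_bound hd (comap_ne_top hK) ⟨?_, fun h2 => by omega⟩
    have h1 := Nat.mul_le_mul_left (qF - 1) hlt
    have h2 := index_Pst (F := F) (k := k)
    rw [pow_two_mul_add_two] at h2
    rw [Nat.succ_eq_add_one, mul_add, mul_one] at h1
    omega
  · obtain ⟨a, -, ha⟩ := center_line hc (se_ne_zero 0)
    exact mem_Pst_of ha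

/-- The field with two elements. -/
theorem psp_two (hk : 2 ≤ k) (hq : qF = 2) :
    (∀ K : Subgroup Pm, K ≠ ⊤ → 2 ^ k * (2 ^ (k + 1) - 1) ≤ K.index) ∧
      ∃ K : Subgroup Pm, K.index = 2 ^ k * (2 ^ (k + 1) - 1) := by
  have hd : Dims F k := ⟨by omega, fun h => by omega⟩
  obtain ⟨P, hP⟩ : ∃ P, 2 ^ (k + 1) = P + 1 := ⟨2 ^ (k + 1) - 1, by have := Nat.one_le_two_pow (n := k + 1); omega⟩
  constructor
  · intro K hK
    by_contra hlt
    push Not at hlt
    rw [← Subgroup.index_comap_of_surjective K ps_surjective] at hlt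
    refine min_bound hd (comap_ne_top hK) ⟨?_, fun _ => hlt⟩
    rw [hq]
    rw [hP, Nat.add_sub_cancel] at hlt
    have h1 : 2 * 2 ^ k = P + 1 := by rw [← hP, pow_succ']
    have h2 := Nat.one_le_two_pow (n := k)
    nlinarith
  · haveI : CharP F 2 := CharTwo.of_one_ne_zero_of_two_eq_zero one_ne_zero (by
      have := FiniteField.cast_card_eq_zero F
      rw [hq] at this
      exact_mod_cast this)
    obtain ⟨φ0, hφ0⟩ : ∃ φ0, φ0 ∈ Fr (∅ : Set Vm) := ⟨_, Fr_mono (Set.empty_subset _) stdForm_mem⟩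
    have hcard := two_card_Cl frame_top hφ0 (s := -(qF : ℤ) ^ (k + 1)) (Or.inr rfl)
    have hn : 2 * (Cl (∅ : Set Vm) ⊤ (-(qF : ℤ) ^ (k + 1))).ncard = 2 * (2 ^ k * P) := by
      obtain ⟨C, hC⟩ : ∃ C, C = (Cl (∅ : Set Vm) (⊤ : Submodule F Vm) (-(qF : ℤ) ^ (k + 1))).ncard := ⟨_, rfl⟩
      rw [← hC] at hcard ⊢
      have hP' : ((qF : ℤ)) ^ (k + 1) = (P : ℤ) + 1 := by rw [hq]; exact_mod_cast hP
      have h2 : (2 * (2 ^ k * P) : ℤ) = ((P : ℤ) + 1) * P := by
        rw [← hP', hq, pow_succ]; push_cast; ring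
      rw [show 2 * (k + 1) = (k + 1) + (k + 1) by ring, pow_add, hP'] at hcard
      zify
      linarith
    have hne : (Cl (∅ : Set Vm) ⊤ (-(qF : ℤ) ^ (k + 1))).Nonempty := by
      refine (Set.ncard_pos (Set.toFinite _)).1 ?_
      have h1 := Nat.one_le_two_pow (n := k)
      have h2 : 2 ^ 1 ≤ 2 ^ (k + 1) := Nat.pow_le_pow_right two_pos (by omega)
      rw [hP] at h2
      nlinarith
    obtain ⟨φ, hφ⟩ := hne
    obtain ⟨K, hK⟩ := attained_of_center (H := formStab φ) fun c hc => mem_formStab.2 fun x => by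
      rcases eq_or_ne x 0 with rfl | hx
      · rw [act_zero]
      obtain ⟨a, ha0, ha⟩ := center_line hc hx
      have h1 := FiniteField.pow_card_sub_one_eq_one a ha0
      rw [hq, show 2 - 1 = 1 from rfl, pow_one] at h1
      rw [ha, h1, one_smul]
    exact ⟨K, by rw [hK, index_formStab hφ, hP, Nat.add_sub_cancel]; exact Nat.eq_of_mul_eq_mul_left two_pos hn⟩

end Cfsg.Agent.Small.SpMinIndex
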