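import Cfsg.Agent.Lib.Small.PSpn.Points
import Cfsg.Agent.Lib.Classical.SymplecticCount
import Cfsg.Agent.Lib.Small.SpMinIndex.Cover

/-!
# The stabiliser of a point of a symplectic space

The base pair is `se 0`, `sff 0`; `Lev` is the group fixing both.
-/

set_option autoImplicit false
set_option linter.unusedSectionVars false

namespace Cfsg.Agent.Small.SpMinIndex

open Matrix Module Cfsg.Agent.Small.PSpn
open Cfsg.Agent.Lead.Symp (form_self form_swap)

variable {F : Type*} [Field F] {k : ℕ}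

local notation "Vm" => Fin (k + 1) ⊕ Fin (k + 1) → F
local notation "Gm" => Matrix.symplecticGroup (Fin (k + 1)) F
local notation "e₀" => (se (0 : Fin (k + 1)) : Fin (k + 1) ⊕ Fin (k + 1) → F)
local notation "f₀" => (sff (0 : Fin (k + 1)) : Fin (k + 1) ⊕ Fin (k + 1) → F)
local notation "W₀" => (Wsub (0 : Fin (k + 1)) : Submodule F (Fin (k + 1) ⊕ Fin (k + 1) → F))

theorem sf_self (u : Vm) : sf u u = 0 := form_self u

theorem sf_swap (u v : Vm) : sf v u = -sf u v := form_swap u v

theorem sf_neg_left (u v : Vm) : sf (-u) v = -sf u v := by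
  rw [← neg_one_smul F u, sf_smul_left, neg_one_mul]

theorem sf_neg_right (u v : Vm) : sf u (-v) = -sf u v := by
  rw [← neg_one_smul F v, sf_smul_right, neg_one_mul]

theorem sf_eq_zero_swap {u v : Vm} (h : sf u v = 0) : sf v u = 0 := by rw [sf_swap, h, neg_zero]

theorem sf_ef : sf e₀ f₀ = 1 := sf_se_sff 0

theorem sf_fe : sf f₀ e₀ = -1 := sf_sff_se 0

theorem e0_ne : e₀ ≠ 0 := se_ne_zero 0

variable (F k) in
/-- The form as a bilinear map. -/
def sfBil : Vm →ₗ[F] Vm →ₗ[F] F :=
  LinearMap.mk₂ F sf sf_add_left sf_smul_left sf_add_right sf_smul_right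

theorem sfBil_apply (u v : Vm) : sfBil F k u v = sf u v := rfl

theorem sfBil_alt : Cfsg.Agent.Classical.SpCount.IsAltND (sfBil F k) :=
  ⟨sf_self, fun v hv => by
    by_contra h
    obtain ⟨x, hx⟩ := Cfsg.Agent.Lead.Symp.exists_form_ne h
    exact hx (hv x)⟩

theorem finrank_Vm : finrank F Vm = 2 * (k + 1) := by
  rw [Module.finrank_fintype_fun_eq_card, Fintype.card_sum, Fintype.card_fin]; omega

/-- Functionals are given by the form. -/
theorem exists_rep (φ : Vm →ₗ[F] F) : ∃ y, ∀ x, sf x y = φ x := by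
  have hinj : Function.Injective (sfBil F k).flip := by
    rw [injective_iff_map_eq_zero]
    intro y hy
    refine sfBil_alt.nondeg y fun x => ?_
    rw [sfBil_apply, sf_swap x y, show sf x y = 0 from LinearMap.congr_fun hy x, neg_zero]
  obtain ⟨y, hy⟩ := (LinearMap.injective_iff_surjective_of_finrank_eq_finrank
    (Subspace.dual_finrank_eq (K := F) (V := Vm)).symm).1 hinj φ
  exact ⟨y, LinearMap.congr_fun hy⟩

/-- Independent vectors of the complement take any values on some vector of the complement. -/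
theorem exists_vals {ι : Type} [Fintype ι] (v : ι → Vm) (hv : LinearIndependent F v)
    (hW : ∀ i, v i ∈ W₀) (c : ι → F) : ∃ y ∈ W₀, ∀ i, sf (v i) y = c i := by
  obtain ⟨φ, hφ⟩ := LinearMap.exists_extend ((Basis.span hv).constr F c)
  obtain ⟨y, hy⟩ := exists_rep φ
  refine ⟨projW 0 y, projW_mem 0 y, fun i => ?_⟩
  have h1 : φ (v i) = c i := by
    have := LinearMap.congr_fun hφ ⟨v i, Submodule.subset_span ⟨i, rfl⟩⟩
    rw [LinearMap.comp_apply,
      show (⟨v i, Submodule.subset_span ⟨i, rfl⟩⟩ : Submodule.span F (Set.range v)) = Basis.span hv i from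
        (Basis.span_apply hv i).symm, Basis.constr_basis, Submodule.subtype_apply, Basis.span_apply] at this
    exact this
  rw [← h1, ← hy, projW, sf_sub_right, sf_sub_right, sf_smul_right, sf_smul_right,
    (W_perp (hW i)).2.1, (W_perp (hW i)).2.2.1]
  ring

theorem W_ne_top : W₀ ≠ ⊤ := fun h => by
  have : e₀ ∈ W₀ := h ▸ Submodule.mem_top
  exact one_ne_zero (sf_ef.symm.trans (W_perp this).2.2.1)

theorem card_W [Fintype F] : Nat.card W₀ = Fintype.card F ^ (2 * k) := by
  have hB := sfBil_alt (F := F) (k := k)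
  have hp : Cfsg.Agent.Classical.SpCount.IsHPair (sfBil F k) (f₀, e₀) := sf_ef
  have h1 := Cfsg.Agent.Classical.SpCount.finrank_comp hB hp
  have e : W₀ = Cfsg.Agent.Classical.SpCount.comp (sfBil F k) (f₀, e₀) := by
    ext z
    rw [Cfsg.Agent.Classical.SpCount.mem_comp]
    exact ⟨fun h => ⟨(W_perp h).2.2.2, (W_perp h).1⟩, fun h => mem_W_of h.2 (sf_eq_zero_swap h.1)⟩
  rw [finrank_Vm] at h1
  rw [Module.natCard_eq_pow_finrank (K := F), Nat.card_eq_fintype_card, e]
  congr 1
  omega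

/-- The group fixing the pair. -/
def Lev : Subgroup Gm where
  carrier := {g | act g e₀ = e₀ ∧ act g f₀ = f₀}
  one_mem' := ⟨act_one _, act_one _⟩
  mul_mem' := fun {g h} hg hh => ⟨by rw [act_mul, hh.1, hg.1], by rw [act_mul, hh.2, hg.2]⟩
  inv_mem' := fun {g} hg => ⟨by conv_lhs => rw [← hg.1, act_inv_act],
    by conv_lhs => rw [← hg.2, act_inv_act]⟩

theorem mem_Lev {g : Gm} : g ∈ (Lev : Subgroup Gm) ↔ act g e₀ = e₀ ∧ act g f₀ = f₀ := Iff.rfl

theorem Lev_W {g : Gm} (hg : g ∈ (Lev : Subgroup Gm)) {z : Vm} (hz : z ∈ W₀) : act g z ∈ W₀ :=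
  act_mem_W (lam := 1) (ν := 1) (by rw [hg.1, one_smul]) (by rw [hg.2, one_smul]) hz

/-- The transvection `x ↦ x + t ⟨v, x⟩ v`. -/
noncomputable def tv (v : Vm) (t : F) : Gm := eich v 0 t

theorem act_tv (v : Vm) (t : F) (x : Vm) : act (tv v t) x = x + (t * sf v x) • v := act_eich_zero v t x

theorem tv_mul (v : Vm) (s t : F) : tv v s * tv v t = tv v (s + t) :=
  eq_of_act fun x => by
    rw [act_mul, act_tv, act_tv, act_tv, sf_add_right, sf_smul_right, sf_self]
    module

theorem tv_zero (v : Vm) : tv v 0 = 1 := eich_zero_zero v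

theorem tv_smul (v : Vm) (c t : F) : tv (c • v) t = tv v (c * c * t) :=
  eq_of_act fun x => by rw [act_tv, act_tv, sf_smul_left]; module

theorem tv_conj (g : Gm) (v : Vm) (t : F) : g * tv v t * g⁻¹ = tv (act g v) t := by
  rw [tv, eich_conj g t (sf_zero_right v), act_zero]; rfl

theorem tv_mem_Lev {v : Vm} (hv : v ∈ W₀) (t : F) : tv v t ∈ (Lev : Subgroup Gm) := by
  refine ⟨?_, ?_⟩ <;> rw [act_tv]
  · rw [(W_perp hv).2.1, mul_zero, zero_smul, add_zero]
  · rw [(W_perp hv).2.2.1, mul_zero, zero_smul, add_zero]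

theorem tv_fix {v x : Vm} (h : sf v x = 0) (t : F) : act (tv v t) x = x := by
  rw [act_tv, h, mul_zero, zero_smul, add_zero]

/-- One transvection moves a vector to a non-perpendicular one. -/
theorem tv_step {w x : Vm} (h : sf w x ≠ 0) : act (tv (x - w) (sf x w)⁻¹) w = x := by
  have h' : sf x w ≠ 0 := fun e => h (sf_eq_zero_swap e)
  rw [act_tv, sf_sub_left, sf_self, sub_zero, inv_mul_cancel₀ h', one_smul, add_sub_cancel]

/-- Transitivity on the non-zero vectors of the complement. -/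
theorem exists_move_one {w x : Vm} (hw : w ∈ W₀) (hx : x ∈ W₀) (hw0 : w ≠ 0) (hx0 : x ≠ 0) :
    ∃ g ∈ (Lev : Subgroup Gm), act g w = x := by
  by_cases h : sf w x ≠ 0
  · exact ⟨_, tv_mem_Lev (Submodule.sub_mem W₀ hx hw) _, tv_step h⟩
  push Not at h
  obtain ⟨y, hy, hwy, hxy⟩ : ∃ y ∈ W₀, sf w y ≠ 0 ∧ sf x y ≠ 0 := by
    obtain ⟨a, haW, ha⟩ := exists_W_ne hw hw0
    obtain ⟨b, hbW, hb⟩ := exists_W_ne hx hx0
    by_cases h1 : sf x a = 0
    · by_cases h2 : sf w b = 0
      · exact ⟨a + b, Submodule.add_mem W₀ haW hbW, by rw [sf_add_right, h2, add_zero]; exact ha,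
          by rw [sf_add_right, h1, zero_add]; exact hb⟩
      · exact ⟨b, hbW, h2, hb⟩
    · exact ⟨a, haW, ha, h1⟩
  refine ⟨tv (x - y) (sf x y)⁻¹ * tv (y - w) (sf y w)⁻¹,
    mul_mem (tv_mem_Lev (Submodule.sub_mem W₀ hx hy) _) (tv_mem_Lev (Submodule.sub_mem W₀ hy hw) _), ?_⟩
  rw [act_mul, tv_step hwy, tv_step fun e => hxy (sf_eq_zero_swap e)]

/-- Transitivity on independent pairs of the complement with given value. -/
theorem exists_move_two {v w x : Vm} (hv : v ∈ W₀) (hw : w ∈ W₀) (hx : x ∈ W₀) (hv0 : v ≠ 0)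
    (hwv : w ∉ F ∙ v) (hxv : x ∉ F ∙ v) (h : sf v w = sf v x) :
    ∃ g ∈ (Lev : Subgroup Gm), act g v = v ∧ act g w = x := by
  have step : ∀ a b : Vm, a ∈ W₀ → b ∈ W₀ → sf v a = sf v b → sf a b ≠ 0 →
      ∃ g ∈ (Lev : Subgroup Gm), act g v = v ∧ act g a = b := fun a b ha hb hab hne =>
    ⟨_, tv_mem_Lev (Submodule.sub_mem W₀ hb ha) _, tv_fix (sf_eq_zero_swap (by rw [sf_sub_right, hab, sub_self])) _, tv_step hne⟩
  by_cases hne : sf w x ≠ 0
  · exact step w x hw hx h hne
  push Not at hne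
  have hpair : LinearIndependent F ![v, w] :=
    (LinearIndependent.pair_iff' hv0).2 fun a e => hwv (Submodule.mem_span_singleton.2 ⟨a, e⟩)
  have hpairW : ∀ i, ![v, w] i ∈ W₀ := by intro i; fin_cases i <;> assumption
  by_cases hspan : x ∈ Submodule.span F {v, w}
  · obtain ⟨a, b, rfl⟩ := Submodule.mem_span_pair.1 hspan
    have hb0 : b ≠ 0 := fun e => hxv (by
      rw [e, zero_smul, add_zero]
      exact Submodule.smul_mem _ a (Submodule.mem_span_singleton_self v))
    rw [sf_add_right, sf_smul_right, sf_smul_right, sf_self, mul_zero, zero_add] at h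
    rw [sf_add_right, sf_smul_right, sf_smul_right, sf_self, mul_zero, add_zero, sf_swap v w] at hne
    by_cases hm : sf v w = 0
    · obtain ⟨y, hy, hy'⟩ := exists_vals ![v, w] hpair hpairW ![0, 1]
      have h1 : sf v y = 0 := hy' 0
      have h2 : sf w y = 1 := hy' 1
      obtain ⟨g, hg, hgv, hgw⟩ := step w y hw hy (by rw [hm, h1]) (by rw [h2]; exact one_ne_zero)
      obtain ⟨g', hg', hgv', hgy⟩ := step y (a • v + b • w) hy hx
        (by rw [h1, sf_add_right, sf_smul_right, sf_smul_right, sf_self, hm]; ring)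
        (by rw [sf_add_right, sf_smul_right, sf_smul_right, sf_swap v y, h1, sf_swap w y, h2]; simpa using hb0)
      exact ⟨g' * g, mul_mem hg' hg, by rw [act_mul, hgv, hgv'], by rw [act_mul, hgw, hgy]⟩
    · have hb1 : b = 1 := mul_right_cancel₀ hm (h.symm.trans (one_mul _).symm)
      have ha0 : a = 0 := by simpa [hm] using hne
      exact ⟨1, one_mem _, act_one v, by rw [act_one, ha0, hb1, zero_smul, one_smul, zero_add]⟩
  · have htri : LinearIndependent F ![x, v, w] :=
      linearIndependent_finCons.2 ⟨hpair, by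
        rwa [show Set.range ![v, w] = {v, w} by simp [Matrix.range_cons, Matrix.range_empty, Set.pair_comm]]⟩
    obtain ⟨y, hy, hy'⟩ := exists_vals ![x, v, w] htri (by intro i; fin_cases i <;> assumption) ![1, sf v w, 1]
    obtain ⟨g, hg, hgv, hgw⟩ := step w y hw hy (hy' 1).symm (by rw [show sf w y = 1 from hy' 2]; exact one_ne_zero)
    obtain ⟨g', hg', hgv', hgy⟩ := step y x hy hx (by rw [show sf v y = sf v w from hy' 1, h])
      (by rw [sf_swap x y, show sf x y = 1 from hy' 0]; exact neg_ne_zero.2 one_ne_zero)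
    exact ⟨g' * g, mul_mem hg' hg, by rw [act_mul, hgv, hgv'], by rw [act_mul, hgw, hgy]⟩

end Cfsg.Agent.Small.SpMinIndex
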