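import Cfsg.Agent.Lib.Small.SpMinIndex.Move

/-!
# The radical at the base point and the data of a subgroup in it

`Z1 H` and `Sb H` are the part of `H` in the root group of the base point and the projection of its part in
the radical to the complement.
-/

set_option autoImplicit false
set_option linter.unusedSectionVars false

namespace Cfsg.Agent.Small.SpMinIndex

open Matrix Module Cfsg.Agent.Small.PSpn
open Cfsg.Agent.Lead.Symp (form_self form_swap)

variable {F : Type*} [Field F] {k : ℕ}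

local notation "Vm" => Fin (k + 1) ⊕ Fin (k + 1) → F
local notation "Gm" => Matrix.symplecticGroup (Fin (k + 1)) F
local notation "e₀" => (se (0 : Fin (k + 1)) : Fin (k + 1) ⊕ Fin (k + 1) → F)
local notation "f₀" => (sff (0 : Fin (k + 1)) : Fin (k + 1) ⊕ Fin (k + 1) → F)
local notation "W₀" => (Wsub (0 : Fin (k + 1)) : Submodule F (Fin (k + 1) ⊕ Fin (k + 1) → F))

/-! ### The radical -/

/-- The radical element with parameters `z`, `a`. -/
noncomputable def el (z : Vm) (a : F) : Gm := eich e₀ z a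

theorem el_mul {z w : Vm} (a b : F) (hz : z ∈ W₀) (hw : w ∈ W₀) :
    el z a * el w b = el (z + w) (a + b + sf z w) :=
  eich_mul a b (W_perp hz).1 (W_perp hw).1

theorem el_zero : el (0 : Vm) 0 = (1 : Gm) := eich_zero_zero _

theorem el_eq_tv (t : F) : el (0 : Vm) t = tv e₀ t := rfl

theorem el_inv {z : Vm} (a : F) (hz : z ∈ W₀) : (el z a)⁻¹ = el (-z) (-a) :=
  inv_eq_of_mul_eq_one_right (by
    rw [el_mul a _ hz (Submodule.neg_mem W₀ hz), add_neg_cancel, add_neg_cancel, sf_neg_right, sf_self,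
      neg_zero, add_zero, el_zero])

theorem el_inj {z w : Vm} {a b : F} (hz : z ∈ W₀) (hw : w ∈ W₀) (h : el z a = el w b) : z = w ∧ a = b :=
  eich_inj hz hw h

theorem eich_eq_el {z : Vm} (a : F) (hz : sf e₀ z = 0) :
    eich e₀ z a = el (projW 0 z) (a + 2 * sf z f₀) := by
  have e : z = projW 0 z + sf z f₀ • e₀ := by rw [projW, hz, zero_smul, sub_zero, sub_add_cancel]
  conv_lhs => rw [e, eich_shift a _ (W_perp (projW_mem 0 z)).1]
  rfl

/-- The radical. -/
noncomputable abbrev Rad : Subgroup Gm := Qg e₀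

theorem mem_Rad {g : Gm} : g ∈ (Rad : Subgroup Gm) ↔ ∃ z ∈ W₀, ∃ a, g = el z a := by
  constructor
  · rintro ⟨z, a, hz, rfl⟩; exact ⟨_, projW_mem 0 z, _, eich_eq_el a hz⟩
  · rintro ⟨z, hz, a, rfl⟩; exact ⟨z, a, (W_perp hz).1, rfl⟩

theorem el_mem_Rad {z : Vm} (a : F) (hz : z ∈ W₀) : el z a ∈ (Rad : Subgroup Gm) :=
  mem_Rad.2 ⟨z, hz, a, rfl⟩

theorem el_comm_tv {z : Vm} (a t : F) (hz : z ∈ W₀) : el z a * tv e₀ t = tv e₀ t * el z a := by
  rw [← el_eq_tv, el_mul a t hz (Submodule.zero_mem W₀), el_mul t a (Submodule.zero_mem W₀) hz, sf_zero_left, sf_zero_right]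
  congr 1 <;> abel

theorem el_conj_el {z w : Vm} (a b : F) (hz : z ∈ W₀) (hw : w ∈ W₀) :
    el z a * el w b * (el z a)⁻¹ = el w (b + 2 * sf z w) := by
  rw [el_inv a hz, el_mul a b hz hw, el_mul _ _ (Submodule.add_mem W₀ hz hw) (Submodule.neg_mem W₀ hz),
    add_neg_cancel_comm, sf_neg_right, sf_add_left, sf_self, zero_add, sf_swap z w, neg_neg]
  congr 1
  ring

theorem el_conj_Lev {g : Gm} (hg : g ∈ (Lev : Subgroup Gm)) {z : Vm} (a : F) (hz : z ∈ W₀) :
    g * el z a * g⁻¹ = el (act g z) a := by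
  rw [el, eich_conj g a (W_perp hz).1, hg.1]
  rfl

theorem act_e_ne (g : Gm) : act g e₀ ≠ 0 := fun e => e0_ne (act_injective g (e.trans (act_zero g).symm))

/-- The stabiliser of the point. -/
def Pst : Subgroup Gm where
  carrier := {g | ∃ c : F, c ≠ 0 ∧ act g e₀ = c • e₀}
  one_mem' := ⟨1, one_ne_zero, by rw [act_one, one_smul]⟩
  mul_mem' := by
    rintro g h ⟨c, hc, hg⟩ ⟨d, hd, hh⟩
    exact ⟨d * c, mul_ne_zero hd hc, by rw [act_mul, hh, act_smul, hg, smul_smul]⟩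
  inv_mem' := by
    rintro g ⟨c, hc, hg⟩
    refine ⟨c⁻¹, inv_ne_zero hc, act_injective g ?_⟩
    rw [act_act_inv, act_smul, hg, smul_smul, inv_mul_cancel₀ hc, one_smul]

theorem mem_Pst_of {g : Gm} {c : F} (h : act g e₀ = c • e₀) : g ∈ (Pst : Subgroup Gm) :=
  ⟨c, fun e => act_e_ne g (by rw [h, e, zero_smul]), h⟩

theorem Rad_le_Pst : (Rad : Subgroup Gm) ≤ Pst := fun g hg => by
  obtain ⟨z, hz, a, rfl⟩ := mem_Rad.1 hg
  exact mem_Pst_of (c := 1) (by rw [one_smul]; exact act_eich_self a (W_perp hz).1)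

theorem Lev_le_Pst : (Lev : Subgroup Gm) ≤ Pst := fun _ hg => mem_Pst_of (c := 1) (by rw [hg.1, one_smul])

theorem Pst_conj_Rad {g x : Gm} (hg : g ∈ (Pst : Subgroup Gm)) (hx : x ∈ (Rad : Subgroup Gm)) :
    g * x * g⁻¹ ∈ (Rad : Subgroup Gm) := by
  obtain ⟨c, hc, he⟩ := hg
  obtain ⟨z, hz, a, rfl⟩ := mem_Rad.1 hx
  have h : sf (c • e₀) (act g z) = 0 := by rw [← he, sf_act]; exact (W_perp hz).1
  rw [el, eich_conj g a (W_perp hz).1, he, eich_smul a hc h]
  refine ⟨_, _, ?_, rfl⟩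
  rw [sf_smul_left] at h
  rw [sf_smul_right]
  exact h

theorem Pst_conj_tv {g : Gm} {c : F} (he : act g e₀ = c • e₀) (t : F) :
    g * tv e₀ t * g⁻¹ = tv e₀ (c * c * t) := by rw [tv_conj, he, tv_smul]

/-! ### Dilations -/

/-- The linear map fixing the complement and scaling the pair. -/
noncomputable def dilLin (c : Fˣ) : Vm →ₗ[F] Vm where
  toFun x := x + (((c : F) - 1) * sf x f₀) • e₀ + ((((c⁻¹ : Fˣ) : F)) - 1) • (sf e₀ x • f₀)
  map_add' x y := by simp only [sf_add_left, sf_add_right]; module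
  map_smul' r x := by simp only [sf_smul_left, sf_smul_right, RingHom.id_apply]; module

/-- The dilation of the pair. -/
noncomputable def dil (c : Fˣ) : Gm :=
  ⟨LinearMap.toMatrix' (dilLin c), mem_of_form fun u v => by
    rw [LinearMap.toMatrix'_mulVec, LinearMap.toMatrix'_mulVec]
    simp only [dilLin, LinearMap.coe_mk, AddHom.coe_mk, sf_add_left, sf_add_right, sf_smul_left,
      sf_smul_right, sf_self, sf_ef, sf_fe, sf_swap v f₀, sf_swap e₀ u]
    linear_combination (sf u f₀ * sf e₀ v - sf v f₀ * sf e₀ u) * Units.mul_inv c⟩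

theorem act_dil (c : Fˣ) (x : Vm) :
    act (dil c) x = x + (((c : F) - 1) * sf x f₀) • e₀ + ((((c⁻¹ : Fˣ) : F)) - 1) • (sf e₀ x • f₀) :=
  LinearMap.toMatrix'_mulVec (dilLin c) x

theorem act_dil_e (c : Fˣ) : act (dil c) e₀ = (c : F) • e₀ := by
  rw [act_dil, sf_ef, sf_self, zero_smul, smul_zero, add_zero]; module

theorem act_dil_W (c : Fˣ) {z : Vm} (hz : z ∈ W₀) : act (dil c) z = z := by
  rw [act_dil, (W_perp hz).2.2.1, (W_perp hz).1]; module

theorem act_dil_f (c : Fˣ) : act (dil c) f₀ = ((c⁻¹ : Fˣ) : F) • f₀ := by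
  rw [act_dil, sf_ef, sf_self]; module

/-- The dilations as a homomorphism. -/
noncomputable def dilHom : Fˣ →* Gm :=
  MonoidHom.mk' dil fun c d => eq_of_act fun x => by
    rw [act_mul, eq_projW_add 0 x]
    simp only [act_add, act_smul, act_dil_e, act_dil_f, act_dil_W _ (projW_mem 0 x), smul_smul, _root_.mul_inv_rev,
      Units.val_mul]
    module

theorem dilHom_apply (c : Fˣ) : (dilHom c : Gm) = dil c := rfl

theorem dil_mem_Pst (c : Fˣ) : dil c ∈ (Pst : Subgroup Gm) := mem_Pst_of (act_dil_e c)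

theorem dil_conj_el (c : Fˣ) {z : Vm} (a : F) (hz : z ∈ W₀) :
    dil c * el z a * (dil c)⁻¹ = el ((c : F) • z) ((c : F) * c * a) := by
  rw [el, eich_conj _ a (W_perp hz).1, act_dil_e, act_dil_W c hz, eich_smul a c.ne_zero
    (by rw [sf_smul_left, (W_perp hz).1, mul_zero])]
  rfl

theorem dil_comm_Lev (c : Fˣ) {g : Gm} (hg : g ∈ (Lev : Subgroup Gm)) : dil c * g = g * dil c :=
  eq_of_act fun x => by
    rw [act_mul, act_mul, eq_projW_add 0 x]
    simp only [act_add, act_smul, hg.1, hg.2, act_dil_e, act_dil_f, act_dil_W _ (projW_mem 0 x),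
      act_dil_W _ (Lev_W hg (projW_mem 0 x))]

/-! ### The data -/

/-- The part of `H` in the root group. -/
def Z1 (H : Subgroup Gm) : AddSubgroup F where
  carrier := {t | tv e₀ t ∈ H}
  zero_mem' := by rw [Set.mem_setOf_eq, tv_zero]; exact H.one_mem
  add_mem' := fun {s t} hs ht => by rw [Set.mem_setOf_eq, ← tv_mul]; exact H.mul_mem hs ht
  neg_mem' := fun {t} ht => by
    rw [Set.mem_setOf_eq, show tv e₀ (-t) = (tv e₀ t)⁻¹ from
      (inv_eq_of_mul_eq_one_right (by rw [tv_mul, add_neg_cancel, tv_zero])).symm]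
    exact H.inv_mem ht

theorem mem_Z1 {H : Subgroup Gm} {t : F} : t ∈ Z1 H ↔ tv e₀ t ∈ H := Iff.rfl

/-- The projection of the part of `H` in the radical. -/
def Sb (H : Subgroup Gm) : AddSubgroup Vm where
  carrier := {z | z ∈ W₀ ∧ ∃ a, el z a ∈ H}
  zero_mem' := ⟨(Submodule.zero_mem W₀), 0, by rw [el_zero]; exact H.one_mem⟩
  add_mem' := fun {z w} ⟨hz, a, ha⟩ ⟨hw, b, hb⟩ =>
    ⟨Submodule.add_mem W₀ hz hw, _, el_mul a b hz hw ▸ H.mul_mem ha hb⟩
  neg_mem' := fun {z} ⟨hz, a, ha⟩ => ⟨Submodule.neg_mem W₀ hz, -a, el_inv a hz ▸ H.inv_mem ha⟩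

theorem mem_Sb {H : Subgroup Gm} {z : Vm} : z ∈ Sb H ↔ z ∈ W₀ ∧ ∃ a, el z a ∈ H := Iff.rfl

/-- Commutators lie in the root group. -/
theorem two_sf_mem {H : Subgroup Gm} {z w : Vm} (hz : z ∈ Sb H) (hw : w ∈ Sb H) :
    2 * sf z w ∈ Z1 H := by
  obtain ⟨hzW, a, ha⟩ := hz
  obtain ⟨hwW, b, hb⟩ := hw
  have h := H.mul_mem (H.mul_mem (H.mul_mem ha hb) (H.inv_mem ha)) (H.inv_mem hb)
  rw [el_conj_el a b hzW hwW, el_inv b hwW, el_mul _ _ hwW (Submodule.neg_mem W₀ hwW), add_neg_cancel,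
    sf_neg_right, sf_self, neg_zero, add_zero, el_eq_tv] at h
  rw [mem_Z1]
  convert h using 2
  ring

variable [Fintype F]

theorem card_Rad : Nat.card (Rad : Subgroup Gm) = Fintype.card F ^ (2 * k + 1) := by
  have e : (W₀ × F) ≃ (Rad : Subgroup Gm) := Equiv.ofBijective (fun p => ⟨el p.1.1 p.2, el_mem_Rad _ p.1.2⟩)
    ⟨fun p p' h => by
      obtain ⟨h1, h2⟩ := el_inj p.1.2 p'.1.2 (congrArg Subtype.val h)
      exact Prod.ext (Subtype.ext h1) h2,
    fun g => by
      obtain ⟨z, hz, a, h⟩ := mem_Rad.1 g.2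
      exact ⟨(⟨z, hz⟩, a), Subtype.ext h.symm⟩⟩
  rw [← Nat.card_congr e, Nat.card_prod, card_W, Nat.card_eq_fintype_card, pow_succ]

theorem card_inf_Rad (H : Subgroup Gm) :
    Nat.card (H ⊓ Rad : Subgroup Gm) = Nat.card (Sb H) * Nat.card (Z1 H) := by
  choose a ha using fun z : Sb H => z.2.2
  have hW : ∀ z : Sb H, z.1 ∈ W₀ := fun z => z.2.1
  have e : (Sb H × Z1 H) ≃ (H ⊓ Rad : Subgroup Gm) := Equiv.ofBijective
    (fun p => ⟨el p.1.1 (a p.1) * tv e₀ p.2.1, H.mul_mem (ha p.1) p.2.2,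
      (Rad : Subgroup Gm).mul_mem (el_mem_Rad _ (hW p.1)) (el_eq_tv (k := k) p.2.1 ▸ el_mem_Rad _ (Submodule.zero_mem W₀))⟩)
    ⟨fun p p' h => by
      have h' : el p.1.1 (a p.1) * tv e₀ p.2.1 = el p'.1.1 (a p'.1) * tv e₀ p'.2.1 := congrArg Subtype.val h
      rw [← el_eq_tv, ← el_eq_tv, el_mul _ _ (hW p.1) (Submodule.zero_mem W₀), el_mul _ _ (hW p'.1) (Submodule.zero_mem W₀), add_zero,
        add_zero] at h'
      obtain ⟨h1, h2⟩ := el_inj (hW p.1) (hW p'.1) h'
      have h1' : p.1 = p'.1 := Subtype.ext h1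
      rw [sf_zero_right, sf_zero_right, h1', add_zero, add_zero, add_right_inj] at h2
      exact Prod.ext h1' (Subtype.ext h2),
    fun g => by
      obtain ⟨z, hz, b, hb⟩ := mem_Rad.1 g.2.2
      have hgH : el z b ∈ H := hb ▸ g.2.1
      let zz : Sb H := ⟨z, hz, b, hgH⟩
      have ht : b - a zz ∈ Z1 H := by
        have h := H.mul_mem (H.inv_mem (ha zz)) hgH
        rw [el_inv _ hz, el_mul _ _ (Submodule.neg_mem W₀ hz) hz, neg_add_cancel, sf_neg_left, sf_self, neg_zero,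
          add_zero, el_eq_tv] at h
        rw [mem_Z1]
        convert h using 2
        ring
      refine ⟨(zz, ⟨_, ht⟩), Subtype.ext ?_⟩
      show el z (a zz) * tv e₀ (b - a zz) = g.1
      rw [hb, ← el_eq_tv, el_mul _ _ hz (Submodule.zero_mem W₀), add_zero, sf_zero_right]
      congr 1
      ring⟩
  rw [← Nat.card_congr e, Nat.card_prod]

/-- The cosets of `H` in the radical. -/
theorem relIndex_Rad (H : Subgroup Gm) :
    H.relIndex Rad * (Nat.card (Sb H) * Nat.card (Z1 H)) = Fintype.card F ^ (2 * k + 1) := by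
  rw [← card_inf_Rad, ← card_Rad (F := F) (k := k), ← Subgroup.card_mul_index (H.subgroupOf Rad), mul_comm]
  congr 1
  exact (Nat.card_congr (Subgroup.subgroupOfEquivOfLe (inf_le_right : H ⊓ Rad ≤ Rad)).toEquiv).symm.trans
    (by rw [Subgroup.inf_subgroupOf_right])

/-- The stabiliser of a subgroup under conjugation. -/
def stab (A : Subgroup Gm) : Subgroup Gm where
  carrier := {g | ∀ x, x ∈ A ↔ g * x * g⁻¹ ∈ A}
  one_mem' := fun x => by simp
  mul_mem' := fun {g h} hg hh x => by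
    rw [hh x, hg (h * x * h⁻¹)]
    simp [mul_assoc]
  inv_mem' := fun {g} hg x => by
    rw [hg (g⁻¹ * x * g⁻¹⁻¹)]
    simp [mul_assoc]

theorem mem_stab_of {A : Subgroup Gm} {g : Gm} (h : ∀ x ∈ A, g * x * g⁻¹ ∈ A) : g ∈ stab A := by
  intro x
  refine ⟨h x, fun hx => ?_⟩
  let φ : A → A := fun y => ⟨g * y.1 * g⁻¹, h _ y.2⟩
  have hinj : Function.Injective φ := fun y y' e => by
    have e' : g * y.1 * g⁻¹ = g * y'.1 * g⁻¹ := congrArg Subtype.val e
    exact Subtype.ext (mul_left_cancel (mul_right_cancel e'))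
  obtain ⟨⟨y, hy⟩, e⟩ := Finite.injective_iff_surjective.1 hinj ⟨_, hx⟩
  have e' : g * y * g⁻¹ = g * x * g⁻¹ := congrArg Subtype.val e
  exact mul_left_cancel (mul_right_cancel e') ▸ hy

/-- The number of vectors on the `H`-orbit of the base point. -/
theorem card_orbit_vec (H : Subgroup Gm) :
    Nat.card {v : Vm // v ≠ 0 ∧ ∃ h ∈ H, ∃ c : F, act h e₀ = c • v} =
      (Fintype.card F - 1) * (Pst : Subgroup Gm).relIndex H := by
  classical
  let Ov := {v : Vm // v ≠ 0 ∧ ∃ h ∈ H, ∃ c : F, act h e₀ = c • v}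
  let f : (H ⧸ (Pst : Subgroup Gm).subgroupOf H) × Fˣ → Ov := fun p =>
    ⟨(p.2 : F) • act p.1.out.1 e₀, smul_ne_zero p.2.ne_zero (act_e_ne _), p.1.out.1, p.1.out.2,
      ((p.2⁻¹ : Fˣ) : F), by rw [smul_smul, Units.inv_mul, one_smul]⟩
  have hf : Function.Bijective f := by
    constructor
    · rintro ⟨a, c⟩ ⟨b, d⟩ h
      have h' : (c : F) • act a.out.1 e₀ = (d : F) • act b.out.1 e₀ := congrArg Subtype.val h
      have hm : (a.out.1)⁻¹ * b.out.1 ∈ (Pst : Subgroup Gm) := mem_Pst_of (c := ((d⁻¹ * c : Fˣ) : F)) (by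
        apply act_injective a.out.1
        rw [act_mul, act_act_inv, act_smul, Units.val_mul, mul_smul, h', smul_smul, Units.inv_mul, one_smul])
      have hab : a = b := by
        rw [← QuotientGroup.out_eq' a, ← QuotientGroup.out_eq' b, QuotientGroup.eq, Subgroup.mem_subgroupOf]
        exact hm
      subst hab
      exact Prod.ext rfl (Units.ext (smul_left_injective F (act_e_ne _) h'))
    · rintro ⟨v, hv, h, hh, c, hc⟩
      have hc0 : c ≠ 0 := fun e => act_e_ne h (by rw [hc, e, zero_smul])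
      let a : H ⧸ (Pst : Subgroup Gm).subgroupOf H := QuotientGroup.mk ⟨h, hh⟩
      have hm := QuotientGroup.eq.1 (QuotientGroup.out_eq' a)
      rw [Subgroup.mem_subgroupOf] at hm
      obtain ⟨d, hd0, hd⟩ := (hm : (a.out.1)⁻¹ * h ∈ (Pst : Subgroup Gm))
      have h2 : act h e₀ = d • act a.out.1 e₀ := by
        rw [← act_smul, ← hd, ← act_mul, Subgroup.coe_mul, Subgroup.coe_inv, mul_inv_cancel_left]
      refine ⟨(a, Units.mk0 (c⁻¹ * d) (mul_ne_zero (inv_ne_zero hc0) hd0)), Subtype.ext ?_⟩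
      show (c⁻¹ * d) • act a.out.1 e₀ = v
      rw [mul_smul, ← h2, hc, inv_smul_smul₀ hc0]
  show Nat.card Ov = _
  rw [← Nat.card_congr (Equiv.ofBijective f hf), Nat.card_prod, Nat.card_units, Nat.card_eq_fintype_card (α := F),
    mul_comm]
  rfl

/-- The number of points. -/
theorem index_Pst : (Fintype.card F - 1) * (Pst : Subgroup Gm).index + 1 = Fintype.card F ^ (2 * k + 2) := by
  have h := card_orbit_vec (F := F) (k := k) ⊤
  rw [Subgroup.relIndex_top_right] at h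
  have e : {v : Vm // v ≠ 0 ∧ ∃ g ∈ (⊤ : Subgroup Gm), ∃ c : F, act g e₀ = c • v} ≃ {v : Vm // v ≠ 0} :=
    Equiv.subtypeEquivRight fun v => ⟨And.left, fun hv => by
      obtain ⟨g, hg⟩ := exists_act_eq e0_ne hv
      exact ⟨hv, g, trivial, 1, by rw [hg, one_smul]⟩⟩
  rw [← h, Nat.card_congr e]
  classical
  have hc : Nat.card Vm = Fintype.card F ^ (2 * k + 2) := by
    rw [Nat.card_eq_fintype_card, Fintype.card_fun, Fintype.card_sum, Fintype.card_fin]; congr 1; omega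
  rw [← hc, Nat.card_eq_fintype_card, Nat.card_eq_fintype_card, Fintype.card_subtype_compl,
    Fintype.card_subtype_eq]
  exact Nat.sub_add_cancel Fintype.card_pos

end Cfsg.Agent.Small.SpMinIndex
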