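import Cfsg.Agent.Lib.Small.SpMinIndex.Lift
import Cfsg.Agent.Lib.Classical.SpGeneration

/-!
# A subgroup of small index fixes no proper subspace
-/

set_option autoImplicit false
set_option linter.unusedSectionVars false

namespace Cfsg.Agent.Small.SpMinIndex

open Matrix Module Cfsg.Agent.Small.PSpn

variable {F : Type*} [Field F] [Fintype F] {k : ℕ}

local notation "Vm" => Fin (k + 1) ⊕ Fin (k + 1) → F
local notation "Gm" => Matrix.symplecticGroup (Fin (k + 1)) F
local notation "e₀" => (se (0 : Fin (k + 1)) : Fin (k + 1) ⊕ Fin (k + 1) → F)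
local notation "f₀" => (sff (0 : Fin (k + 1)) : Fin (k + 1) ⊕ Fin (k + 1) → F)
local notation "W₀" => (Wsub (0 : Fin (k + 1)) : Submodule F (Fin (k + 1) ⊕ Fin (k + 1) → F))
local notation "qF" => Fintype.card F

/-- The index is below the number of points. -/
structure Tiny (H : Subgroup Gm) : Prop where
  pts : (qF - 1) * H.index + qF ≤ qF ^ k * qF ^ k * (qF * qF)
  two : qF = 2 → H.index < 2 ^ k * (2 ^ (k + 1) - 1)

theorem Tiny.few {H : Subgroup Gm} (h : Tiny H) : Few H :=
  ⟨le_trans (Nat.add_le_add_right (Nat.mul_le_mul_left _ (relIndex_le_index' H Pst)) _) h.pts,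
    fun h2 => lt_of_le_of_lt (relIndex_le_index' H Pst) (h.two h2)⟩

theorem Tiny.cjg {H : Subgroup Gm} (h : Tiny H) (g : Gm) : Tiny (cjg g H) := by
  have e : (SpMinIndex.cjg g H).index = H.index :=
    Subgroup.index_comap_of_surjective _ (MulAut.conj g).surjective
  exact ⟨e.symm ▸ h.pts, e.symm ▸ h.two⟩

theorem Tiny.index_lt {H : Subgroup Gm} (h : Tiny H) : H.index < (Pst : Subgroup Gm).index := by
  by_contra hle
  push Not at hle
  have h1 := index_Pst (F := F) (k := k)
  rw [pow_two_mul_add_two] at h1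
  have h2 := Nat.mul_le_mul_left (qF - 1) hle
  have h3 := h.pts
  have := Fintype.one_lt_card (α := F)
  omega

theorem index_mul_relIndex' {G : Type*} [Group G] (H P : Subgroup G) :
    H.index * P.relIndex H = P.index * H.relIndex P := by
  rw [mul_comm H.index, mul_comm P.index, ← Subgroup.inf_relIndex_left H P, ← Subgroup.inf_relIndex_right H P,
    Subgroup.relIndex_mul_index inf_le_left, Subgroup.relIndex_mul_index inf_le_right]

/-- The point has a larger orbit than the subgroup has cosets in its stabiliser. -/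
theorem Tiny.lt {H : Subgroup Gm} (h : Tiny H) : H.relIndex Pst < (Pst : Subgroup Gm).relIndex H := by
  by_contra hle
  push Not at hle
  have h1 := Nat.mul_lt_mul_of_pos_right h.index_lt (relIndex_pos (Pst : Subgroup Gm) H)
  rw [index_mul_relIndex'] at h1
  exact absurd (Nat.mul_le_mul_left _ hle) (not_le.2 h1)

/-- The subspace is invariant under the subgroup. -/
def Inv (H : Subgroup Gm) (U : Submodule F Vm) : Prop := ∀ g ∈ H, ∀ u ∈ U, act g u ∈ U

theorem mem_inv_cjg {H : Subgroup Gm} {U : Submodule F Vm} (hU : Inv H U) (g : Gm) :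
    Inv (cjg g H) (U.comap (Matrix.mulVecLin g.1)) := fun x hx u hu => by
  have h := hU _ (mem_cjg.1 hx) _ (show act g u ∈ U from hu)
  rw [act_mul, act_inv_act, act_mul] at h
  exact h

theorem mem_comap_act {g : Gm} {U : Submodule F Vm} {u : Vm} :
    u ∈ U.comap (Matrix.mulVecLin g.1) ↔ act g u ∈ U := Iff.rfl

theorem card_comap (g : Gm) (U : Submodule F Vm) :
    Nat.card (U.comap (Matrix.mulVecLin g.1)) = Nat.card U :=
  Nat.card_congr
    { toFun := fun u => ⟨act g u.1, u.2⟩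
      invFun := fun u => ⟨act g⁻¹ u.1, show act g (act g⁻¹ u.1) ∈ U by rw [act_act_inv]; exact u.2⟩
      left_inv := fun u => Subtype.ext (act_inv_act g u.1)
      right_inv := fun u => Subtype.ext (act_act_inv g u.1) }

/-- An invariant subspace of at most `|F|^(k+1)` elements containing the point bounds its orbit. -/
theorem rad_of_inv (hd : Dims F k) {H : Subgroup Gm} (h : Tiny H) {U : Submodule F Vm} (hU : Inv H U)
    (he : e₀ ∈ U) (hc : Nat.card U ≤ qF * qF ^ k) : (Rad : Subgroup Gm) ≤ H := by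
  refine rad_le_of_small hd.one ?_
  have hlt := h.lt
  have h1 : (qF - 1) * (Pst : Subgroup Gm).relIndex H < Nat.card U := by
    classical
    rw [← card_orbit_vec, Nat.card_eq_fintype_card, Nat.card_eq_fintype_card]
    refine Fintype.card_lt_of_injective_of_notMem
      (fun v : {v : Vm // v ≠ 0 ∧ ∃ g ∈ H, ∃ c : F, act g e₀ = c • v} => (⟨v.1, ?_⟩ : U)) ?_ (b := 0) ?_
    · obtain ⟨hv0, g, hg, c, hgc⟩ := v.2
      have hc0 : c ≠ 0 := fun e => act_e_ne g (by rw [hgc, e, zero_smul])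
      have := U.smul_mem c⁻¹ (hU g hg _ he)
      rwa [hgc, inv_smul_smul₀ hc0] at this
    · exact fun a b e => Subtype.ext (congrArg (fun x : U => x.1) e)
    · rintro ⟨v, hv⟩
      exact v.2.1 (congrArg Subtype.val hv)
  obtain ⟨t, ht⟩ : ∃ t, qF = t + 2 := ⟨qF - 2, by have := Fintype.one_lt_card (α := F); omega⟩
  have hQ4 : 4 ≤ qF ^ k := by
    by_cases hk : k = 1
    · rw [hk, pow_one]; exact hd.four hk
    · exact le_trans (show 4 ≤ qF * qF by rw [ht]; nlinarith) (sq_le_pow hd hk)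
  have h2 : (qF - 1) * (H.relIndex Pst + 1) < qF * qF ^ k :=
    lt_of_le_of_lt (Nat.mul_le_mul_left _ hlt) (lt_of_lt_of_le h1 hc)
  rw [ht, show t + 2 - 1 = t + 1 from rfl] at h2
  rw [ht] at hQ4
  rw [ht]
  have h3 : H.relIndex Pst + 1 < 2 * (t + 2) ^ k := by
    by_contra hge
    push Not at hge
    have h4 := Nat.mul_le_mul_left (t + 1) hge
    nlinarith
  nlinarith [Nat.mul_le_mul_right ((t + 2) ^ k) hQ4]

/-- The annihilator of a subspace. -/
def perp (U : Submodule F Vm) : Submodule F Vm where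
  carrier := {x | ∀ u ∈ U, sf u x = 0}
  add_mem' ha hb := fun u hu => by rw [sf_add_right, ha u hu, hb u hu, add_zero]
  zero_mem' := fun u _ => sf_zero_right u
  smul_mem' c _ hx := fun u hu => by rw [sf_smul_right, hx u hu, mul_zero]

theorem mem_perp {U : Submodule F Vm} {x : Vm} : x ∈ perp U ↔ ∀ u ∈ U, sf u x = 0 := Iff.rfl

theorem perp_inv {H : Subgroup Gm} {U : Submodule F Vm} (hU : Inv H U) : Inv H (perp U) :=
  fun g hg x hx u hu => by
    rw [← act_act_inv g u, sf_act]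
    exact hx _ (hU _ (H.inv_mem hg) u hu)

theorem perp_ne_bot {U : Submodule F Vm} (hU : U ≠ ⊤) : perp U ≠ ⊥ := by
  intro hb
  obtain ⟨x, hx⟩ : ∃ x, x ∉ U := by
    by_contra hcon
    push Not at hcon
    exact hU ((Submodule.eq_top_iff').2 hcon)
  obtain ⟨φ, hφ, hker⟩ := Submodule.exists_le_ker_of_notMem hx
  obtain ⟨y, hy⟩ := exists_rep φ
  have hy' : y ∈ perp U := fun u hu => by rw [hy]; exact hker hu
  rw [hb, Submodule.mem_bot] at hy'
  exact hφ (by rw [← hy, hy', sf_zero_right])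

/-- Two invariant subspaces splitting off each other. -/
theorem no_split (hd : Dims F k) {H : Subgroup Gm} (h : Tiny H) {U U' : Submodule F Vm} (hU : Inv H U)
    (hUU' : ∀ u ∈ U, ∀ w ∈ U', sf u w = 0) (hdis : U ⊓ U' = ⊥) (hne : ∀ u ∈ U, u ≠ 0 → ∃ x ∈ U, sf u x ≠ 0)
    (hU0 : U ≠ ⊥) (hU'0 : U' ≠ ⊥) (hc : Nat.card U ≤ qF * qF ^ k) : False := by
  obtain ⟨e, he, he0⟩ := Submodule.exists_mem_ne_zero_of_ne_bot hU0
  obtain ⟨g, hg⟩ := exists_act_eq e0_ne he0
  obtain ⟨w, hw, hw0⟩ := Submodule.exists_mem_ne_zero_of_ne_bot hU'0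
  have hR : (Rad : Subgroup Gm) ≤ cjg g H := rad_of_inv hd (h.cjg g) (mem_inv_cjg hU g)
    (mem_comap_act.2 (hg.symm ▸ he)) (le_of_eq_of_le (card_comap g U) hc)
  have hew : sf e w = 0 := hUU' e he w hw
  have hmem : eich e w 0 ∈ H := by
    have h1 : sf e₀ (act g⁻¹ w) = 0 := by rw [← sf_act g, act_act_inv, hg, hew]
    have h2 := mem_cjg.1 (hR (show eich e₀ (act g⁻¹ w) 0 ∈ (Rad : Subgroup Gm) from ⟨_, _, h1, rfl⟩))
    rwa [eich_conj g 0 h1, act_act_inv, hg] at h2
  obtain ⟨u, hu, hne'⟩ := hne e he he0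
  have h3 := hU _ hmem u hu
  rw [act_eich 0 hew, zero_mul, zero_add, sf_eq_zero_swap (hUU' u hu w hw), zero_smul, add_zero] at h3
  have h4 : sf e u • w ∈ U := by simpa using U.sub_mem h3 hu
  have h5 : w ∈ U := by
    have := U.smul_mem (sf e u)⁻¹ h4
    rwa [inv_smul_smul₀ hne'] at this
  exact hw0 ((Submodule.mem_bot F).1 (hdis ▸ ⟨h5, hw⟩))

theorem card_isotropic {U : Submodule F Vm} (hiso : ∀ u ∈ U, ∀ v ∈ U, sf u v = 0) :
    Nat.card U ≤ qF * qF ^ k := by
  let f : U →ₗ[F] U.dualAnnihilator :=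
    LinearMap.codRestrict _ ((sfBil F k).comp U.subtype)
      fun u => (Submodule.mem_dualAnnihilator _).2 fun v hv => hiso u.1 u.2 v hv
  have hf : Function.Injective f := by
    rw [injective_iff_map_eq_zero]
    intro u hu
    exact Subtype.ext (sfBil_alt.nondeg u.1 fun x => LinearMap.congr_fun (congrArg Subtype.val hu) x)
  have h1 := LinearMap.finrank_le_finrank_of_injective hf
  have h2 := Subspace.finrank_add_finrank_dualAnnihilator_eq U
  rw [finrank_Vm] at h2
  rw [Module.natCard_eq_pow_finrank (K := F), Nat.card_eq_fintype_card, ← pow_succ']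
  exact Nat.pow_le_pow_right Fintype.card_pos (by omega)

/-- An invariant totally isotropic subspace. -/
theorem no_isotropic (hd : Dims F k) {H : Subgroup Gm} (h : Tiny H) {U : Submodule F Vm} (hU : Inv H U)
    (hiso : ∀ u ∈ U, ∀ v ∈ U, sf u v = 0) (hU0 : U ≠ ⊥) : False := by
  have hc := card_isotropic hiso
  obtain ⟨b, hb, hb0⟩ := Submodule.exists_mem_ne_zero_of_ne_bot hU0
  by_cases h1 : ∀ u ∈ U, u ∈ F ∙ b
  · obtain ⟨g, hg⟩ := exists_act_eq e0_ne hb0
    have hle : cjg g H ≤ Pst := by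
      intro x hx
      have hx' := h1 _ (mem_inv_cjg hU g x hx e₀ (mem_comap_act.2 (hg.symm ▸ hb)))
      obtain ⟨c, hc⟩ := Submodule.mem_span_singleton.1 hx'
      exact mem_Pst_of (c := c) (act_injective g
        ((hc.symm : act g (act x e₀) = c • b).trans (by rw [act_smul, hg])))
    exact absurd (Nat.le_of_dvd (Nat.pos_of_ne_zero Subgroup.index_ne_zero_of_finite)
      (Subgroup.index_dvd_of_le hle)) (not_le.2 (h.cjg g).index_lt)
  push Not at h1
  obtain ⟨b', hb', hbb'⟩ := h1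
  obtain ⟨e, hne⟩ : ∃ e, sf b e ≠ 0 := Cfsg.Agent.Lead.Symp.exists_form_ne hb0
  obtain ⟨v, hv, hev, hv0⟩ : ∃ v ∈ U, sf v e = 0 ∧ v ≠ 0 := by
    refine ⟨b' - (sf b' e / sf b e) • b, U.sub_mem hb' (U.smul_mem _ hb),
      by rw [sf_sub_left, sf_smul_left, div_mul_cancel₀ _ hne, sub_self], fun e' => ?_⟩
    exact hbb' (Submodule.mem_span_singleton.2 ⟨_, (sub_eq_zero.1 e').symm⟩)
  have he0 : e ≠ 0 := fun e' => hne (by rw [e', sf_zero_right])
  obtain ⟨gv, hgv⟩ := exists_act_eq e0_ne hv0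
  have hR : (Rad : Subgroup Gm) ≤ cjg gv H := rad_of_inv hd (h.cjg gv) (mem_inv_cjg hU gv)
    (mem_comap_act.2 (hgv.symm ▸ hv)) (le_of_eq_of_le (card_comap gv U) hc)
  have hmem : eich v e 0 ∈ H := by
    have h1' : sf e₀ (act gv⁻¹ e) = 0 := by rw [← sf_act gv, act_act_inv, hgv, hev]
    have h2 := mem_cjg.1 (hR (show eich e₀ (act gv⁻¹ e) 0 ∈ (Rad : Subgroup Gm) from ⟨_, _, h1', rfl⟩))
    rwa [eich_conj gv 0 h1', act_act_inv, hgv] at h2
  have hev' : sf e v = 0 := sf_eq_zero_swap hev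
  have hsym : eich v e 0 = eich e v (0 : F) :=
    eq_of_act fun x => by rw [act_eich 0 hev, act_eich 0 hev']; module
  rw [hsym] at hmem
  obtain ⟨g, hg⟩ := exists_act_eq e0_ne he0
  obtain ⟨H', hH'⟩ : ∃ H', H' = cjg g H := ⟨_, rfl⟩
  obtain ⟨U₁, hU₁⟩ : ∃ U₁, U₁ = U.comap (Matrix.mulVecLin g.1) := ⟨_, rfl⟩
  have ht : Tiny H' := hH' ▸ h.cjg g
  have hinv : Inv H' U₁ := hH' ▸ hU₁ ▸ mem_inv_cjg hU g
  have hiso' : ∀ u ∈ U₁, ∀ v ∈ U₁, sf u v = 0 := fun u hu v hv => by
    rw [hU₁] at hu hv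
    rw [← sf_act g]
    exact hiso _ hu _ hv
  have hb1 : act g⁻¹ b ∈ U₁ := by rw [hU₁, mem_comap_act, act_act_inv]; exact hb
  have hne1 : sf e₀ (act g⁻¹ b) ≠ 0 := fun e' => hne (sf_eq_zero_swap (by
    rw [← sf_act g, hg, act_act_inv] at e'; exact e'))
  have hv1 : act g⁻¹ v ∈ U₁ := by rw [hU₁, mem_comap_act, act_act_inv]; exact hv
  have hev1 : sf e₀ (act g⁻¹ v) = 0 := by rw [← sf_act g, hg, act_act_inv, hev']
  have hm1 : eich e₀ (act g⁻¹ v) 0 ∈ H' := by
    rw [hH', mem_cjg, eich_conj g 0 hev1, hg, act_act_inv]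
    exact hmem
  have hz : zc H' = qF := zc_eq_q fun t ht => by
    have h2 := hinv _ ht _ hb1
    rw [act_tv] at h2
    have h3 : (t * sf e₀ (act g⁻¹ b)) • e₀ ∈ U₁ := by simpa using U₁.sub_mem h2 hb1
    by_contra ht0
    have h4 := hiso' _ h3 _ hb1
    rw [sf_smul_left] at h4
    exact mul_ne_zero (mul_ne_zero ht0 hne1) hne1 h4
  have hz1 : 1 < zc H' := hz ▸ Fintype.one_lt_card
  have hS : ∀ z ∈ Sb H', ∃ u ∈ U₁, ∃ c : F, z = u + c • e₀ := by
    rintro z ⟨hzW, a, ha⟩
    have h2 := hinv _ ha _ hb1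
    rw [el, act_eich a (W_perp hzW).1] at h2
    obtain ⟨s, hs⟩ : ∃ s, s = sf e₀ (act g⁻¹ b) := ⟨_, rfl⟩
    rw [← hs] at h2 hne1
    have h3 := U₁.smul_mem s⁻¹ (U₁.sub_mem h2 hb1)
    refine ⟨_, h3, -(s⁻¹ * (a * s + sf z (act g⁻¹ b))), ?_⟩
    rw [add_sub_right_comm, add_sub_cancel_left, smul_add, smul_smul, smul_smul, inv_mul_cancel₀ hne1, one_smul,
      neg_smul, add_neg_cancel_right]
  have hproj : projW 0 (act g⁻¹ v) ∈ Sb H' ∧ projW 0 (act g⁻¹ v) ≠ 0 := by
    refine ⟨⟨projW_mem 0 _, _, eich_eq_el 0 hev1 ▸ hm1⟩, fun e' => ?_⟩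
    have h2 := eq_projW_add 0 (act g⁻¹ v)
    rw [e', hev1, zero_smul, add_zero, add_zero] at h2
    obtain ⟨c, hc⟩ : ∃ c, c = sf (act g⁻¹ v) f₀ := ⟨_, rfl⟩
    rw [← hc] at h2
    have h3 := hiso' _ hv1 _ hb1
    rw [h2, sf_smul_left] at h3
    have hc0 := (mul_eq_zero.1 h3).resolve_right hne1
    exact hv0 (act_injective g⁻¹ (by rw [act_zero, h2, hc0, zero_smul]))
  rcases classify hd ht.few hz1 with ⟨-, hal⟩ | hσ | ⟨hk, hσ⟩
  · have hcard : Nat.card (Sb H') = Nat.card W₀ := by rw [card_W, ← al_mul H', hal, one_mul]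
    have hall : ∀ z ∈ W₀, z ∈ Sb H' := by
      have e1 : (Sb H' : Set Vm) = (W₀ : Set Vm) := Set.eq_of_subset_of_ncard_le (fun z hz => hz.1) (by
        rw [← Nat.card_coe_set_eq, ← Nat.card_coe_set_eq]; exact hcard.ge)
      intro z hz
      rw [← SetLike.mem_coe, e1]
      exact hz
    obtain ⟨x, hx, hxne⟩ := exists_W_ne hproj.1.1 hproj.2
    obtain ⟨u₁, hu₁, c₁, e₁⟩ := hS _ hproj.1
    obtain ⟨u₂, hu₂, c₂, e₂⟩ := hS x (hall x hx)
    have p₁ : sf e₀ u₁ = 0 := by
      have := (W_perp hproj.1.1).1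
      rwa [e₁, sf_add_right, sf_smul_right, sf_self, mul_zero, add_zero] at this
    have p₂ : sf e₀ u₂ = 0 := by
      have := (W_perp hx).1
      rwa [e₂, sf_add_right, sf_smul_right, sf_self, mul_zero, add_zero] at this
    apply hxne
    rw [e₁, e₂, sf_add_left, sf_add_right, sf_add_right, sf_smul_left, sf_smul_left, sf_smul_right, sf_smul_right,
      sf_self, hiso' _ hu₁ _ hu₂, p₂, sf_eq_zero_swap p₁]
    ring
  · have hbot : Sb H' = ⊥ := AddSubgroup.eq_bot_of_card_eq _ hσ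
    have := hproj.1
    rw [hbot, AddSubgroup.mem_bot] at this
    exact hproj.2 this
  · obtain ⟨-, -, hR'⟩ := lift_line hd ht.few hz1 hk hσ
    rw [hz] at hR'
    have hE := ht.lt
    have hsum : (qF - 1) * (Pst : Subgroup Gm).relIndex H' + Nat.card U₁ ≤ Nat.card Vm := by
      rw [← card_orbit_vec, ← Nat.card_sum]
      refine Nat.card_le_card_of_injective (Sum.elim (fun v => v.1) (fun u => u.1))
        (Function.Injective.sumElim Subtype.coe_injective Subtype.coe_injective fun v u e' => ?_)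
      obtain ⟨-, x, hx, c, hxc⟩ := v.2
      refine hne1 ?_
      rw [← sf_act x, hxc, sf_smul_left]
      have e'' : v.1 = u.1 := e'
      rw [e'', hiso' _ u.2 _ (hinv x hx _ hb1), mul_zero]
    have hU₁2 : qF * qF ≤ Nat.card U₁ := by
      rw [← Nat.card_eq_fintype_card, ← Nat.card_prod]
      refine Nat.card_le_card_of_injective
        (fun p : F × F => (⟨p.1 • act g⁻¹ v + p.2 • act g⁻¹ b, U₁.add_mem (U₁.smul_mem _ hv1)
          (U₁.smul_mem _ hb1)⟩ : U₁)) ?_
      intro p p' e'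
      have e'' : p.1 • act g⁻¹ v + p.2 • act g⁻¹ b = p'.1 • act g⁻¹ v + p'.2 • act g⁻¹ b :=
        congrArg Subtype.val e'
      have h2 := congrArg (sf e₀) e''
      rw [sf_add_right, sf_add_right, sf_smul_right, sf_smul_right, sf_smul_right, sf_smul_right, hev1, mul_zero,
        mul_zero, zero_add, zero_add] at h2
      have h3 := mul_right_cancel₀ hne1 h2
      rw [h3, add_left_inj] at e''
      exact Prod.ext (smul_left_injective F (fun h0 => hv0 (act_injective g⁻¹ (h0.trans (act_zero _).symm))) e'') h3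
    have hV : Nat.card Vm = qF ^ k * qF ^ k * (qF * qF) := by
      rw [Nat.card_eq_fintype_card, Fintype.card_fun, Fintype.card_sum, Fintype.card_fin, ← pow_two_mul_add_two]
      congr 1; omega
    have hQ : qF ^ k = qF := by rw [hk, pow_one]
    rw [hV, hQ] at hsum
    obtain ⟨t, ht'⟩ : ∃ t, qF = t + 1 := ⟨qF - 1, by have := Fintype.one_lt_card (α := F); omega⟩
    have h4 : qF * qF * (qF + 1) + 1 ≤ (Pst : Subgroup Gm).relIndex H' := by omega
    have h5 := Nat.mul_le_mul_left (qF - 1) h4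
    have hq4 := hd.four hk
    rw [ht', Nat.add_sub_cancel] at hsum h5
    rw [ht'] at hU₁2 hq4
    nlinarith

/-- A subgroup of small index is irreducible. -/
theorem irred (hd : Dims F k) {H : Subgroup Gm} (h : Tiny H) {U : Submodule F Vm} (hU : Inv H U) :
    U = ⊥ ∨ U = ⊤ := by
  by_contra hcon
  push Not at hcon
  obtain ⟨hU0, hU1⟩ := hcon
  by_cases hr : U ⊓ perp U = ⊥
  · have hperp : ∀ x ∈ perp U, ∀ u ∈ U, sf x u = 0 := fun x hx u hu => sf_eq_zero_swap (hx u hu)
    have hnd : ∀ u ∈ U, u ≠ 0 → ∃ x ∈ U, sf u x ≠ 0 := fun u hu hu0 => by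
      by_contra hc
      push Not at hc
      have hm : u ∈ U ⊓ perp U := ⟨hu, fun x hx => sf_eq_zero_swap (hc x hx)⟩
      rw [hr, Submodule.mem_bot] at hm
      exact hu0 hm
    have hU'0 := perp_ne_bot hU1
    have hsum : Nat.card U * Nat.card (perp U) ≤ qF * qF ^ k * (qF * qF ^ k) := by
      rw [← Nat.card_prod]
      refine le_trans (Nat.card_le_card_of_injective (fun p : U × perp U => p.1.1 + p.2.1) fun p p' e => ?_) ?_
      · have e' : p.1.1 + p.2.1 = p'.1.1 + p'.2.1 := e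
        have hm : p.1.1 - p'.1.1 ∈ U ⊓ perp U := ⟨U.sub_mem p.1.2 p'.1.2, by
          rw [show p.1.1 - p'.1.1 = p'.2.1 - p.2.1 by linear_combination (norm := module) e']
          exact (perp U).sub_mem p'.2.2 p.2.2⟩
        rw [hr, Submodule.mem_bot, sub_eq_zero] at hm
        rw [hm, add_right_inj] at e'
        exact Prod.ext (Subtype.ext hm) (Subtype.ext e')
      · rw [Nat.card_eq_fintype_card, Fintype.card_fun, Fintype.card_sum, Fintype.card_fin,
          show k + 1 + (k + 1) = 2 * k + 2 by omega, pow_two_mul_add_two]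
        exact le_of_eq (by ring)
    rcases Nat.lt_or_ge (qF * qF ^ k) (Nat.card U) with hlt | hle
    · refine no_split hd h (perp_inv hU) hperp (by rwa [inf_comm]) (fun x hx hx0 => ?_) hU'0 hU0 ?_
      · by_contra hc
        push Not at hc
        refine hx0 ?_
        have hVsum : ∀ y : Vm, ∃ u ∈ U, ∃ w ∈ perp U, y = u + w := by
          intro y
          have hsup : U ⊔ perp U = ⊤ := by
            refine Submodule.eq_top_of_finrank_eq ?_
            have h1 := Submodule.finrank_sup_add_finrank_inf_eq U (perp U)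
            rw [hr, finrank_bot, add_zero] at h1
            rw [h1]
            refine le_antisymm ?_ ?_
            · rw [← h1]; exact Submodule.finrank_le _
            · let f : Vm →ₗ[F] Module.Dual F U := ((sfBil F k).compl₁₂ U.subtype LinearMap.id).flip
              have hker : LinearMap.ker f ≤ perp U := fun z hz u hu => LinearMap.congr_fun (LinearMap.mem_ker.1 hz) ⟨u, hu⟩
              have h2 := f.finrank_range_add_finrank_ker
              have h3 := Submodule.finrank_mono hker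
              have h4 := (LinearMap.range f).finrank_le
              rw [Subspace.dual_finrank_eq] at h4
              omega
          have hy : y ∈ U ⊔ perp U := hsup ▸ Submodule.mem_top
          obtain ⟨u, hu, w, hw, rfl⟩ := Submodule.mem_sup.1 hy
          exact ⟨u, hu, w, hw, rfl⟩
        refine sfBil_alt.nondeg x fun y => ?_
        obtain ⟨u, hu, w, hw, rfl⟩ := hVsum y
        rw [sfBil_apply, sf_add_right, hperp x hx u hu, hc w hw, add_zero]
      · refine Nat.le_of_mul_le_mul_left ?_ (lt_of_le_of_lt (Nat.zero_le _) hlt)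
        exact le_trans hsum (Nat.mul_le_mul_right _ hlt.le)
    · exact no_split hd h hU (fun u hu w hw => mem_perp.1 hw u hu) hr hnd hU0 hU'0 hle
  · refine no_isotropic hd h (U := U ⊓ perp U) (fun g hg u hu => ⟨hU g hg u hu.1, perp_inv hU g hg u hu.2⟩)
      (fun u hu v hv => hv.2 u hu.1) hr

end Cfsg.Agent.Small.SpMinIndex
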