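import Cfsg.Agent.Lib.Small.SpMinIndex.Reduce
import Cfsg.Agent.Lib.Classical.SpRadical.Quad

/-!
# A radical section at a point in characteristic two

Either all transvections are present, or a quadratic form is fixed and the index is that of an orthogonal group.
-/

set_option autoImplicit false
set_option linter.unusedSectionVars false

namespace Cfsg.Agent.Small.SpMinIndex

open Matrix Module Cfsg.Agent.Small.PSpn
open Cfsg.Agent.Classical

variable {F : Type*} [Field F] [Fintype F] [CharP F 2] {k : ℕ}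

local notation "Vm" => Fin (k + 1) ⊕ Fin (k + 1) → F
local notation "Gm" => Matrix.symplecticGroup (Fin (k + 1)) F
local notation "e₀" => (se (0 : Fin (k + 1)) : Fin (k + 1) ⊕ Fin (k + 1) → F)
local notation "f₀" => (sff (0 : Fin (k + 1)) : Fin (k + 1) ⊕ Fin (k + 1) → F)
local notation "W₀" => (Wsub (0 : Fin (k + 1)) : Submodule F (Fin (k + 1) ⊕ Fin (k + 1) → F))
local notation "qF" => Fintype.card F

/-- Matrices as linear equivalences. -/
def toLE : Gm →* (Vm ≃ₗ[F] Vm) where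
  toFun g :=
    { Matrix.mulVecLin g.1 with
      invFun := act g⁻¹
      left_inv := act_inv_act g
      right_inv := act_act_inv g }
  map_one' := LinearEquiv.ext fun x => act_one x
  map_mul' g h := LinearEquiv.ext fun x => act_mul g h x

theorem toLE_apply (g : Gm) (x : Vm) : toLE g x = act g x := rfl

/-- The elements fixing a form. -/
def formStab (φ : Vm → F) : Subgroup Gm where
  carrier := {g | ∀ x, φ (act g x) = φ x}
  one_mem' := fun x => by rw [act_one]
  mul_mem' ha hb := fun x => by rw [act_mul, ha, hb]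
  inv_mem' {g} hg := fun x => by rw [← hg (act g⁻¹ x), act_act_inv]

theorem mem_formStab {φ : Vm → F} {g : Gm} : g ∈ formStab φ ↔ ∀ x, φ (act g x) = φ x := Iff.rfl

/-- The class of a form as cosets. -/
theorem exists_class_map {φ : Vm → F} {s : ℤ} (hφ : φ ∈ Cl (∅ : Set Vm) ⊤ s) {H : Subgroup Gm}
    (hH : H ≤ formStab φ) :
    ∃ f : Gm ⧸ H → Cl (∅ : Set Vm) ⊤ s, Function.Surjective f ∧
      (H = formStab φ → Function.Injective f) := by
  refine ⟨fun q => ⟨fun x => φ (act q.out⁻¹ x), Cl_map frame_top hφ fun x hx => hx.elim⟩, ?_, ?_⟩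
  · rintro ⟨ψ, hψ⟩
    obtain ⟨g, -, hg⟩ := Cl_trans frame_top hφ hψ
    obtain ⟨h, hh⟩ := QuotientGroup.mk_out_eq_mul H g⁻¹
    refine ⟨QuotientGroup.mk g⁻¹, Subtype.ext (funext fun x => ?_)⟩
    show φ (act (QuotientGroup.mk (s := H) g⁻¹).out⁻¹ x) = ψ x
    rw [hh, _root_.mul_inv_rev, inv_inv, act_mul, mem_formStab.1 (hH (H.inv_mem h.2)), hg]
  · intro e a b hab
    have h := congrArg Subtype.val hab
    rw [← QuotientGroup.out_eq' a, ← QuotientGroup.out_eq' b, QuotientGroup.eq]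
    refine e.ge ?_
    rw [mem_formStab]
    intro x
    rw [act_mul]
    exact (congrFun h (act b.out x)).trans (by show φ (act b.out⁻¹ (act b.out x)) = φ x; rw [act_inv_act])

theorem card_class_le {φ : Vm → F} {s : ℤ} (hφ : φ ∈ Cl (∅ : Set Vm) ⊤ s) {H : Subgroup Gm}
    (hH : H ≤ formStab φ) : (Cl (∅ : Set Vm) ⊤ s).ncard ≤ H.index := by
  obtain ⟨f, hf, -⟩ := exists_class_map hφ hH
  rw [← Nat.card_coe_set_eq]
  exact Nat.card_le_card_of_surjective f hf

theorem index_formStab {φ : Vm → F} {s : ℤ} (hφ : φ ∈ Cl (∅ : Set Vm) ⊤ s) :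
    (formStab φ).index = (Cl (∅ : Set Vm) ⊤ s).ncard := by
  obtain ⟨f, hf, hi⟩ := exists_class_map hφ (le_refl (formStab φ))
  rw [← Nat.card_coe_set_eq]
  exact Nat.card_congr (Equiv.ofBijective f ⟨hi rfl, hf⟩)

/-- No form is fixed by a subgroup of small index. -/
theorem no_form (hd : Dims F k) {H : Subgroup Gm} (h : Tiny H) {φ : Vm → F} (hφ : φ ∈ Fr (∅ : Set Vm))
    (hH : H ≤ formStab φ) : False := by
  obtain ⟨s, hs⟩ : ∃ s, s = csum (⊤ : Submodule F Vm) φ := ⟨_, rfl⟩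
  have h0 := csum_sq frame_top hφ
  rw [← hs] at h0
  have h2 := two_card_Cl frame_top hφ h0
  have hle := card_class_le (s := s) ⟨hφ, hs.symm⟩ hH
  obtain ⟨c, hc⟩ : ∃ c, c = (Cl (∅ : Set Vm) (⊤ : Submodule F Vm) s).ncard := ⟨_, rfl⟩
  rw [← hc] at h2 hle
  obtain ⟨Q, hQ⟩ : ∃ Q, Q = qF ^ (k + 1) := ⟨_, rfl⟩
  have hQ' : (qF : ℤ) ^ (2 * (k + 1)) = (Q : ℤ) * Q := by rw [hQ]; push_cast; ring
  have hlow : Q * Q ≤ 2 * c + Q := by
    have : (Q : ℤ) * Q ≤ 2 * c + Q := by
      rw [hQ'] at h2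
      rcases h0 with e | e <;> rw [e, show (qF : ℤ) ^ (k + 1) = (Q : ℤ) by rw [hQ]; push_cast; rfl] at h2 <;>
        nlinarith [(Nat.cast_nonneg Q : (0 : ℤ) ≤ Q)]
    exact_mod_cast this
  have hpts := h.pts
  rw [show qF ^ k * qF ^ k * (qF * qF) = Q * Q by rw [hQ, pow_succ]; ring] at hpts
  by_cases hq2 : qF = 2
  · have h4 := h.two hq2
    rw [hQ, hq2] at hlow
    have h5 : (1 : ℕ) ≤ 2 ^ (k + 1) := Nat.one_le_two_pow
    obtain ⟨P, hP⟩ : ∃ P, 2 ^ (k + 1) = P + 1 := ⟨2 ^ (k + 1) - 1, by omega⟩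
    rw [hP] at hlow
    rw [hP, Nat.add_sub_cancel] at h4
    have h6 : 2 * (2 ^ k * P) = (P + 1) * P := by rw [← mul_assoc, ← pow_succ', hP]
    nlinarith
  · have h3 : 4 ≤ qF := by
      obtain ⟨⟨e, he0⟩, -, he⟩ := FiniteField.card F 2
      simp only [PNat.mk_coe] at he
      rcases Nat.lt_or_ge e 2 with h' | h'
      · interval_cases e; omega
      · rw [he]; exact le_trans (by norm_num) (Nat.pow_le_pow_right two_pos h')
    have hQ4 : qF * qF ≤ Q := by
      rw [hQ, ← pow_two]; exact Nat.pow_le_pow_right Fintype.card_pos (by have := hd.one; omega)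
    obtain ⟨t, ht⟩ : ∃ t, qF = t + 4 := ⟨qF - 4, by omega⟩
    rw [ht, show t + 4 - 1 = t + 3 from rfl] at hpts
    rw [ht] at hQ4
    have h7 : (t + 1) * Q * Q ≤ (t + 3) * Q := by
      nlinarith [Nat.mul_le_mul_left (t + 3) hle, Nat.mul_le_mul_left (t + 3) hlow]
    have h8 := Nat.le_of_mul_le_mul_right h7 (by nlinarith)
    nlinarith [Nat.mul_le_mul_left (t + 1) hQ4]

/-- The section is impossible. -/
theorem no_section (hd : Dims F k) {H : Subgroup Gm} (h : Tiny H) (hal : al H = 1) (he : ¬ Full H e₀) :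
    False := by
  classical
  have hall : ∀ z ∈ W₀, z ∈ Sb H := by
    have e1 : (Sb H : Set Vm) = (W₀ : Set Vm) := Set.eq_of_subset_of_ncard_le (fun z hz => hz.1) (by
      rw [← Nat.card_coe_set_eq, ← Nat.card_coe_set_eq, SetLike.coe_sort_coe, SetLike.coe_sort_coe, card_W,
        ← al_mul H, hal, one_mul])
    intro z hz
    rw [← SetLike.mem_coe, e1]
    exact hz
  obtain ⟨φ0, hφ0⟩ : ∃ φ0, φ0 ∈ Fr ({e₀, f₀} : Set Vm) := ⟨_, stdForm_mem⟩
  let S : AddSubgroup (W₀ × F) :=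
    { carrier := {p | el p.1.1 (p.2 + φ0 p.1.1) ∈ H}
      zero_mem' := by
        show el ((0 : W₀) : Vm) ((0 : F) + φ0 ((0 : W₀) : Vm)) ∈ H
        rw [Submodule.coe_zero, Fr_zero hφ0, add_zero, el_zero]; exact H.one_mem
      add_mem' := fun {p p'} hp hp' => by
        show el ((p + p').1 : Vm) ((p + p').2 + φ0 (p + p').1) ∈ H
        have h2 := H.mul_mem hp hp'
        rw [el_mul _ _ p.1.2 p'.1.2] at h2
        rw [Prod.fst_add, Prod.snd_add, Submodule.coe_add, hφ0.1]
        convert h2 using 2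
        ring
      neg_mem' := fun {p} hp => by
        show el ((-p).1 : Vm) ((-p).2 + φ0 (-p).1) ∈ H
        have h2 := H.inv_mem hp
        rw [el_inv _ p.1.2] at h2
        rw [Prod.fst_neg, Prod.snd_neg, Submodule.coe_neg]
        convert h2 using 2
        rw [← neg_one_smul F (p.1 : Vm), hφ0.2.1, CharTwo.neg_eq (1 : F), one_pow, one_mul, CharTwo.neg_eq,
          CharTwo.neg_eq] }
  letI : Module (ZMod 2) S := AddCommGroup.zmodModule fun x => Subtype.ext (Prod.ext
    (Subtype.ext (by rw [two_nsmul]; exact SpRad.add_self_vec F _)) (by rw [two_nsmul]; exact CharTwo.add_self_eq_zero _))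
  letI : Module (ZMod 2) W₀ := AddCommGroup.zmodModule fun x =>
    Subtype.ext (by rw [two_nsmul]; exact SpRad.add_self_vec F _)
  let π : S →+ W₀ := (AddMonoidHom.fst W₀ F).comp S.subtype
  have hπ : LinearMap.range (π.toZModLinearMap 2) = ⊤ := LinearMap.range_eq_top.2 fun z => by
    obtain ⟨-, a, ha⟩ := hall z.1 z.2
    exact ⟨⟨(z, a + φ0 z.1), show el z.1 (a + φ0 z.1 + φ0 z.1) ∈ H by
      rwa [add_assoc, CharTwo.add_self_eq_zero, add_zero]⟩, rfl⟩
  obtain ⟨σ, hσ⟩ := (π.toZModLinearMap 2).exists_rightInverse_of_surjective hπ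
  have hσ' : ∀ z, ((σ z).1).1 = z := fun z => LinearMap.congr_fun hσ z
  obtain ⟨φ, hφ⟩ : ∃ φ : W₀ → F, ∀ z, φ z = ((σ z).1).2 + φ0 z.1 := ⟨_, fun z => rfl⟩
  have hmem : ∀ z : W₀, el z.1 (φ z) ∈ H := fun z => by
    have h2 : el (((σ z).1).1 : Vm) (((σ z).1).2 + φ0 ((σ z).1).1) ∈ H := (σ z).2
    rw [hσ' z] at h2
    rw [hφ]
    exact h2
  have hadd : ∀ z w : W₀, φ (z + w) = φ z + φ w + sf z.1 w.1 := fun z w => by
    rw [hφ, hφ, hφ, map_add, AddSubgroup.coe_add, Prod.snd_add, Submodule.coe_add, hφ0.1]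
    ring
  obtain ⟨L, hL⟩ : ∃ L : Subgroup (Vm ≃ₗ[F] Vm), L = H.map toLE := ⟨_, rfl⟩
  have hfull : SpRad.Full (sfBil F k) L e₀ := by
    refine ⟨fun v => φ ⟨projW 0 v, projW_mem 0 v⟩, fun v w hv hw => ?_, fun r => ?_, fun v hv => ?_⟩
    · rw [sfBil_apply] at hv hw ⊢
      have e : (⟨projW 0 (v + w), projW_mem 0 _⟩ : W₀) =
          ⟨projW 0 v, projW_mem 0 v⟩ + ⟨projW 0 w, projW_mem 0 w⟩ := Subtype.ext (projW_add 0 v w)
      dsimp only
      rw [e, hadd]
      congr 1
      conv_rhs => rw [eq_projW_add 0 v, eq_projW_add 0 w, hv, hw]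
      simp only [zero_smul, add_zero, sf_add_left, sf_add_right, sf_smul_left, sf_smul_right, sf_self, mul_zero,
        (W_perp (projW_mem 0 w)).1, (W_perp (projW_mem 0 v)).2.1, zero_add]
    · have e : (⟨projW 0 (r • e₀), projW_mem 0 _⟩ : W₀) = 0 := Subtype.ext (by
        show projW 0 (r • e₀) = 0
        rw [projW, sf_smul_left, sf_smul_right, sf_ef, sf_self, mul_one, mul_zero, zero_smul, sub_self, sub_zero])
      dsimp only
      rw [e]
      have h2 := hadd 0 0
      rw [add_zero, Submodule.coe_zero, sf_zero_left, add_zero] at h2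
      exact left_eq_add.1 h2
    · rw [sfBil_apply] at hv
      refine ⟨toLE (eich e₀ v (φ ⟨projW 0 v, projW_mem 0 v⟩)), ?_, fun x => ?_⟩
      · rw [hL]
        refine Subgroup.mem_map_of_mem _ ?_
        rw [eich_eq_el _ hv, two_zero, zero_mul, add_zero]
        exact hmem ⟨_, projW_mem 0 v⟩
      · rw [toLE_apply, act_eich _ hv, SpRad.rmap, sfBil_apply, sfBil_apply, sf_symm e₀ x, sf_symm v x]
        module
  have hTrans : ∀ (v : Vm) (s : F), SpRad.In (sfBil F k) L v 0 s → tv v s ∈ H := by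
    rintro v s ⟨g, hg, hg'⟩
    rw [hL] at hg
    obtain ⟨x, hx, rfl⟩ := hg
    suffices e : x = tv v s by rwa [← e]
    refine eq_of_act fun (y : Vm) => ?_
    rw [show act x y = toLE x y from rfl, hg', SpRad.rmap, sfBil_apply, map_zero, act_tv, smul_zero, zero_smul, add_zero,
      add_zero, sf_symm v y]
  have S' : SpRad.Setup (sfBil F k) L :=
    { alt := sfBil_alt
      pres := fun g hg x y => by
        rw [hL] at hg
        obtain ⟨a, -, rfl⟩ := hg
        exact sf_act a x y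
      irr := fun U hU => irred hd h fun g hg u hu => hU _ (hL ▸ Subgroup.mem_map_of_mem _ hg) u hu
      start := ⟨e₀, e0_ne, hfull⟩
      dim := by rw [finrank_Vm]; have := hd.one; omega }
  by_cases hN : SpRad.NoTrans (sfBil F k) L
  · have hG : SpRad.Good (sfBil F k) L := by
      by_cases hq2 : qF = 2
      · refine SpRad.good_of_dim S'.alt S'.pres ?_
        rw [finrank_Vm]
        by_cases hk : k = 1
        · have := hd.four hk; omega
        · have := hd.one; omega
      · exact SpRad.good_of_card S'.alt S'.pres hN (by rwa [Nat.card_eq_fintype_card])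
    obtain ⟨Q, hQ1, hQ2, -⟩ := SpRad.exists_form hN hG S'
    refine no_form hd h (φ := fun x => Q x) ⟨fun x y => ?_, fun c x => ?_, fun x hx => hx.elim⟩ fun g hg x => ?_
    · show Q (x + y) = Q x + Q y + sf x y
      rw [QuadraticMap.map_add Q, hQ1, sfBil_apply]
    · show Q (c • x) = c ^ 2 * Q x
      rw [QuadraticMap.map_smul, smul_eq_mul, pow_two]
    · exact hQ2 _ (hL ▸ Subgroup.mem_map_of_mem _ hg) x
  · rw [SpRad.NoTrans] at hN
    push Not at hN
    obtain ⟨a, ha0, ha, t, ht, ht0⟩ := hN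
    exact he fun s => hTrans _ _ (S'.all_trans ha0 ha ht0 ht e₀ s)

end Cfsg.Agent.Small.SpMinIndex
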